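import Cfsg.Agent.M22Order.Invariant

/-!
# An elementary abelian subgroup of order sixteen equal to its centraliser
-/

set_option autoImplicit false

namespace Cfsg.Agent.M22Order

open Subgroup

universe u

variable {G : Type u} [Group G] [Fintype G]

theorem normal_two_le {X : Type u} [Group X] [Finite X] (S : Sylow 2 X) {H : Subgroup X}
    [H.Normal] (hH : IsPGroup 2 H) : H ≤ (S : Subgroup X).normalCore := by
  have : Fact (Nat.Prime 2) := ⟨Nat.prime_two⟩
  refine Subgroup.normal_le_normalCore.2 ?_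
  obtain ⟨T, hT⟩ := hH.exists_le_sylow
  obtain ⟨g, rfl⟩ := MulAction.exists_smul_eq X T S
  intro h hh
  have h1 : g⁻¹ * h * g ∈ (T : Subgroup X) := hT (by
    have := Subgroup.Normal.conj_mem ‹H.Normal› h hh g⁻¹
    rwa [inv_inv] at this)
  have h2 := Subgroup.smul_mem_pointwise_smul _ (MulAut.conj g) _ h1
  rw [MulAut.smul_def, MulAut.conj_apply, show g * (g⁻¹ * h * g) * g⁻¹ = h by group] at h2
  exact h2

/-- The configuration: two four groups which centralise each other. -/
structure Config (G : Type u) [Group G] [Fintype G] where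
  P : Subgroup G
  y : G
  b : G
  t : G
  Q : Subgroup G
  hP : IsNine P
  hy : y ∈ P
  hy1 : y ≠ 1
  hb : b ∈ P
  hb1 : b ≠ 1
  hby : b ∉ zpowers y
  ht : t ∈ fourGroup y
  hto : orderOf t = 2
  hcomm : ∀ u ∈ fourGroup y, ∀ v ∈ fourGroup b, Commute u v
  hQle : Q ≤ centralizer ({t} : Set G)
  hQcard : Nat.card Q = 64
  hQn : centralizer ({t} : Set G) ≤ normalizer (Q : Set G)
  hQy : y ∉ Q
  hKQ : fourGroup y ≤ Q
  hQfix : Q ⊓ centralizer ({y} : Set G) = fourGroup y

theorem Facts.exists_core (hF : Facts G) (K : Chars G) {t y : G} (hy : orderOf y = 3)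
    (ht : orderOf t = 2) (hty : t ∈ fourGroup y) :
    ∃ Q : Subgroup G, Q ≤ centralizer ({t} : Set G) ∧ Nat.card Q = 64 ∧
      centralizer ({t} : Set G) ≤ normalizer (Q : Set G) ∧ y ∉ Q ∧ fourGroup y ≤ Q ∧
      Q ⊓ centralizer ({y} : Set G) = fourGroup y := by
  classical
  have : Fact (Nat.Prime 2) := ⟨Nat.prime_two⟩
  have htyc : Commute t y := ((hF.mem_four K hy t).1 hty).2
  set C := centralizer ({t} : Set G) with hC
  have hc := (hF.involution K ht).1
  obtain ⟨c, hct, hcy⟩ := hF.exists_inverter K ht hy htyc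
  let y' : C := ⟨y, mem_centralizer_singleton_iff.2 htyc.symm.eq⟩
  let c' : C := ⟨c, mem_centralizer_singleton_iff.2 hct.eq⟩
  have hcy' : c' * y' * c'⁻¹ = y'⁻¹ := Subtype.ext hcy
  have hy' : orderOf y' = 3 := by rw [← Subgroup.orderOf_coe]; exact hy
  obtain ⟨L⟩ : Nonempty (Sylow 2 C) := Sylow.nonempty
  have hL : Nat.card (L : Subgroup C) = 128 := by
    rw [Sylow.card_eq_multiplicity, hc, show (384 : ℕ) = 2 ^ 7 * 3 from rfl,
      Nat.factorization_mul (by norm_num) (by norm_num), Finsupp.add_apply,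
      Nat.factorization_eq_zero_of_not_dvd (by norm_num : ¬ 2 ∣ 3),
      Nat.Prime.factorization_pow Nat.prime_two, Finsupp.single_eq_same]
    norm_num
  set Q' := (L : Subgroup C).normalCore with hQ'
  have hidx : Q'.index ∣ 6 := by
    rw [hQ', Subgroup.normalCore_eq_ker, Subgroup.index_ker]
    refine (Subgroup.card_subgroup_dvd_card _).trans ?_
    rw [Nat.card_perm]
    have h3 : Nat.card (C ⧸ (L : Subgroup C)) = 3 := by
      have h := (L : Subgroup C).card_mul_index
      rw [hL, hc] at h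
      rw [← Subgroup.index_eq_card]
      omega
    rw [h3]
    exact dvd_of_eq (by decide)
  have hQL : Q' ≤ (L : Subgroup C) := Subgroup.normalCore_le _
  have hdvd : Nat.card Q' ∣ 128 := hL ▸ card_dvd_of_le hQL
  have hyQ : y' ∉ Q' := fun h => by
    have h1 := (Q'.orderOf_dvd_natCard h).trans hdvd
    rw [hy'] at h1
    norm_num at h1
  have hnc : ∀ hcomm : (∀ p q : C ⧸ Q', p * q = q * p), False := by
    intro hcomm
    have h1 : ((c' * y' * c'⁻¹ : C) : C ⧸ Q') = (y' : C ⧸ Q') := by
      rw [QuotientGroup.mk_mul, QuotientGroup.mk_mul, hcomm (c' : C ⧸ Q'), QuotientGroup.mk_inv,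
        mul_inv_cancel_right]
    rw [hcy'] at h1
    have h2 := QuotientGroup.eq.1 h1
    rw [inv_inv] at h2
    have hy3 : y' ^ 3 = 1 := hy' ▸ pow_orderOf_eq_one y'
    refine hyQ ?_
    have h3 := inv_mem h2
    rwa [mul_inv_rev, ← mul_inv_rev, show (y' * y')⁻¹ = y' by
      refine inv_eq_of_mul_eq_one_right ?_
      rw [← sq, ← pow_succ, hy3]] at h3
  have hQ64 : Q'.index = 6 ∧ Nat.card Q' = 64 := by
    have h := Q'.card_mul_index
    rw [hc] at h
    have hle : Q'.index ≤ 6 := Nat.le_of_dvd (by norm_num) hidx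
    have hle' : Nat.card Q' ≤ 128 := Nat.le_of_dvd (by norm_num) hdvd
    have h3 : Q'.index ≠ 3 := fun e => hnc (by
      have : Fact (Nat.Prime 3) := ⟨Nat.prime_three⟩
      have := isCyclic_of_prime_card (α := C ⧸ Q') (p := 3) (by rw [← Subgroup.index_eq_card, e])
      exact IsCyclic.isMulCommutative.is_comm.comm)
    interval_cases hi : Q'.index <;> omega
  have hKle : fourGroup y ≤ Q'.map C.subtype := by
    intro u hu
    have huC : u ∈ C := mem_centralizer_singleton_iff.2 (hF.four_commute K hy hu hty).eq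
    refine ⟨⟨u, huC⟩, ?_, rfl⟩
    show (⟨u, huC⟩ : C) ∈ Q'
    by_contra huQ
    have hcard : Nat.card (C ⧸ Q') = 6 := by rw [← Subgroup.index_eq_card, hQ64.1]
    let u' : C := ⟨u, huC⟩
    have hu2 : orderOf (u' : C ⧸ Q') = 2 := by
      refine orderOf_two_of_sq ?_ (fun e => huQ ((QuotientGroup.eq_one_iff _).1 e))
      rw [← QuotientGroup.mk_mul, show u' * u' = 1 from Subtype.ext ((hF.mem_four K hy u).1 hu).1,
        QuotientGroup.mk_one]
    have hy3' : orderOf (y' : C ⧸ Q') = 3 := by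
      refine orderOf_eq_prime (hp := ⟨Nat.prime_three⟩) ?_ fun e => hyQ ((QuotientGroup.eq_one_iff _).1 e)
      rw [← QuotientGroup.mk_pow, show y' ^ 3 = 1 from hy' ▸ pow_orderOf_eq_one y',
        QuotientGroup.mk_one]
    have hcm : Commute (u' : C ⧸ Q') (y' : C ⧸ Q') := by
      show (u' : C ⧸ Q') * y' = y' * u'
      rw [← QuotientGroup.mk_mul, ← QuotientGroup.mk_mul,
        show u' * y' = y' * u' from Subtype.ext ((hF.mem_four K hy u).1 hu).2.eq]
    have h6 := hcm.orderOf_mul_eq_mul_orderOf_of_coprime (by rw [hu2, hy3']; norm_num)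
    rw [hu2, hy3'] at h6
    have := isCyclic_of_orderOf_eq_card ((u' : C ⧸ Q') * y') (by rw [h6, hcard])
    exact hnc IsCyclic.isMulCommutative.is_comm.comm
  refine ⟨Q'.map C.subtype, Subgroup.map_subtype_le _, ?_, ?_, ?_, ?_, ?_⟩
  · rw [Subgroup.card_map_of_injective C.subtype_injective, hQ64.2]
  · intro g hg
    refine mem_normalizer_of_conj ?_
    rintro _ ⟨q, hq, rfl⟩
    exact ⟨⟨g, hg⟩ * q * ⟨g, hg⟩⁻¹, (inferInstance : Q'.Normal).conj_mem q hq _, rfl⟩
  · rintro ⟨q, hq, hqy⟩
    exact hyQ (show y' ∈ Q' from (Subtype.ext hqy : q = y') ▸ hq)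
  · exact hKle
  · refine le_antisymm (fun x hx => ?_) (le_inf ?_ (hF.four_le_centralizer K hy))
    · obtain ⟨⟨q, hq, rfl⟩, hxy⟩ := mem_inf.1 hx
      refine hF.two_mem_four K hy (mem_centralizer_singleton_iff.1 hxy) ⟨7, ?_⟩
      have h1 := (Q'.orderOf_dvd_natCard hq).trans hdvd
      have h2 : q ^ 2 ^ 7 = 1 := orderOf_dvd_iff_pow_eq_one.1 (by norm_num; exact h1)
      simpa using congrArg Subtype.val h2
    · exact hKle

theorem two_pow_of_dvd {n k : ℕ} (h : n ∣ 2 ^ k) (h4 : 4 ≤ n) (h3 : n % 3 = 1) (hk : k ≤ 7) :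
    n = 4 ∨ n = 16 ∨ n = 64 := by
  obtain ⟨i, hi, rfl⟩ := (Nat.dvd_prime_pow Nat.prime_two).1 h
  have : i ≤ 7 := hi.trans hk
  interval_cases i <;> simp_all

theorem Facts.exists_config (hF : Facts G) (K : Chars G) : Nonempty (Config G) := by
  classical
  have : Fact (Nat.Prime 2) := ⟨Nat.prime_two⟩
  have : Fact (Nat.Prime 3) := ⟨Nat.prime_three⟩
  obtain ⟨y, hy⟩ := exists_prime_orderOf_dvd_card' (G := G) 3 (by rw [hF.card]; norm_num)
  obtain ⟨P, hPc, hyP, hPcomm, hPexp⟩ := hF.exists_nine K hy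
  have hP : IsNine P := ⟨hPc, hPcomm, hPexp⟩
  have hy1 : y ≠ 1 := fun e => by rw [e, orderOf_one] at hy; norm_num at hy
  obtain ⟨t, htK, hto⟩ := hF.exists_involution_four K hy
  obtain ⟨Q, hQle, hQc, hQn, hQy, hKQ, hQfix⟩ := hF.exists_core K hy hto htK
  have hyC : y ∈ centralizer ({t} : Set G) :=
    mem_centralizer_singleton_iff.2 ((hF.mem_four K hy t).1 htK).2.symm.eq
  have hyy : y * y * y⁻¹ = y := mul_inv_cancel_right y y
  -- the part of `Q` normalising the four group
  set N := Q ⊓ normalizer (fourGroup y : Set G) with hN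
  set Z := Q ⊓ centralizer (fourGroup y : Set G) with hZ
  have hKN : fourGroup y ≤ N := le_inf hKQ Subgroup.le_normalizer
  have hNy : ∀ x ∈ N, y * x * y⁻¹ ∈ N := by
    intro x hx
    obtain ⟨h1, h2⟩ := mem_inf.1 hx
    have hyN : y ∈ normalizer (fourGroup y : Set G) :=
      mem_normalizer_of_conj fun z hz => hF.four_conj K hy (Or.inl hyy) hz
    exact mem_inf.2 ⟨conj_mem_of_mem_normalizer (hQn hyC) h1,
      mul_mem (mul_mem hyN h2) (inv_mem hyN)⟩
  have hN3 : Nat.card N % 3 = 1 := by
    rw [hF.card_mod_three K hy hNy, show N ⊓ centralizer ({y} : Set G) = fourGroup y from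
      le_antisymm (hQfix ▸ inf_le_inf_right _ inf_le_left)
        (le_inf hKN (hF.four_le_centralizer K hy)), (hF.fourGroup_spec K hy).1]
  have hNgt : 4 < Nat.card N := by
    have hp : IsPGroup 2 Q := IsPGroup.of_card (n := 6) (by rw [hQc]; norm_num)
    have : Group.IsNilpotent Q := hp.isNilpotent
    have hlt : (fourGroup y).subgroupOf Q < ⊤ := by
      refine lt_top_iff_ne_top.2 fun e => ?_
      rw [subgroupOf_eq_top] at e
      have := card_dvd_of_le e
      rw [hQc, (hF.fourGroup_spec K hy).1] at this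
      norm_num at this
    have hgrow := normalizerCondition_of_isNilpotent (G := Q) _ hlt
    obtain ⟨q, hq, hqK⟩ := SetLike.exists_of_lt hgrow
    have hqN : (q : G) ∈ N := mem_inf.2 ⟨q.2, mem_normalizer_of_conj fun x hx =>
      (conj_mem_of_mem_normalizer hq (show (⟨x, hKQ hx⟩ : Q) ∈ (fourGroup y).subgroupOf Q from hx) :
        q * ⟨x, hKQ hx⟩ * q⁻¹ ∈ (fourGroup y).subgroupOf Q)⟩
    rw [← (hF.fourGroup_spec K hy).1]
    refine lt_of_le_of_ne (Nat.le_of_dvd Nat.card_pos (card_dvd_of_le hKN)) fun e => hqK ?_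
    show (q : G) ∈ fourGroup y
    rw [Subgroup.eq_of_le_of_card_ge hKN e.ge]
    exact hqN
  have hZK : ¬ Z ≤ fourGroup y := by
    intro hle
    have hNd : Nat.card N ∣ 2 ^ 6 := by
      rw [show (2 : ℕ) ^ 6 = 64 from rfl, ← hQc]
      exact card_dvd_of_le inf_le_left
    have hN16 : 16 ≤ Nat.card N := by
      rcases two_pow_of_dvd hNd hNgt.le hN3 (by norm_num) with e | e | e <;> omega
    obtain ⟨q₁, hq₁, hq₁K⟩ : ∃ q ∈ N, q ∉ fourGroup y := by
      by_contra! h
      have := Nat.le_of_dvd Nat.card_pos (card_dvd_of_le (show N ≤ fourGroup y from h))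
      rw [(hF.fourGroup_spec K hy).1] at this
      omega
    have key : ∀ q ∈ N, q ∉ fourGroup y → q₁⁻¹ * q ∈ fourGroup y := by
      intro q hq hqK
      by_contra h
      -- all three move the involutions other than `t` in the same way
      obtain ⟨u, hu, hu1, hut⟩ : ∃ u ∈ fourGroup y, u ≠ 1 ∧ u ≠ t := by
        by_contra! hall
        have hsub : (Finset.univ.filter fun z => z ∈ fourGroup y) ⊆ {1, t} := fun z hz => by
          rw [Finset.mem_filter] at hz
          by_cases hz1 : z = 1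
          · simp [hz1]
          · simp [hall z hz.2 hz1]
        have h2 := Finset.card_le_card hsub
        have h4 := (hF.fourGroup_spec K hy).1
        rw [Nat.card_eq_fintype_card, Fintype.card_subtype] at h4
        rw [h4] at h2
        have := (Finset.card_insert_le 1 {t}).trans_eq (by rw [Finset.card_singleton])
        omega
      have ht1 : t ≠ 1 := fun e => by rw [e, orderOf_one] at hto; norm_num at hto
      have hmove : ∀ r ∈ N, r ∉ fourGroup y → r * u * r⁻¹ = t * u := by
        intro r hr hrK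
        obtain ⟨hrQ, hrn⟩ := mem_inf.1 hr
        have hrt : r * t * r⁻¹ = t := by
          rw [mem_centralizer_singleton_iff.1 (hQle hrQ), mul_inv_cancel_right]
        rcases hF.four_triple K hy htK hu ht1 hu1 (Ne.symm hut)
          (conj_mem_of_mem_normalizer hrn hu) with e | e | e | e
        · exact absurd (by rw [mul_inv_eq_one, mul_eq_left] at e; exact e) hu1
        · exact absurd (by
            have h2 := e.trans hrt.symm
            exact mul_left_cancel (mul_right_cancel h2)) hut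
        · exfalso
          refine hrK (hle (mem_inf.2 ⟨hrQ, mem_centralizer_iff.2 fun x hx => ?_⟩))
          have hrc : ∀ z, r * z * r⁻¹ = z → z * r = r * z := fun z hz =>
            (mul_inv_eq_iff_eq_mul.1 hz).symm
          rcases hF.four_triple K hy htK hu ht1 hu1 (Ne.symm hut) hx with f | f | f | f <;> rw [f]
          · simp
          · exact hrc t hrt
          · exact hrc u e
          · exact hrc _ (by rw [show r * (t * u) * r⁻¹ = (r * t * r⁻¹) * (r * u * r⁻¹) by group, hrt, e])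
        · exact e
      have h2 : q₁⁻¹ * q * u * (q₁⁻¹ * q)⁻¹ = u := by
        rw [show q₁⁻¹ * q * u * (q₁⁻¹ * q)⁻¹ = q₁⁻¹ * (q * u * q⁻¹) * q₁ by group, hmove q hq hqK,
          ← hmove q₁ hq₁ hq₁K]
        group
      have h3 : q₁⁻¹ * q ∈ N := mul_mem (inv_mem hq₁) hq
      have h4 := hmove _ h3 h
      rw [h2] at h4
      exact ht1 (mul_eq_right.1 h4.symm)
    let f : N → Bool × fourGroup y := fun q =>
      if hq : (q : G) ∈ fourGroup y then (false, ⟨q, hq⟩) else (true, ⟨_, key q q.2 hq⟩)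
    have hf : Function.Injective f := by
      intro a a' e
      simp only [f] at e
      split_ifs at e with h1 h2 h2 <;> simp only [Prod.mk.injEq, Subtype.mk.injEq] at e
      · exact Subtype.ext e.2
      · exact absurd e.1 (by decide)
      · exact absurd e.1 (by decide)
      · exact Subtype.ext (mul_left_cancel e.2)
    have h5 := Nat.card_le_card_of_injective f hf
    rw [Nat.card_prod, (hF.fourGroup_spec K hy).1, Nat.card_eq_fintype_card (α := Bool),
      Fintype.card_bool] at h5
    omega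
  -- the largest normal 2-subgroup of the centraliser of the four group
  set X := centralizer (fourGroup y : Set G) with hX
  obtain ⟨S⟩ : Nonempty (Sylow 2 X) := Sylow.nonempty
  set W := ((S : Subgroup X).normalCore).map X.subtype with hW
  have hWp : IsPGroup 2 W := by
    rw [hW]
    exact (S.2.to_le (Subgroup.normalCore_le _)).map _
  have hXt : X ≤ centralizer ({t} : Set G) := centralizer_le (Set.singleton_subset_iff.2 htK)
  have hZW : Z ≤ W := by
    have : ((Q ⊓ X).subgroupOf X).Normal := by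
      refine normal_subgroupOf_of_le_normalizer fun g hg => mem_normalizer_of_conj fun x hx => ?_
      obtain ⟨h1, h2⟩ := mem_inf.1 hx
      exact mem_inf.2 ⟨conj_mem_of_mem_normalizer (hQn (hXt hg)) h1,
        mul_mem (mul_mem hg h2) (inv_mem hg)⟩
    have hp : IsPGroup 2 ((Q ⊓ X).subgroupOf X) := by
      intro g
      obtain ⟨k, hk⟩ := (IsPGroup.of_card (n := 6) (by rw [hQc]; norm_num) : IsPGroup 2 Q)
        ⟨(g : G), (mem_inf.1 (mem_subgroupOf.1 g.2)).1⟩
      exact ⟨k, Subtype.ext (Subtype.ext (by simpa using congrArg Subtype.val hk))⟩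
    intro x hx
    exact ⟨⟨x, (mem_inf.1 hx).2⟩, normal_two_le S hp (mem_subgroupOf.2 hx), rfl⟩
  have hPW : P ≤ normalizer (W : Set G) := by
    intro g hg
    refine mem_normalizer_of_conj ?_
    have hgX : ∀ h : G, (h = g ∨ h = g⁻¹) → ∀ x ∈ X, h * x * h⁻¹ ∈ X := by
      intro h hh x hx
      have hhP : h ∈ P := hh.elim (· ▸ hg) (· ▸ inv_mem hg)
      refine mem_centralizer_iff.2 fun z hz => ?_
      have hz' : h⁻¹ * z * h⁻¹⁻¹ ∈ fourGroup y := hF.four_conj K hy (Or.inl (by
        rw [(hP.comm _ (inv_mem hhP) y hyP).eq, mul_inv_cancel_right])) hz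
      have h2 := mem_centralizer_iff.1 hx _ hz'
      rw [inv_inv] at h2
      calc z * (h * x * h⁻¹) = h * (h⁻¹ * z * h * x) * h⁻¹ := by group
        _ = h * (x * (h⁻¹ * z * h)) * h⁻¹ := by rw [h2]
        _ = h * x * h⁻¹ * z := by group
    let φ : X ≃* X :=
      { toFun := fun x => ⟨g * x * g⁻¹, hgX g (Or.inl rfl) x x.2⟩
        invFun := fun x => ⟨g⁻¹ * x * g, by simpa using hgX g⁻¹ (Or.inr rfl) x x.2⟩
        left_inv := fun x => Subtype.ext (by show g⁻¹ * (g * x * g⁻¹) * g = x; group)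
        right_inv := fun x => Subtype.ext (by show g * (g⁻¹ * x * g) * g⁻¹ = x; group)
        map_mul' := fun a c => Subtype.ext (by
          show g * (a * c : G) * g⁻¹ = g * a * g⁻¹ * (g * c * g⁻¹); group) }
    have : (((S : Subgroup X).normalCore).map φ.toMonoidHom).Normal :=
      (inferInstance : ((S : Subgroup X).normalCore).Normal).map _ φ.surjective
    have hle := normal_two_le S (H := ((S : Subgroup X).normalCore).map φ.toMonoidHom)
      ((S.2.to_le (Subgroup.normalCore_le _)).map _)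
    rintro _ ⟨x, hx, rfl⟩
    exact ⟨φ x, hle (mem_map_of_mem _ hx), rfl⟩
  obtain ⟨b, hb, hb1, hbW, hbK⟩ :=
    hF.two_invariant K hP hWp hPW (fun h => hZK (hZW.trans h))
  refine ⟨⟨P, y, b, t, Q, hP, hyP, hy1, hb, hb1, fun h => hbK ?_, htK, hto, ?_, hQle, hQc, hQn, hQy,
    hKQ, hQfix⟩⟩
  · rw [hF.four_eq_of_zpowers K hy (hP.orderOf_eq hb hb1) (zpowers_eq_of_mem hy h hb1)]
  · intro u hu v hv
    have hvX : v ∈ X := Subgroup.map_subtype_le _ (hbW hv)
    exact mem_centralizer_iff.1 hvX u hu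

end Cfsg.Agent.M22Order
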