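import Cfsg.Agent.M22Order.Col

/-!
# The involutions: one class, centraliser of order 384
-/

set_option autoImplicit false

namespace Cfsg.Agent.M22Order

open Subgroup
open scoped ComplexConjugate

universe u

/-- The column of an involution. -/
def colTwo : Col := ⟨5, -3, 7, 3, 10, 2, 7, -8, 1⟩

/-- The integers up to 34 in absolute value in the class of `d` modulo `m`. -/
def classRange (m d : ℤ) : List ℤ :=
  ((List.range 69).map fun n : ℕ => (n : ℤ) - 34).filter fun x => decide ((x - d) % m = 0)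

theorem mem_classRange {m d x : ℤ} (hb : x * x ≤ 1152) (hm : m ∣ x - d) : x ∈ classRange m d := by
  have h1 : x ≤ 34 := by nlinarith
  have h2 : -34 ≤ x := by nlinarith
  refine List.mem_filter.2 ⟨List.mem_map.2 ⟨(x + 34).toNat, List.mem_range.2 ?_, ?_⟩, ?_⟩
  · omega
  · omega
  · exact decide_eq_true (Int.emod_eq_zero_of_dvd hm)

/-- The quadratic condition at seven. -/
def quadSeven (e f : ℤ) : Prop := 495 - 9 * e * e + 5 * f * f - 11 * (1 - e + f) * (1 - e + f) = 0

/-- The quadratic condition at eleven, the value at the characters of degree 45 being `b`. -/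
def quadEleven (a b h : ℤ) : Prop :=
  2520 - 120 * a * a + 112 * b * b + 12 * h * h - 9 * (1 - a + 2 * b + h) * (1 - a + 2 * b + h) = 0

/-- The order of the centraliser, the value at the character of degree 385 being `l`. -/
def normCol (a e f h i l : ℤ) : ℤ :=
  (Col.mk a (1 - e + f) e f (1 + a + i - f) h i (1 - a + 2 * (1 - e + f) + h) l).dot
    (Col.mk a (1 - e + f) e f (1 + a + i - f) h i (1 - a + 2 * (1 - e + f) + h) l)

/-- The weighted sum of the values off the character of degree 385. -/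
def degSum (a e f h i : ℤ) : ℤ :=
  1 + 21 * a + 90 * (1 - e + f) + 55 * e + 99 * f + 154 * (1 + a + i - f) + 210 * h + 231 * i +
    560 * (1 - a + 2 * (1 - e + f) + h)

instance (e f : ℤ) : Decidable (quadSeven e f) := by unfold quadSeven; infer_instance

instance (a b h : ℤ) : Decidable (quadEleven a b h) := by unfold quadEleven; infer_instance

theorem involution_check : ∀ e ∈ classRange 4 55, ∀ f ∈ classRange 4 99, quadSeven e f →
    ∀ a ∈ classRange 4 21, ∀ h ∈ classRange 4 210, quadEleven a (1 - e + f) h →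
      ∀ i ∈ classRange 4 231, 385 ∣ degSum a e f h i →
        normCol a e f h i (-(degSum a e f h i / 385)) ∣ 1152 →
        2 ∣ normCol a e f h i (-(degSum a e f h i / 385)) →
          a = 5 ∧ e = 7 ∧ f = 3 ∧ h = 2 ∧ i = 7 := by
  decide +kernel

variable {G : Type u} [Group G] [Fintype G]

theorem Facts.not_commutative (hF : Facts G) : ¬ IsMulCommutative G := fun h => by
  have := hF.simple
  let _ : CommGroup G := { ‹Group G› with mul_comm := h.is_comm.comm }
  have hp := Nat.card_eq_fintype_card (α := G) ▸ (IsSimpleGroup.prime_card (α := G))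
  rw [← Nat.card_eq_fintype_card, hF.card] at hp
  norm_num at hp

/-- A product of two conjugates of an involution does not have order 11 or 7. -/
theorem Facts.sum_sq_eq_zero (hF : Facts G) {p e : ℕ} [Fact p.Prime]
    (hpe : (p, e) ∈ [(11, 5), (7, 3), (5, 4)]) (he : ¬ 2 ∣ e * p) {t z : G} (ht : orderOf t = 2)
    (hz : orderOf z = p) :
    ∑ χ : IrrCharacter G,
      (χ : G → ℂ) t * (χ : G → ℂ) t * conj ((χ : G → ℂ) z) / (χ : G → ℂ) 1 = 0 := by
  obtain ⟨m, hm, hex⟩ := SmallOrder.Order5616.mult_formula t t z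
  by_cases h0 : m = 0
  · rw [h0, Nat.cast_zero, mul_zero, mul_zero] at hm
    exact (mul_eq_zero.1 hm).resolve_left (Nat.cast_ne_zero.2 Nat.card_pos.ne')
  exfalso
  obtain ⟨a, ha⟩ := hex h0
  obtain ⟨c, hc⟩ := isConj_iff.1 ha
  have htt : t * t = 1 := by have := pow_orderOf_eq_one t; rwa [ht, sq] at this
  set u := c * (a * t * a⁻¹) * c⁻¹ with hu
  set v := c * t * c⁻¹ with hv
  have huu : u * u = 1 := by
    rw [hu, show c * (a * t * a⁻¹) * c⁻¹ * (c * (a * t * a⁻¹) * c⁻¹) =
      c * a * (t * t) * a⁻¹ * c⁻¹ by group, htt]; group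
  have hvv : v * v = 1 := by
    rw [hv, show c * t * c⁻¹ * (c * t * c⁻¹) = c * (t * t) * c⁻¹ by group, htt]; group
  have hz' : z = u * v := by rw [← hc, hu, hv]; group
  have hcard : Nat.card (zpowers z) = p ^ 1 := by rw [Nat.card_zpowers, hz, pow_one]
  obtain ⟨P, hP⟩ := (IsPGroup.of_card hcard).exists_le_sylow
  obtain ⟨hS, hC⟩ := hF.setup p e hpe P
  have hz1 : z ≠ 1 := fun h => (Fact.out : p.Prime).ne_one (by rw [← hz, h, orderOf_one])
  have hvinv : v⁻¹ * z * v = z⁻¹ := by
    have hvi : v⁻¹ = v := inv_eq_of_mul_eq_one_right hvv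
    have hui : u⁻¹ = u := inv_eq_of_mul_eq_one_right huu
    calc v⁻¹ * z * v = v * u * (v * v) := by rw [hz', hvi]; group
      _ = v⁻¹ * u⁻¹ := by rw [hvv, hvi, hui, mul_one]
      _ = z⁻¹ := by rw [hz']; exact (mul_inv_rev u v).symm
  have hmem : v ∈ normalizer (P : Set G) := hS.mem_normalizer (hP (mem_zpowers z)) hz1 (by
    rw [hvinv]; exact inv_mem (hP (mem_zpowers z)))
  have hcn := hS.card_normalizer
  rw [show Nat.card (centralizer (P : Set G)) = p from
      (congrArg (fun H : Subgroup G => Nat.card H) hC).trans hS.card] at hcn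
  have hv2 : orderOf v = 2 := by
    rw [hv, ← MulAut.conj_apply, (MulAut.conj c).orderOf_eq, ht]
  exact he (by rw [← hv2, ← hcn]; exact Subgroup.orderOf_dvd_natCard _ hmem)

/-- The column of an involution and the order of its centraliser. -/
theorem Facts.involution (hF : Facts G) (K : Chars G) {t : G} (ht : orderOf t = 2) :
    Nat.card (centralizer ({t} : Set G)) = 384 ∧ IsCol K t colTwo := by
  have := hF.simple
  have : Fact (Nat.Prime 11) := ⟨by norm_num⟩
  have : Fact (Nat.Prime 7) := ⟨by norm_num⟩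
  have h11 : ¬ 11 ∣ orderOf t := by rw [ht]; norm_num
  have h7 : ¬ 7 ∣ orderOf t := by rw [ht]; norm_num
  have h5 : ¬ 5 ∣ orderOf t := by rw [ht]; norm_num
  have ht1 : t ≠ 1 := fun e => by rw [e, orderOf_one] at ht; norm_num at ht
  obtain ⟨v, hv⟩ := exists_isCol K h11 h7 fun χ =>
    SmallOrder.exists_int_apply_involution (Char.IsIrr.isCharacter χ.2) ht
  obtain ⟨hk, hb, hg⟩ := hv.rels h11 h7 h5
  have hdeg := hv.degree_sum ht1
  have hnorm := hv.norm
  set c := Nat.card (centralizer ({t} : Set G)) with hcdef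
  have hc1 : c ∣ 1152 := hF.centralizer_dvd ht1 h11 h7 h5
  have hc2 : 2 ∣ c := ht ▸ Subgroup.orderOf_dvd_natCard _ (mem_centralizer_singleton_iff.2 rfl)
  have hcle : (v.dot v : ℤ) ≤ 1152 := by
    rw [hnorm]; exact_mod_cast Nat.le_of_dvd (by norm_num) hc1
  have hsq : v.a * v.a ≤ 1152 ∧ v.e * v.e ≤ 1152 ∧ v.f * v.f ≤ 1152 ∧ v.h * v.h ≤ 1152 ∧
      v.i * v.i ≤ 1152 := by
    simp only [Col.dot] at hcle
    refine ⟨?_, ?_, ?_, ?_, ?_⟩ <;>
      linarith [mul_self_nonneg v.a, mul_self_nonneg v.b, mul_self_nonneg v.e, mul_self_nonneg v.f,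
        mul_self_nonneg v.g, mul_self_nonneg v.h, mul_self_nonneg v.i, mul_self_nonneg v.k,
        mul_self_nonneg v.l]
  have hmod : ∀ (χ : IrrCharacter G) (x : ℤ) (d : ℕ), (χ : G → ℂ) t = x → degOf χ = d →
      (4 : ℤ) ∣ x - d := fun χ x d hx hd => by
    have := SmallOrder.four_dvd_degree_sub_apply hF.not_commutative (Char.IsIrr.isCharacter χ.2) ht
      (d := d) (by rw [char_one, hd]) hx
    exact (dvd_sub_comm).1 this
  have q7 : quadSeven v.e v.f := by
    have h := hF.sum_sq_eq_zero (p := 7) (e := 3) (by simp) (by norm_num) ht K.hz7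
    have hw := K.w7 (fun χ => (χ : G → ℂ) t * (χ : G → ℂ) t / (χ : G → ℂ) 1)
      (by simp only [char_one, K.d45, K.d45', hv.hb, hv.hb'])
    have e1 : ∑ χ : IrrCharacter G, (χ : G → ℂ) t * (χ : G → ℂ) t / (χ : G → ℂ) 1 *
        (χ : G → ℂ) K.z7 = 0 := by
      rw [← map_eq_zero (starRingEnd ℂ), map_sum, ← h]
      refine Finset.sum_congr rfl fun χ _ => ?_
      have hr : conj ((χ : G → ℂ) t) = (χ : G → ℂ) t := by
        obtain ⟨n, hn⟩ := SmallOrder.exists_int_apply_involution (Char.IsIrr.isCharacter χ.2) ht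
        rw [hn, map_intCast]
      rw [map_mul, map_div₀, map_mul, hr, char_one, Complex.conj_natCast]
      ring
    rw [hw] at e1
    simp only [K.one_apply, char_one, K.d45, K.d55, K.d99, hv.hb, hv.he, hv.hf] at e1
    have h1 : ((495 - 9 * v.e * v.e + 5 * v.f * v.f - 11 * (1 - v.e + v.f) * (1 - v.e + v.f) : ℤ) :
        ℂ) = 0 := by
      rw [hb] at e1
      push_cast at e1 ⊢
      linear_combination 495 * e1
    unfold quadSeven
    exact_mod_cast h1
  have q11 : quadEleven v.a (1 - v.e + v.f) v.h := by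
    have h := hF.sum_sq_eq_zero (p := 11) (e := 5) (by simp) (by norm_num) ht K.hz11
    have hw := K.w11 (fun χ => (χ : G → ℂ) t * (χ : G → ℂ) t / (χ : G → ℂ) 1)
      (by simp only [char_one, K.d280, K.d280', hv.hk, hv.hk'])
    have e1 : ∑ χ : IrrCharacter G, (χ : G → ℂ) t * (χ : G → ℂ) t / (χ : G → ℂ) 1 *
        (χ : G → ℂ) K.z11 = 0 := by
      rw [← map_eq_zero (starRingEnd ℂ), map_sum, ← h]
      refine Finset.sum_congr rfl fun χ _ => ?_
      have hr : conj ((χ : G → ℂ) t) = (χ : G → ℂ) t := by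
        obtain ⟨n, hn⟩ := SmallOrder.exists_int_apply_involution (Char.IsIrr.isCharacter χ.2) ht
        rw [hn, map_intCast]
      rw [map_mul, map_div₀, map_mul, hr, char_one, Complex.conj_natCast]
      ring
    rw [hw] at e1
    simp only [K.one_apply, char_one, K.d21, K.d45, K.d45', K.d210, K.d280, hv.ha, hv.hb, hv.hb',
      hv.hh, hv.hk] at e1
    have h1 : ((2520 - 120 * v.a * v.a + 112 * (1 - v.e + v.f) * (1 - v.e + v.f) + 12 * v.h * v.h -
        9 * (1 - v.a + 2 * (1 - v.e + v.f) + v.h) * (1 - v.a + 2 * (1 - v.e + v.f) + v.h) : ℤ) :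
        ℂ) = 0 := by
      rw [hk, hb] at e1
      push_cast at e1 ⊢
      linear_combination 2520 * e1
    unfold quadEleven
    exact_mod_cast h1
  have hds : degSum v.a v.e v.f v.h v.i = -(385 * v.l) := by
    simp only [degSum]; rw [hk, hb, hg] at hdeg; linarith
  have hl : -(degSum v.a v.e v.f v.h v.i / 385) = v.l := by rw [hds]; omega
  have hn : normCol v.a v.e v.f v.h v.i v.l = (c : ℤ) := by
    rw [← hnorm]
    simp only [normCol, Col.dot, hk, hb, hg]
  obtain ⟨ra, re, rf, rh, ri⟩ := involution_check v.e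
    (mem_classRange hsq.2.1 (hmod _ _ _ hv.he K.d55)) v.f
    (mem_classRange hsq.2.2.1 (hmod _ _ _ hv.hf K.d99)) q7 v.a
    (mem_classRange hsq.1 (hmod _ _ _ hv.ha K.d21)) v.h
    (mem_classRange hsq.2.2.2.1 (hmod _ _ _ hv.hh K.d210)) q11 v.i
    (mem_classRange hsq.2.2.2.2 (hmod _ _ _ hv.hi K.d231))
    (by rw [hds]; exact (dvd_mul_right 385 v.l).neg_right)
    (by rw [hl, hn]; exact_mod_cast hc1) (by rw [hl, hn]; exact_mod_cast hc2)
  have hve : v = colTwo := by
    have hl' : v.l = 1 := by rw [← hl, ra, re, rf, rh, ri]; decide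
    obtain ⟨va, vb, ve, vf, vg, vh, vi, vk, vl⟩ := v
    simp only at ra re rf rh ri hk hb hg hl'
    subst ra re rf rh ri hl'
    simp only [colTwo, Col.mk.injEq, true_and, and_true]
    subst hb hg
    norm_num at hk ⊢
    exact hk
  refine ⟨?_, hve ▸ hv⟩
  have h2 : (colTwo.dot colTwo : ℤ) = (c : ℤ) := by rw [← hve, hnorm]
  rw [show colTwo.dot colTwo = 384 by decide] at h2
  exact_mod_cast h2.symm

/-- All involutions are conjugate. -/
theorem Facts.isConj_involution (hF : Facts G) (K : Chars G) {s t : G} (hs : orderOf s = 2)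
    (ht : orderOf t = 2) : IsConj s t := by
  by_contra h
  have := (hF.involution K hs).2.ortho (hF.involution K ht).2 h
  exact absurd this (by decide)

/-- There are 1155 involutions. -/
theorem Facts.card_involutions (hF : Facts G) (K : Chars G) :
    Nat.card {g : G // orderOf g = 2} = 1155 := by
  classical
  have : Fact (Nat.Prime 2) := ⟨Nat.prime_two⟩
  obtain ⟨t, ht⟩ := exists_prime_orderOf_dvd_card' (G := G) 2 (by rw [hF.card]; norm_num)
  have e : Nat.card {g : G // orderOf g = 2} = Nat.card {g : G // IsConj t g} :=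
    Nat.card_congr (Equiv.subtypeEquivRight fun g => ⟨fun h => hF.isConj_involution K ht h, fun h => by
      obtain ⟨c, rfl⟩ := isConj_iff.1 h
      rw [← MulAut.conj_apply, (MulAut.conj c).orderOf_eq, ht]⟩)
  rw [e, Char.card_isConj_eq_index]
  have h := (centralizer ({t} : Set G)).card_mul_index
  rw [(hF.involution K ht).1, hF.card] at h
  omega

end Cfsg.Agent.M22Order
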