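import Cfsg.Agent.M22Order.Invol
import Cfsg.Agent.Char.CyclicRational

/-!
# The elements of order three: one class, centraliser of order 36, and no elements of order nine
-/

set_option autoImplicit false
set_option maxRecDepth 4000
set_option synthInstance.maxSize 2000

namespace Cfsg.Agent.M22Order

open Subgroup
open scoped ComplexConjugate

universe u

variable {G : Type u} [Group G] [Fintype G]

theorem Chars.cases (K : Chars G) (χ : IrrCharacter G) : χ = K.c1 ∨ χ = K.c21 ∨ χ = K.c45 ∨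
    χ = K.c45' ∨ χ = K.c55 ∨ χ = K.c99 ∨ χ = K.c154 ∨ χ = K.c210 ∨ χ = K.c231 ∨ χ = K.c280 ∨
      χ = K.c280' ∨ χ = K.c385 := by
  classical
  by_contra h
  simp only [not_or] at h
  obtain ⟨h1, h2, h3, h4, h5, h6, h7, h8, h9, h10, h11, h12⟩ := h
  have hs := K.sum_eq fun ψ => if ψ = χ then 1 else 0
  rw [Finset.sum_ite_eq' Finset.univ χ, if_pos (Finset.mem_univ χ), if_neg (Ne.symm h1),
    if_neg (Ne.symm h2), if_neg (Ne.symm h3), if_neg (Ne.symm h4), if_neg (Ne.symm h5),
    if_neg (Ne.symm h6), if_neg (Ne.symm h7), if_neg (Ne.symm h8), if_neg (Ne.symm h9),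
    if_neg (Ne.symm h10), if_neg (Ne.symm h11), if_neg (Ne.symm h12)] at hs
  norm_num at hs

theorem Chars.degOf_c1 (K : Chars G) : degOf K.c1 = 1 := by
  have h := char_one K.c1
  rw [K.one_apply] at h
  exact_mod_cast h.symm

/-- A character of the degree of a named one agrees with it off the primes 7 and 11. -/
theorem Chars.apply_eq_of_degOf (K : Chars G) {χ ψ : IrrCharacter G} (h : degOf χ = degOf ψ) {g : G}
    (h11 : ¬ 11 ∣ orderOf g) (h7 : ¬ 7 ∣ orderOf g) : (χ : G → ℂ) g = (ψ : G → ℂ) g := by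
  rcases K.cases χ with rfl | rfl | rfl | rfl | rfl | rfl | rfl | rfl | rfl | rfl | rfl | rfl <;>
    rcases K.cases ψ with rfl | rfl | rfl | rfl | rfl | rfl | rfl | rfl | rfl | rfl | rfl | rfl <;>
    first
      | rfl
      | exact K.eq45 g h7
      | exact (K.eq45 g h7).symm
      | exact K.eq280 g h11
      | exact (K.eq280 g h11).symm
      | (simp only [K.degOf_c1, K.d21, K.d45, K.d45', K.d55, K.d99, K.d154, K.d210, K.d231, K.d280,
          K.d280', K.d385] at h
         omega)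

/-- Off the primes 7 and 11 every element is conjugate to its powers coprime to the group order. -/
theorem Chars.apply_pow (K : Chars G) (χ : IrrCharacter G) {g : G} (h11 : ¬ 11 ∣ orderOf g)
    (h7 : ¬ 7 ∣ orderOf g) {k : ℕ} (hk : k.Coprime (Nat.card G)) :
    (χ : G → ℂ) (g ^ k) = (χ : G → ℂ) g := by
  let χ' : IrrCharacter G := ⟨fun x => (χ : G → ℂ) (x ^ k), Char.isIrr_comp_pow k hk χ.2⟩
  have hd : degOf χ' = degOf χ := by
    have h1 := char_one χ'
    rw [show (χ' : G → ℂ) 1 = (χ : G → ℂ) (1 ^ k) from rfl, one_pow, char_one] at h1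
    exact_mod_cast h1.symm
  exact K.apply_eq_of_degOf hd h11 h7

theorem Chars.isConj_pow (K : Chars G) {g : G} (h11 : ¬ 11 ∣ orderOf g)
    (h7 : ¬ 7 ∣ orderOf g) {k : ℕ} (hk : k.Coprime (Nat.card G)) : IsConj (g ^ k) g :=
  (Char.isConj_iff_forall_irr _ _).2 fun χ => K.apply_pow χ h11 h7 hk

theorem Chars.exists_int (K : Chars G) (χ : IrrCharacter G) {g : G} (h11 : ¬ 11 ∣ orderOf g)
    (h7 : ¬ 7 ∣ orderOf g) : ∃ n : ℤ, (χ : G → ℂ) g = n := by
  obtain ⟨q, hq⟩ := Char.IsChar.exists_rat (Char.IsIrr.isCharacter χ.2) g fun k hk =>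
    K.apply_pow χ h11 h7 hk
  obtain ⟨n, hn⟩ := Char.exists_int_of_isIntegral_rat (q := q)
    (hq ▸ Char.IsChar.isIntegral (Char.IsIrr.isCharacter χ.2) g)
  exact ⟨n, by rw [hq, ← hn]; norm_cast⟩

theorem prime_dvd_sub_degree {χ : IrrCharacter G} {x : G} {p : ℕ} (hp : p.Prime)
    (hx : orderOf x = p) {a : ℤ} (ha : (χ : G → ℂ) x = a) : (p : ℤ) ∣ a - degOf χ := by
  have hdeg := char_one χ
  obtain ⟨n, ρ, hρ, hρe⟩ := χ.2
  obtain ⟨μ, b, -, hμ, hχ⟩ := Char.exists_eigenbasis ρ x
  have hi : ∀ i, IsIntegral ℤ (μ i) := fun i =>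
    IsIntegral.of_pow (orderOf_pos x) (by rw [hμ i]; exact isIntegral_one)
  obtain ⟨z, hz, e⟩ := Char.exists_sum_pow_prime hp Finset.univ μ fun i _ => hi i
  have h1 : ∑ i, μ i = (a : ℂ) := by rw [← hχ, ← ha, ← hρe]
  have h2 : ∑ i, μ i ^ p = (degOf χ : ℂ) := by
    rw [← hdeg, ← hρe, ρ.char_one, ← hx, Finset.sum_congr rfl fun i _ => hμ i, Finset.sum_const,
      Finset.card_univ, Fintype.card_fin, nsmul_eq_mul, mul_one]
  rw [h1, h2] at e
  have h3 : ((a ^ p - (degOf χ : ℤ) : ℤ) : ℂ) = ((p : ℤ) : ℂ) * z := by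
    push_cast; rw [e]; ring
  have h4 := Char.dvd_int_of_isIntegral (Int.natCast_ne_zero.2 hp.ne_zero) hz h3
  have := Fact.mk hp
  rw [← ZMod.intCast_zmod_eq_zero_iff_dvd] at h4 ⊢
  push_cast at h4 ⊢
  rwa [ZMod.pow_card] at h4

theorem degree_dvd_index_mul (χ : IrrCharacter G) {x : G} {a : ℤ} (ha : (χ : G → ℂ) x = a) :
    (degOf χ : ℤ) ∣ ((centralizer ({x} : Set G)).index : ℤ) * a := by
  refine Char.dvd_int_of_isIntegral (Int.natCast_ne_zero.2 (degOf_ne_zero χ))
    (Char.centralCharacter_isIntegral χ.2 x) ?_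
  rw [char_one, ha]
  have := (Nat.cast_ne_zero (R := ℂ)).2 (degOf_ne_zero χ)
  push_cast
  field_simp

/-- The orders possible for the centraliser of an element of order three. -/
def threeCents : List ℕ := [3, 6, 9, 12, 18, 24, 36, 48, 72, 96, 144, 192, 288, 384, 576, 1152]

theorem mem_threeCents : ∀ c < 1153, c ∣ 1152 → 3 ∣ c → c ∈ threeCents := by decide +kernel

/-- The values possible at an element of order three with centraliser of order `c`. -/
def threeRange (c : ℕ) (d : ℤ) : List ℤ :=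
  (classRange 3 d).filter fun x =>
    decide (x * x ≤ (c : ℤ)) && decide (((443520 / c : ℕ) : ℤ) * x % d = 0)

theorem mem_threeRange {c : ℕ} {d x : ℤ} (hc : (c : ℤ) ≤ 1152) (hx : x * x ≤ c) (hm : 3 ∣ x - d)
    (hd : d ∣ ((443520 / c : ℕ) : ℤ) * x) : x ∈ threeRange c d :=
  List.mem_filter.2 ⟨mem_classRange (hx.trans hc) hm,
    Bool.and_eq_true_iff.2 ⟨decide_eq_true hx, decide_eq_true (Int.emod_eq_zero_of_dvd hd)⟩⟩

theorem three_check : ∀ c ∈ threeCents, ∀ e ∈ threeRange c 55, ∀ f ∈ threeRange c 99,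
    (45 : ℤ) ∣ ((443520 / c : ℕ) : ℤ) * (1 - e + f) →
      ∀ a ∈ threeRange c 21, ∀ h ∈ threeRange c 210,
        (280 : ℤ) ∣ ((443520 / c : ℕ) : ℤ) * (1 - a + 2 * (1 - e + f) + h) →
          1 + a * a + 2 * (1 - e + f) * (1 - e + f) + e * e + f * f + h * h +
            2 * (1 - a + 2 * (1 - e + f) + h) * (1 - a + 2 * (1 - e + f) + h) ≤ (c : ℤ) →
          ∀ i ∈ threeRange c 231, 385 ∣ degSum a e f h i →
            normCol a e f h i (-(degSum a e f h i / 385)) = (c : ℤ) →
            1 + 5 * a - 6 * (1 - e + f) + 7 * e + 3 * f + 10 * (1 + a + i - f) + 2 * h + 7 * i -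
              16 * (1 - a + 2 * (1 - e + f) + h) + -(degSum a e f h i / 385) = 0 →
            e = 1 ∧ f = 0 ∧ ((c = 9 ∧ a = 0 ∧ h = 0 ∧ i = 0) ∨ (c = 36 ∧ a = 3 ∧ h = 3 ∧ i = -3) ∨
              (c = 36 ∧ a = -3 ∧ h = -3 ∧ i = 3)) := by
  decide +kernel

/-- The candidates for the column of an element of order three. -/
def colsThree : List Col :=
  [⟨0, 0, 1, 0, 1, 0, 0, 1, -2⟩, ⟨3, 0, 1, 0, 1, 3, -3, 1, -2⟩, ⟨-3, 0, 1, 0, 1, -3, 3, 1, -2⟩]

theorem colsThree_dot : ∀ v ∈ colsThree, ∀ w ∈ colsThree, v.dot w ≠ 0 := by decide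

theorem colsThree_norm : ∀ v ∈ colsThree, v.dot v = 9 ∨ v.dot v = 36 := by decide

theorem Facts.three_col (hF : Facts G) (K : Chars G) {y : G} (hy : orderOf y = 3) :
    ∃ v ∈ colsThree, IsCol K y v := by
  have : Fact (Nat.Prime 2) := ⟨Nat.prime_two⟩
  obtain ⟨t, ht⟩ := exists_prime_orderOf_dvd_card' (G := G) 2 (by rw [hF.card]; norm_num)
  have h11 : ¬ 11 ∣ orderOf y := by rw [hy]; norm_num
  have h7 : ¬ 7 ∣ orderOf y := by rw [hy]; norm_num
  have h5 : ¬ 5 ∣ orderOf y := by rw [hy]; norm_num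
  have hy1 : y ≠ 1 := fun e => by rw [e, orderOf_one] at hy; norm_num at hy
  obtain ⟨v, hv⟩ := exists_isCol K h11 h7 fun χ => K.exists_int χ h11 h7
  obtain ⟨hk, hb, hg⟩ := hv.rels h11 h7 h5
  have hdeg := hv.degree_sum hy1
  have hnorm := hv.norm
  have hort := hv.ortho (hF.involution K ht).2 (fun h => by
    obtain ⟨w, hw⟩ := isConj_iff.1 h
    rw [← hw, ← MulAut.conj_apply, (MulAut.conj w).orderOf_eq, hy] at ht
    norm_num at ht)
  set c := Nat.card (centralizer ({y} : Set G)) with hcdef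
  have hc1 : c ∣ 1152 := hF.centralizer_dvd hy1 h11 h7 h5
  have hc3 : 3 ∣ c := hy ▸ Subgroup.orderOf_dvd_natCard _ (mem_centralizer_singleton_iff.2 rfl)
  have hcle : c ≤ 1152 := Nat.le_of_dvd (by norm_num) hc1
  have hidx : (centralizer ({y} : Set G)).index = 443520 / c := by
    have h := (centralizer ({y} : Set G)).card_mul_index
    rw [← hcdef, hF.card] at h
    rw [← h, Nat.mul_div_cancel_left _ (hcdef ▸ Nat.card_pos)]
  simp only [Col.dot] at hnorm
  have hmem : ∀ (χ : IrrCharacter G) (x : ℤ) (d : ℕ), (χ : G → ℂ) y = x → degOf χ = d → x * x ≤ c →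
      x ∈ threeRange c d := fun χ x d hx hd hsq => by
    refine mem_threeRange (by exact_mod_cast hcle) hsq ?_ ?_
    · rw [← hd]; exact_mod_cast prime_dvd_sub_degree Nat.prime_three hy hx
    · rw [← hd, ← hidx]; exact degree_dvd_index_mul χ hx
  have na := mul_self_nonneg v.a
  have nb := mul_self_nonneg v.b
  have ne := mul_self_nonneg v.e
  have nf := mul_self_nonneg v.f
  have ng := mul_self_nonneg v.g
  have nh := mul_self_nonneg v.h
  have ni := mul_self_nonneg v.i
  have nk := mul_self_nonneg v.k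
  have nl := mul_self_nonneg v.l
  have hds : degSum v.a v.e v.f v.h v.i = -(385 * v.l) := by
    simp only [degSum]; rw [hk, hb, hg] at hdeg; linarith
  have hl : -(degSum v.a v.e v.f v.h v.i / 385) = v.l := by rw [hds]; omega
  have hcheck := three_check c (mem_threeCents c (by omega) hc1 hc3) v.e
    (hmem _ _ _ hv.he K.d55 (by linarith)) v.f (hmem _ _ _ hv.hf K.d99 (by linarith))
    (by rw [← hb, ← hidx]; have h := degree_dvd_index_mul _ hv.hb; rwa [K.d45] at h)
    v.a (hmem _ _ _ hv.ha K.d21 (by linarith)) v.h (hmem _ _ _ hv.hh K.d210 (by linarith))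
    (by rw [← hb, ← hk, ← hidx]; have h := degree_dvd_index_mul _ hv.hk; rwa [K.d280] at h)
    (by rw [← hb, ← hk]; linarith)
    v.i (hmem _ _ _ hv.hi K.d231 (by linarith))
    (by rw [hds]; exact (dvd_mul_right 385 v.l).neg_right)
    (by rw [hl, normCol, Col.dot]; simp only; rw [← hb, ← hk, ← hg]; linarith)
    (by rw [hl, ← hb, ← hk, ← hg]; simp only [Col.dot, colTwo] at hort; linarith)
  refine ⟨v, ?_, hv⟩
  obtain ⟨re, rf, hr⟩ := hcheck
  have hl' : v.l = -2 := by
    rw [← hl]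
    rcases hr with ⟨-, ra, rh, ri⟩ | ⟨-, ra, rh, ri⟩ | ⟨-, ra, rh, ri⟩ <;>
      rw [re, rf, ra, rh, ri] <;> decide
  obtain ⟨va, vb, ve, vf, vg, vh, vi, vk, vl⟩ := v
  simp only at re rf hr hk hb hg hl'
  subst re rf hl' hb hg hk
  rcases hr with ⟨-, ra, rh, ri⟩ | ⟨-, ra, rh, ri⟩ | ⟨-, ra, rh, ri⟩ <;> subst ra rh ri <;>
    simp [colsThree]

theorem Facts.isConj_three (hF : Facts G) (K : Chars G) {x y : G} (hx : orderOf x = 3)
    (hy : orderOf y = 3) : IsConj x y := by
  obtain ⟨v, hv, hvc⟩ := hF.three_col K hx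
  obtain ⟨w, hw, hwc⟩ := hF.three_col K hy
  by_contra h
  exact colsThree_dot v hv w hw (hvc.ortho hwc h)

theorem Facts.card_centralizer_three (hF : Facts G) (K : Chars G) {y : G} (hy : orderOf y = 3) :
    Nat.card (centralizer ({y} : Set G)) = 36 := by
  have : Fact (Nat.Prime 2) := ⟨Nat.prime_two⟩
  have : Fact (Nat.Prime 3) := ⟨Nat.prime_three⟩
  obtain ⟨t, ht⟩ := exists_prime_orderOf_dvd_card' (G := G) 2 (by rw [hF.card]; norm_num)
  obtain ⟨x, hx⟩ := exists_prime_orderOf_dvd_card' (G := centralizer ({t} : Set G)) 3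
    (by rw [(hF.involution K ht).1]; norm_num)
  have hx' : orderOf (x : G) = 3 := by rw [Subgroup.orderOf_coe]; exact hx
  have h2 : 2 ∣ Nat.card (centralizer ({(x : G)} : Set G)) := ht ▸ Subgroup.orderOf_dvd_natCard _
    (mem_centralizer_singleton_iff.2 (mem_centralizer_singleton_iff.1 x.2).symm)
  obtain ⟨v, hv, hvc⟩ := hF.three_col K hx'
  have e : Nat.card (centralizer ({y} : Set G)) = Nat.card (centralizer ({(x : G)} : Set G)) := by
    obtain ⟨w, hw, hwc⟩ := hF.three_col K hy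
    have h1 := Char.second_orthogonality y y
    have h2 := Char.second_orthogonality y (x : G)
    rw [if_pos (IsConj.refl y)] at h1
    rw [if_pos (hF.isConj_three K hy hx')] at h2
    have hc := hF.isConj_three K hy hx'
    have e1 : ∀ χ : IrrCharacter G, (χ : G → ℂ) y = (χ : G → ℂ) (x : G) := fun χ =>
      (Char.isConj_iff_forall_irr _ _).1 hc χ
    have h3 := Char.second_orthogonality (x : G) (x : G)
    rw [if_pos (IsConj.refl _)] at h3
    simp only [e1] at h1
    exact_mod_cast h1.symm.trans h3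
  rw [e]
  have hn := hvc.norm
  rcases colsThree_norm v hv with h | h <;> rw [h] at hn <;> omega

theorem Facts.card_three (hF : Facts G) (K : Chars G) :
    Nat.card {g : G // orderOf g = 3} = 12320 := by
  classical
  have : Fact (Nat.Prime 3) := ⟨Nat.prime_three⟩
  obtain ⟨t, ht⟩ := exists_prime_orderOf_dvd_card' (G := G) 3 (by rw [hF.card]; norm_num)
  have e : Nat.card {g : G // orderOf g = 3} = Nat.card {g : G // IsConj t g} :=
    Nat.card_congr (Equiv.subtypeEquivRight fun g => ⟨fun h => hF.isConj_three K ht h, fun h => by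
      obtain ⟨c, rfl⟩ := isConj_iff.1 h
      rw [← MulAut.conj_apply, (MulAut.conj c).orderOf_eq, ht]⟩)
  rw [e, Char.card_isConj_eq_index]
  have h := (centralizer ({t} : Set G)).card_mul_index
  rw [hF.card_centralizer_three K ht, hF.card] at h
  omega

/-- There is no element of order nine. -/
theorem Facts.no_order_nine (hF : Facts G) (K : Chars G) (x : G) : orderOf x ≠ 9 := by
  intro hx
  have h11 : ¬ 11 ∣ orderOf x := by rw [hx]; norm_num
  have h7 : ¬ 7 ∣ orderOf x := by rw [hx]; norm_num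
  -- an exponent congruent to four modulo nine and prime to the group order
  have hk : Nat.Coprime 13 (Nat.card G) := by rw [hF.card]; norm_num
  obtain ⟨g, hg⟩ := isConj_iff.1 (K.isConj_pow h11 h7 hk).symm
  have hx9 : x ^ 9 = 1 := hx ▸ pow_orderOf_eq_one x
  have hg4 : g * x * g⁻¹ = x ^ 4 := by
    rw [hg, show 13 = 9 + 4 from rfl, pow_add, hx9, one_mul]
  set y := x ^ 3 with hydef
  have hy : orderOf y = 3 := by rw [orderOf_pow' x (by norm_num), hx]; decide
  set C := centralizer ({y} : Set G) with hC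
  have hxC : x ∈ C := mem_centralizer_singleton_iff.2 ((Commute.refl x).pow_right 3).eq
  have hgC : g ∈ C := by
    refine mem_centralizer_singleton_iff.2 ?_
    have h : g * y * g⁻¹ = y := by
      rw [hydef, ← conj_pow, hg4, ← pow_mul, show 4 * 3 = 9 + 3 from rfl, pow_add, hx9, one_mul]
    calc g * y = g * y * g⁻¹ * g := by group
      _ = y * g := by rw [h]
  -- the normaliser of `⟨x⟩` in `C`
  let M : Subgroup G := C ⊓ normalizer (zpowers x : Set G)
  have hnorm : g ∈ normalizer (zpowers x : Set G) := by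
    have hle : (zpowers x).map (MulAut.conj g).toMonoidHom ≤ zpowers x := by
      rw [MonoidHom.map_zpowers, zpowers_le]
      exact ⟨4, by show x ^ (4 : ℤ) = g * x * g⁻¹; rw [hg4]; norm_cast⟩
    have hcard : Nat.card (zpowers x) ≤ Nat.card ((zpowers x).map (MulAut.conj g).toMonoidHom) :=
      le_of_eq (Nat.card_congr ((zpowers x).equivMapOfInjective _ (MulAut.conj g).injective).toEquiv)
    have heq : (zpowers x).map (MulAut.conj g).toMonoidHom = zpowers x :=
      Subgroup.eq_of_le_of_card_ge hle hcard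
    refine mem_normalizer_iff.2 fun u => ?_
    constructor
    · intro hu; rw [← heq]; exact mem_map_of_mem _ hu
    · intro hu
      rw [← heq] at hu
      obtain ⟨w, hw, hwe⟩ := hu
      exact (MulAut.conj g).injective hwe ▸ hw
  have hgM : g ∈ M := ⟨hgC, hnorm⟩
  have hxM : zpowers x ≤ M := zpowers_le.2 ⟨hxC, Subgroup.le_normalizer (mem_zpowers x)⟩
  have : Fact (Nat.Prime 3) := ⟨Nat.prime_three⟩
  have hzc : Nat.card ((zpowers x).subgroupOf M) = 3 ^ 2 := by
    rw [Nat.card_congr (Subgroup.subgroupOfEquivOfLe hxM).toEquiv, Nat.card_zpowers, hx]; norm_num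
  have hMd : Nat.card M ∣ 36 := hF.card_centralizer_three K hy ▸ card_dvd_of_le inf_le_left
  have h9 : 3 ^ 2 ∣ Nat.card M := hzc ▸ card_subgroup_dvd_card _
  have hfac : (Nat.card M).factorization 3 = 2 := by
    obtain ⟨m, hm⟩ := h9
    have hm4 : m ∣ 4 := by
      rw [hm, show 36 = 3 ^ 2 * 4 from rfl] at hMd
      exact Nat.dvd_of_mul_dvd_mul_left (by norm_num) hMd
    have hm3 : ¬ 3 ∣ m := fun h => absurd (h.trans hm4) (by norm_num)
    rw [hm, Nat.factorization_mul (by norm_num) (fun e => by simp [e] at hm4),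
      Finsupp.add_apply, Nat.factorization_eq_zero_of_not_dvd hm3, Nat.Prime.factorization_pow
      Nat.prime_three, Finsupp.single_eq_same]
  let S : Sylow 3 M := Sylow.ofCard ((zpowers x).subgroupOf M) (by rw [hzc, hfac])
  have hnormal : ((S : Subgroup M)).Normal := by
    show ((zpowers x).subgroupOf M).Normal
    exact normal_subgroupOf_of_le_normalizer inf_le_right
  -- a power of `g` of three-power order lies in `⟨x⟩`
  set gM : M := ⟨g, hgM⟩
  obtain ⟨j, m, hm, hjm⟩ := Nat.exists_eq_pow_mul_and_not_dvd (orderOf_pos gM).ne' 3 (by norm_num)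
  have hp : IsPGroup 3 (zpowers (gM ^ m)) := by
    refine IsPGroup.of_card (n := j) ?_
    rw [Nat.card_zpowers, orderOf_pow' gM (fun e => hm (by rw [e]; exact dvd_zero 3)), hjm]
    rw [Nat.gcd_eq_right (Dvd.intro_left _ rfl), Nat.mul_div_cancel _ (Nat.pos_of_ne_zero
      fun e => hm (by rw [e]; exact dvd_zero 3))]
  obtain ⟨T, hT⟩ := hp.exists_le_sylow
  have hmemS : gM ^ m ∈ (S : Subgroup M) := by
    let _ := Sylow.unique_of_normal S hnormal
    rw [Subsingleton.elim S T]
    exact hT (mem_zpowers _)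
  have hcomm : g ^ m * x * (g ^ m)⁻¹ = x := by
    obtain ⟨i, hi⟩ : (g ^ m) ∈ zpowers x := hmemS
    rw [← hi]
    show x ^ i * x * (x ^ i)⁻¹ = x
    group
  have hpow : ∀ n : ℕ, g ^ n * x * (g ^ n)⁻¹ = x ^ (4 ^ n) := by
    intro n
    induction n with
    | zero => simp
    | succ n ih =>
      rw [pow_succ', show g * g ^ n * x * (g * g ^ n)⁻¹ = g * (g ^ n * x * (g ^ n)⁻¹) * g⁻¹ by group,
        ih, ← conj_pow, hg4, ← pow_mul, ← pow_succ']
  have h1 := (hpow m).symm.trans hcomm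
  rw [← pow_mod_orderOf x (4 ^ m), hx] at h1
  have h4 : 4 ^ m % 9 ≠ 1 := by
    have key : ∀ n, 4 ^ n % 9 = [1, 4, 7].getD (n % 3) 0 := by
      intro n
      induction n with
      | zero => rfl
      | succ n ih =>
        have h3 : n % 3 = 0 ∨ n % 3 = 1 ∨ n % 3 = 2 := by omega
        rcases h3 with e | e | e <;> rw [pow_succ, Nat.mul_mod, ih, e] <;>
          [rw [show (n + 1) % 3 = 1 by omega]; rw [show (n + 1) % 3 = 2 by omega];
            rw [show (n + 1) % 3 = 0 by omega]] <;> rfl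
    rw [key m]
    have h3 : m % 3 = 1 ∨ m % 3 = 2 := by omega
    rcases h3 with e | e <;> rw [e] <;> decide
  refine h4 (pow_injOn_Iio_orderOf (x := x) ?_ ?_ (h1.trans (pow_one x).symm)) <;>
    simp only [Set.mem_Iio, hx] <;> omega

end Cfsg.Agent.M22Order
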