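import Cfsg.Agent.M22Order.Chars

/-!
# Integral columns of the character table
-/

set_option autoImplicit false

namespace Cfsg.Agent.M22Order

open Subgroup
open scoped ComplexConjugate

universe u

variable {G : Type u} [Group G] [Fintype G]

/-- The values on the nontrivial characters, one for each pair of equal values. -/
structure Col where
  a : ℤ
  b : ℤ
  e : ℤ
  f : ℤ
  g : ℤ
  h : ℤ
  i : ℤ
  k : ℤ
  l : ℤ
  deriving DecidableEq

/-- `v` is the column of `x`. -/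
structure IsCol (K : Chars G) (x : G) (v : Col) : Prop where
  ha : (K.c21 : G → ℂ) x = v.a
  hb : (K.c45 : G → ℂ) x = v.b
  hb' : (K.c45' : G → ℂ) x = v.b
  he : (K.c55 : G → ℂ) x = v.e
  hf : (K.c99 : G → ℂ) x = v.f
  hg : (K.c154 : G → ℂ) x = v.g
  hh : (K.c210 : G → ℂ) x = v.h
  hi : (K.c231 : G → ℂ) x = v.i
  hk : (K.c280 : G → ℂ) x = v.k
  hk' : (K.c280' : G → ℂ) x = v.k
  hl : (K.c385 : G → ℂ) x = v.l

/-- The inner product of two columns. -/
def Col.dot (v w : Col) : ℤ :=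
  1 + v.a * w.a + 2 * v.b * w.b + v.e * w.e + v.f * w.f + v.g * w.g + v.h * w.h + v.i * w.i +
    2 * v.k * w.k + v.l * w.l

theorem Facts.centralizer_coprime (hF : Facts G) {p e : ℕ} [Fact p.Prime]
    (hpe : (p, e) ∈ [(11, 5), (7, 3), (5, 4)]) {x : G} (hx : x ≠ 1) (hpx : ¬ p ∣ orderOf x) :
    ¬ p ∣ Nat.card (centralizer ({x} : Set G)) := by
  intro hd
  obtain ⟨u, hu⟩ := exists_prime_orderOf_dvd_card' p hd
  have huo : orderOf (u : G) = p := by rw [Subgroup.orderOf_coe]; exact hu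
  have hcard : Nat.card (zpowers (u : G)) = p ^ 1 := by rw [Nat.card_zpowers, huo, pow_one]
  obtain ⟨P, hP⟩ := (IsPGroup.of_card hcard).exists_le_sylow
  obtain ⟨hS, hC⟩ := hF.setup p e hpe P
  have hu1 : (u : G) ≠ 1 := fun h => (Fact.out : p.Prime).ne_one (by rw [← huo, h, orderOf_one])
  have huP : (u : G) ∈ (P : Subgroup G) := hP (mem_zpowers _)
  have hxC : x ∈ centralizer ({(u : G)} : Set G) :=
    mem_centralizer_singleton_iff.2 (mem_centralizer_singleton_iff.1 u.2).symm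
  rw [hS.centralizer_eq huP hu1] at hxC
  have hxP : x ∈ (P : Subgroup G) := hC.le hxC
  have h1 := (P : Subgroup G).orderOf_dvd_natCard hxP
  rw [hS.card] at h1
  rcases (Nat.dvd_prime (Fact.out : p.Prime)).1 h1 with h | h
  · exact hx (orderOf_eq_one_iff.1 h)
  · exact hpx (dvd_of_eq h.symm)

theorem Facts.centralizer_dvd (hF : Facts G) {x : G} (hx : x ≠ 1) (h11 : ¬ 11 ∣ orderOf x)
    (h7 : ¬ 7 ∣ orderOf x) (h5 : ¬ 5 ∣ orderOf x) :
    Nat.card (centralizer ({x} : Set G)) ∣ 1152 := by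
  have : Fact (Nat.Prime 11) := ⟨by norm_num⟩
  have : Fact (Nat.Prime 7) := ⟨by norm_num⟩
  have : Fact (Nat.Prime 5) := ⟨Nat.prime_five⟩
  have n11 := hF.centralizer_coprime (p := 11) (e := 5) (by simp) hx h11
  have n7 := hF.centralizer_coprime (p := 7) (e := 3) (by simp) hx h7
  have n5 := hF.centralizer_coprime (p := 5) (e := 4) (by simp) hx h5
  have h := (centralizer ({x} : Set G)).card_subgroup_dvd_card
  rw [hF.card, show 443520 = 1152 * 5 * 7 * 11 by norm_num] at h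
  have h1 := ((Nat.Prime.coprime_iff_not_dvd (by norm_num : Nat.Prime 11)).2 n11).symm.dvd_of_dvd_mul_right h
  have h2 := ((Nat.Prime.coprime_iff_not_dvd (by norm_num : Nat.Prime 7)).2 n7).symm.dvd_of_dvd_mul_right h1
  exact ((Nat.Prime.coprime_iff_not_dvd Nat.prime_five).2 n5).symm.dvd_of_dvd_mul_right h2

variable {K : Chars G} {x y : G} {v w : Col}

theorem IsCol.sum_mul (hv : IsCol K x v) (hw : IsCol K y w) :
    ∑ χ : IrrCharacter G, (χ : G → ℂ) x * conj ((χ : G → ℂ) y) = (v.dot w : ℂ) := by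
  rw [K.sum_eq]
  simp only [K.one_apply, hv.ha, hv.hb, hv.hb', hv.he, hv.hf, hv.hg, hv.hh, hv.hi, hv.hk, hv.hk',
    hv.hl, hw.ha, hw.hb, hw.hb', hw.he, hw.hf, hw.hg, hw.hh, hw.hi, hw.hk, hw.hk', hw.hl, map_one,
    map_intCast, Col.dot]
  push_cast
  ring

theorem IsCol.norm (hv : IsCol K x v) :
    v.dot v = (Nat.card (centralizer ({x} : Set G)) : ℤ) := by
  have h := hv.sum_mul hv
  rw [Char.second_orthogonality, if_pos (IsConj.refl x)] at h
  exact_mod_cast h.symm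

theorem IsCol.ortho (hv : IsCol K x v) (hw : IsCol K y w) (hxy : ¬ IsConj x y) : v.dot w = 0 := by
  have h := hv.sum_mul hw
  rw [Char.second_orthogonality, if_neg hxy] at h
  exact_mod_cast h.symm

theorem IsCol.degree_sum (hv : IsCol K x v) (hx : x ≠ 1) :
    1 + 21 * v.a + 90 * v.b + 55 * v.e + 99 * v.f + 154 * v.g + 210 * v.h + 231 * v.i +
      560 * v.k + 385 * v.l = 0 := by
  have h := Char.second_orthogonality x (1 : G)
  rw [if_neg (fun e => hx (isConj_one_left.1 e)), K.sum_eq] at h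
  simp only [K.one_apply, char_one, K.d21, K.d45, K.d45', K.d55, K.d99, K.d154, K.d210, K.d231,
    K.d280, K.d280', K.d385, hv.ha, hv.hb, hv.hb', hv.he, hv.hf, hv.hg, hv.hh, hv.hi, hv.hk,
    hv.hk', hv.hl, map_one, Complex.conj_natCast] at h
  have h' : ((1 + 21 * v.a + 90 * v.b + 55 * v.e + 99 * v.f + 154 * v.g + 210 * v.h + 231 * v.i +
      560 * v.k + 385 * v.l : ℤ) : ℂ) = 0 := by push_cast at h ⊢; linear_combination h
  exact_mod_cast h'

theorem IsCol.rels (hv : IsCol K x v) (h11 : ¬ 11 ∣ orderOf x) (h7 : ¬ 7 ∣ orderOf x)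
    (h5 : ¬ 5 ∣ orderOf x) :
    v.k = 1 - v.a + 2 * v.b + v.h ∧ v.b = 1 - v.e + v.f ∧ v.g = 1 + v.a + v.i - v.f := by
  have e11 := K.rel11 x h11
  have e7 := K.rel7 x h7
  have e5 := K.rel5 x h5
  rw [hv.hk, hv.ha, hv.hb, hv.hb', hv.hh] at e11
  rw [hv.hb, hv.he, hv.hf] at e7
  rw [hv.hg, hv.ha, hv.hi, hv.hf] at e5
  refine ⟨?_, by exact_mod_cast e7, by exact_mod_cast e5⟩
  have : ((v.k : ℤ) : ℂ) = ((1 - v.a + 2 * v.b + v.h : ℤ) : ℂ) := by
    push_cast; linear_combination e11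
  exact_mod_cast this

theorem exists_isCol (K : Chars G) {x : G} (h11 : ¬ 11 ∣ orderOf x) (h7 : ¬ 7 ∣ orderOf x)
    (hint : ∀ χ : IrrCharacter G, ∃ n : ℤ, (χ : G → ℂ) x = n) : ∃ v, IsCol K x v := by
  obtain ⟨a, ha⟩ := hint K.c21
  obtain ⟨b, hb⟩ := hint K.c45
  obtain ⟨e, he⟩ := hint K.c55
  obtain ⟨f, hf⟩ := hint K.c99
  obtain ⟨g, hg⟩ := hint K.c154
  obtain ⟨h, hh⟩ := hint K.c210
  obtain ⟨i, hi⟩ := hint K.c231
  obtain ⟨k, hk⟩ := hint K.c280
  obtain ⟨l, hl⟩ := hint K.c385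
  exact ⟨⟨a, b, e, f, g, h, i, k, l⟩, ha, hb, by rw [K.eq45 x h7, hb], he, hf, hg, hh, hi, hk,
    by rw [K.eq280 x h11, hk], hl⟩

end Cfsg.Agent.M22Order
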