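import Cfsg.Prelude.Def_Sporadic
import Cfsg.Agent.BlockThms.OrderP.Setup

/-!
# The data of a simple group of order 443520 obtained from the blocks at 11, 7 and 5

`Facts G` is the interface between the two halves of the proof of the uniqueness of `M₂₂` by its
order: the first half (local analysis at 11, 7, 5 and the degrees) proves it, the second half
(involutions, the subgroup of index 77 and its rank three graph) derives the isomorphism from it.
-/

set_option autoImplicit false

namespace Cfsg.Agent.M22Order

universe u

/-- The character degrees of `M₂₂`. -/
def degreeList : List ℕ := [1, 21, 45, 45, 55, 99, 154, 210, 231, 280, 280, 385]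

/-- What the odd primes give: degrees, and self-centralising Sylow subgroups of order 11, 7, 5. -/
structure Facts (G : Type u) [Group G] [Fintype G] : Prop where
  simple : IsSimpleGroup G
  card : Nat.card G = 443520
  degrees : (Finset.univ : Finset (Cfsg.IrrCharacter G)).val.map
      (fun χ => Cfsg.charDegree (χ : G → ℂ)) = (degreeList : Multiset ℕ)
  setup : ∀ p e : ℕ, (p, e) ∈ [(11, 5), (7, 3), (5, 4)] → ∀ P : Sylow p G,
    BlockThms.OrderP.Setup P e ∧ Subgroup.centralizer ((P : Subgroup G) : Set G) = (P : Subgroup G)

end Cfsg.Agent.M22Order
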