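import Cfsg.Agent.M22Order.Data
import Cfsg.Agent.M22Order.Facts

/-!
# The degrees of a simple group of order 443520
-/

set_option autoImplicit false
set_option linter.unusedSectionVars false

namespace Cfsg.Agent.M22Order

open scoped ComplexConjugate
open Cfsg.Agent Cfsg.Agent.Blocks

universe u

local instance fact_five' : Fact (Nat.Prime 5) := ⟨by norm_num⟩
local instance fact_seven' : Fact (Nat.Prime 7) := ⟨by norm_num⟩
local instance fact_eleven' : Fact (Nat.Prime 11) := ⟨by norm_num⟩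

variable {G : Type u} [Group G] [Fintype G]

theorem filter_prime_to {T : List (ℕ × ℤ)} {S : Finset (Cfsg.IrrCharacter G)}
    {v : Cfsg.IrrCharacter G → ℤ} (h : (T : Multiset (ℕ × ℤ)) = S.val.map fun χ => (dg χ, v χ))
    (q : ℕ) : ((Search.prime_to q T : List (ℕ × ℤ)) : Multiset (ℕ × ℤ)) =
      (S.filter fun χ => ¬ q ∣ dg χ).val.map fun χ => (dg χ, v χ) := by
  rw [Search.prime_to, ← Multiset.filter_coe, h, Multiset.filter_map]
  refine congrArg (Multiset.map _) (Multiset.filter_congr fun χ _ => ?_)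
  simp [Nat.dvd_iff_mod_eq_zero]

theorem filter_dvd {T : List (ℕ × ℤ)} {S : Finset (Cfsg.IrrCharacter G)}
    {v : Cfsg.IrrCharacter G → ℤ} (h : (T : Multiset (ℕ × ℤ)) = S.val.map fun χ => (dg χ, v χ))
    (q : ℕ) : ((T.filter fun x => decide (x.1 % q = 0) : List (ℕ × ℤ)) : Multiset (ℕ × ℤ)) =
      (S.filter fun χ => q ∣ dg χ).val.map fun χ => (dg χ, v χ) := by
  rw [← Multiset.filter_coe, h, Multiset.filter_map]
  refine congrArg (Multiset.map _) (Multiset.filter_congr fun χ _ => ?_)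
  simp [Nat.dvd_iff_mod_eq_zero]

theorem msub_prime_to {T T' : List (ℕ × ℤ)} {S S' : Finset (Cfsg.IrrCharacter G)}
    {v : Cfsg.IrrCharacter G → ℤ} (h : (T : Multiset (ℕ × ℤ)) = S.val.map fun χ => (dg χ, v χ))
    (h' : (T' : Multiset (ℕ × ℤ)) = S'.val.map fun χ => (dg χ, v χ)) {q : ℕ}
    (hsub : ∀ χ ∈ S, ¬ q ∣ dg χ → χ ∈ S') : Search.msub (Search.prime_to q T) T' = true := by
  classical
  refine Search.msub_of_le ?_
  rw [filter_prime_to h q, h']
  exact Multiset.map_le_map (Finset.val_le_iff.2 fun χ hχ =>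
    hsub χ (Finset.mem_filter.1 hχ).1 (Finset.mem_filter.1 hχ).2)

theorem okQuad_nil (c : ℕ) (D vs : List ℤ) : Search.okQuad [] c D vs = true := rfl

variable [IsSimpleGroup G] (hG : Nat.card G = 443520)
include hG

theorem okQuad_self {K : Ctx G} {p : ℕ} [Fact p.Prime] (hp : p ∈ [5, 7, 11]) {Q : Sylow p G}
    {e : ℕ} (D : Data K Q e) (hC : Subgroup.centralizer (Q : Set G) = (Q : Subgroup G))
    {t : G} {c : ℕ} {v : Cfsg.IrrCharacter G → ℤ} (hcol : InvCol t c v) {ks : List ℕ} (h0 : 0 ∈ ks)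
    (hk : Even e → p ∈ ks) : Search.okQuad ks c D.DB (D.L.map v) = true := by
  have hp2 : 2 < p := by
    simp only [List.mem_cons, List.not_mem_nil, or_false] at hp; omega
  obtain ⟨k, hk', hq⟩ := D.B.quad hG D.hS D.hM hp2 hC (D.B.nexc_pos hp D.hS) hcol D.hL
  simp only [Search.okQuad, Bool.or_eq_true, List.any_eq_true, decide_eq_true_eq]
  refine Or.inr ⟨k, ?_, hq⟩
  rcases hk' with rfl | ⟨rfl, he⟩
  exacts [h0, hk he]

/-- The column on a further block, at step four. -/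
theorem col_self {K : Ctx G} {p : ℕ} [Fact p.Prime] (hp : p ∈ [5, 7, 11]) {Q : Sylow p G}
    {e : ℕ} (D : Data K Q e) (hC : Subgroup.centralizer (Q : Set G) = (Q : Subgroup G))
    {t : G} {c : ℕ} {v : Cfsg.IrrCharacter G → ℤ} (hcol : InvCol t c v) {LA : List (ℕ × ℤ)}
    (hLA : (LA : Multiset (ℕ × ℤ)) = K.A.nt.val.map fun χ => (dg χ, v χ)) {ks : List ℕ}
    (h0 : 0 ∈ ks) (hk : Even e → p ∈ ks) :
    ∃ LB ∈ Search.bCols c p e 4 ks D.DB LA,
      (LB : Multiset (ℕ × ℤ)) = D.B.nt.val.map fun χ => (dg χ, v χ) :=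
  K.A.mem_bCols D.B hG hp D.hS K.not_dvd D.sub hcol hLA (by norm_num)
    (fun χ _ => by exact_mod_cast hcol.four χ) D.hL (okQuad_self hG hp D hC hcol h0 hk)

/-- The column on a further block, for an involution centralising the Sylow subgroup. -/
theorem col_cent {K : Ctx G} {p : ℕ} [Fact p.Prime] (hp : p ∈ [5, 7, 11]) {Q : Sylow p G}
    {e : ℕ} (D : Data K Q e) {t : G} {c : ℕ} {v : Cfsg.IrrCharacter G → ℤ} (hcol : InvCol t c v)
    (htC : t ∈ Subgroup.centralizer (Q : Set G)) {LA : List (ℕ × ℤ)}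
    (hLA : (LA : Multiset (ℕ × ℤ)) = K.A.nt.val.map fun χ => (dg χ, v χ)) {step : ℕ}
    (hstep : step = 4 * p) :
    ∃ LB ∈ Search.bCols c p e step [] D.DB LA,
      (LB : Multiset (ℕ × ℤ)) = D.B.nt.val.map fun χ => (dg χ, v χ) := by
  subst hstep
  have : 0 < 4 * p := by
    have := (Fact.out : p.Prime).pos
    omega
  exact K.A.mem_bCols D.B hG hp D.hS K.not_dvd D.sub hcol hLA this
    (fun χ hχ => D.B.step hp D.hM hcol htC hχ) D.hL (okQuad_nil _ _ _)

theorem not_dvd_centralizer_inv {p : ℕ} [Fact p.Prime] (hp : p ∈ [5, 7, 11])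
    (hall : ∀ Q : Sylow p G, Subgroup.centralizer (Q : Set G) = (Q : Subgroup G)) {t : G}
    (ht : orderOf t = 2) : ¬ p ∣ Nat.card (Subgroup.centralizer ({t} : Set G)) := by
  intro h
  obtain ⟨x, hx⟩ := exists_prime_orderOf_dvd_card' p h
  have hxy : Commute (x : G) t := Subgroup.mem_centralizer_singleton_iff.1 x.2
  obtain ⟨Q, -, hQ⟩ := exists_mem_centralizer hG hp
    (show orderOf (x : G) = p by rw [Subgroup.orderOf_coe, hx]) hxy
  rw [hall Q] at hQ
  have h1 := Subgroup.orderOf_dvd_natCard _ hQ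
  rw [card_sylow hG hp Q, ht] at h1
  have := (Nat.prime_dvd_prime_iff_eq Nat.prime_two Fact.out).1 h1
  simp only [List.mem_cons, List.not_mem_nil, or_false] at hp
  omega

/-- Both Sylow subgroups commuting with involutions is impossible. -/
theorem not_both {t t' : G} {Q : Sylow 7 G} {Q' : Sylow 5 G} (ht : orderOf t = 2)
    (hc : Nat.card (Subgroup.centralizer ({t} : Set G)) ∈ Search.cents7) (ht' : orderOf t' = 2)
    (hc' : Nat.card (Subgroup.centralizer ({t'} : Set G)) ∈ Search.cents5) : False := by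
  classical
  obtain ⟨K⟩ := exists_ctx hG
  obtain ⟨e5, V5, hS5, he5, -⟩ := local_data hG (by norm_num) Q'
  obtain ⟨e7, V7, hS7, he7, -⟩ := local_data hG (by norm_num) Q
  obtain ⟨D5⟩ := exists_data hG K (by norm_num) hS5 he5
  obtain ⟨D7⟩ := exists_data hG K (by norm_num) hS7 he7
  obtain ⟨w, hw, hwc⟩ := exists_two_central hG
  obtain ⟨q5, hq5, rfl, hB5⟩ := fives_fit hG K D5 he5
  obtain ⟨q7, hq7, rfl, hB7⟩ := sevens_fit hG K D7 he7
  have hk := List.all_eq_true.1 Search.case_both _ (show K.DA ∈ _ from K.hDA)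
  rw [Bool.not_eq_true', K.hasCol hG hw hwc, K.hasCol hG ht hc,
    K.hasCol hG ht' hc'] at hk
  simp only [Bool.and_true, ← Bool.not_eq_true, List.any_eq_true, Bool.and_eq_true] at hk
  exact hk ⟨⟨q5, hq5, D5.DB, hB5, D5.fit⟩, ⟨q7, hq7, D7.DB, hB7, D7.fit⟩⟩

/-- Only the Sylow 5-subgroup self-centralising is impossible. -/
theorem not_seven
    (h5 : ∀ Q : Sylow 5 G, BlockThms.OrderP.Setup Q 4 ∧
      Subgroup.centralizer (Q : Set G) = (Q : Subgroup G))
    {t : G} (ht : orderOf t = 2) {Q : Sylow 7 G} (htC : t ∈ Subgroup.centralizer (Q : Set G))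
    (hc : Nat.card (Subgroup.centralizer ({t} : Set G)) ∈ Search.cents7) : False := by
  classical
  obtain ⟨K⟩ := exists_ctx hG
  obtain ⟨Q5⟩ : Nonempty (Sylow 5 G) := inferInstance
  obtain ⟨hS5, hC5⟩ := h5 Q5
  obtain ⟨e7, V7, hS7, he7, -⟩ := local_data hG (by norm_num) Q
  obtain ⟨D5⟩ := exists_data hG K (by norm_num) hS5 (by norm_num)
  obtain ⟨D7⟩ := exists_data hG K (by norm_num) hS7 he7
  obtain ⟨q7, hq7, rfl, hB7⟩ := sevens_fit hG K D7 he7
  have hB5 : D5.DB ∈ Search.blocks5_4 := by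
    have h := D5.hD
    rw [Search.blockList_five_four] at h
    exact h
  obtain ⟨c, hcd⟩ : ∃ c, Nat.card (Subgroup.centralizer ({t} : Set G)) = c := ⟨_, rfl⟩
  rw [hcd] at hc
  obtain ⟨v, hcol⟩ := exists_col hG ht hcd
  obtain ⟨LA, hLAm, hLA⟩ := K.A.mem_aCols hG K.hS K.hM K.hC hcol K.hL
  obtain ⟨L5, hL5m, hL5⟩ := col_self hG (by norm_num) D5 hC5 hcol hLA (ks := [0, 5])
    (by norm_num) (fun _ => by norm_num)
  obtain ⟨L7, hL7m, hL7⟩ := col_cent hG (by norm_num) D7 hcol htC hLA (step := 28) rfl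
  have h5c : c % 5 ≠ 0 := fun h => not_dvd_centralizer_inv hG (by norm_num)
    (fun Q => (h5 Q).2) ht (hcd ▸ Nat.dvd_of_mod_eq_zero h)
  have heq := D5.eqDeg hC5
  have hk := List.all_eq_true.1 Search.case_seven _ (show K.DA ∈ _ from K.hDA)
  simp only [Bool.or_eq_true, Bool.not_eq_true', List.any_eq_false, List.all_eq_true,
    decide_eq_true_eq] at hk
  rcases hk with hk | hk
  · exact hk _ hB5 heq
  replace hk := ((hk c hc).resolve_left h5c) LA hLAm D5.DB hB5
  replace hk := (hk.resolve_left (by rw [heq]; decide)) L5 hL5m q7 hq7 D7.DB hB7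
  replace hk := (hk.resolve_left (by rw [D7.fit]; decide)) L7 hL7m
  rw [Bool.and_eq_false_iff] at hk
  rcases hk with hk | hk
  · rw [msub_prime_to hL7 hL5 fun χ hχ h => D5.mem_of_not_dvd hC5 (D7.B.ne_triv hχ) h] at hk
    exact Bool.false_ne_true hk.symm
  -- the three disjoint pieces
  let S5 := D5.B.nt.filter fun χ => 11 ∣ dg χ
  let S7 := (D7.B.nt.filter fun χ => 11 ∣ dg χ).filter fun χ => 5 ∣ dg χ
  have h1 : Disjoint K.A.nt S5 := Finset.disjoint_left.2
    fun χ h h' => K.not_dvd χ h (Finset.mem_filter.1 h').2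
  have h2 : Disjoint (K.A.nt.disjUnion S5 h1) S7 := Finset.disjoint_left.2 fun χ h h' => by
    obtain ⟨h11, h5'⟩ := Finset.mem_filter.1 h'
    rcases Finset.mem_disjUnion.1 h with h | h
    · exact K.not_dvd χ h (Finset.mem_filter.1 h11).2
    · exact D5.not_dvd χ (Finset.mem_filter.1 h).1 h5'
  obtain ⟨S, hS⟩ : ∃ S, S = (K.A.nt.disjUnion S5 h1).disjUnion S7 h2 := ⟨_, rfl⟩
  have htS : triv G ∉ S := by
    simp only [hS, Finset.mem_disjUnion, S5, S7, Finset.mem_filter]
    rintro ((h | h) | h)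
    exacts [K.A.triv_nt h, D5.B.triv_nt h.1, D7.B.triv_nt h.1.1]
  have hT : ((LA ++ Search.elevens L5 ++ (Search.elevens L7).filter (fun x => decide (x.1 % 5 = 0)) :
      List (ℕ × ℤ)) : Multiset (ℕ × ℤ)) = S.val.map fun χ => (dg χ, v χ) := by
    rw [hS, Finset.disjUnion_val, Finset.disjUnion_val, Multiset.map_add, Multiset.map_add,
      ← Multiset.coe_add, ← Multiset.coe_add, hLA, Search.elevens, Search.elevens, filter_dvd hL5 11,
      filter_dvd (filter_dvd hL7 11) 5]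
  have hfin := sq_sum_le (insert (triv G) S) v (sum_sq hG) hcol.sq hcol.orth
  rw [Finset.sum_insert htS, Finset.sum_insert htS, Finset.sum_insert htS, dg_triv, hcol.v_triv] at hfin
  simp only [Search.csOk, decide_eq_false_iff_not] at hk
  refine hk ?_
  rw [sqSum_eq hcol hT, ← Multiset.sum_coe, ← Multiset.map_coe, hT, ← Multiset.sum_coe,
    ← Multiset.map_coe, hT, Multiset.map_map, Multiset.map_map]
  simp only [Nat.cast_one, one_mul, one_pow, Finset.sum, Function.comp_def, Nat.cast_mul, ← sq]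
    at hfin ⊢
  exact hfin

/-- The counting contradiction when only the Sylow 7-subgroup is self-centralising. -/
theorem kill_five {K : Ctx G} {Q5 : Sylow 5 G} {Q7 : Sylow 7 G} (D5 : Data K Q5 4)
    (D7 : Data K Q7 3) (hC7 : Subgroup.centralizer (Q7 : Set G) = (Q7 : Subgroup G))
    {V : ℕ} (hV : Nat.card (Subgroup.centralizer (Q5 : Set G)) = 5 * V) (hVs : V ∈ [96, 36, 16, 6])
    (hd5 : (D5.B.nt.val.map dg) = (([21, 66, 66, 154] : List ℕ) : Multiset ℕ))
    (hd7 : (D7.B.nt.val.map dg) = (([55, 66, 66, 120] : List ℕ) : Multiset ℕ)) : False := by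
  classical
  obtain ⟨z5, hz5, hz51, hz5o⟩ := D5.hS.exists_gen
  obtain ⟨z7, hz7, hz71, hz7o⟩ := D7.hS.exists_gen
  set S5 := D5.B.nt.filter fun χ => dg χ = 66
  set S7 := D7.B.nt.filter fun χ => dg χ = 66
  have hcard : ∀ (S : Finset (Cfsg.IrrCharacter G)) (l : List ℕ),
      S.val.map dg = (l : Multiset ℕ) → (S.filter fun χ => dg χ = 66).card = l.count 66 := by
    intro S l h
    rw [Search.count_coe, ← h, Multiset.count_map]
    simp only [Finset.card, Finset.filter_val, eq_comm]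
  have hS : S5 = S7 := by
    refine Finset.eq_of_subset_of_card_le (fun χ hχ => ?_) ?_
    · obtain ⟨h1, h2⟩ := Finset.mem_filter.1 hχ
      exact Finset.mem_filter.2
        ⟨D7.mem_of_not_dvd hC7 (D5.B.ne_triv h1) (by rw [h2]; norm_num), h2⟩
    · rw [hcard _ _ hd5, hcard _ _ hd7]; decide
  have hY7 : D7.B.Y = S7 := by
    refine (Finset.eq_of_subset_of_card_le (fun χ hχ => ?_) ?_).symm
    · obtain ⟨h1, h2⟩ := Finset.mem_filter.1 hχ
      refine (D7.B.mem_nt.1 h1).resolve_left fun h => ?_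
      have h3 := D7.B.congX χ h
      rcases D7.B.pm χ (Or.inl h) with h' | h' <;> rw [h', h2] at h3 <;> norm_num at h3
    · rw [D7.B.card_Y, hcard _ _ hd7]; decide
  have hσ7 : ∀ θ ∈ D7.B.Y, D7.B.σ θ = -1 := by
    intro θ hθ
    have h3 := D7.B.congY θ hθ
    have h2 : dg θ = 66 := (Finset.mem_filter.1 (show θ ∈ S7 by rwa [← hY7])).2
    refine (D7.B.pm θ (Or.inr hθ)).resolve_left fun h' => ?_
    rw [h', h2] at h3
    norm_num at h3
  have hY5 : ∀ θ ∈ D7.B.Y, (θ : G → ℂ) z5 = 1 := by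
    intro θ hθ
    obtain ⟨h1, h2⟩ := Finset.mem_filter.1 (show θ ∈ S5 by rw [hS, ← hY7]; exact hθ)
    rcases D5.B.mem_nt.1 h1 with h | h
    · have h3 := D5.B.congX θ h
      rw [D5.B.atX θ h z5 hz5 hz51]
      rcases D5.B.pm θ (Or.inl h) with h' | h' <;> rw [h', h2] at h3
      · rw [h']; norm_num
      · norm_num at h3
    · have h3 := D5.B.congY θ h
      have h4 := D5.B.atY θ h z5 hz5 hz51
      obtain ⟨θ', hθ'⟩ := Finset.card_eq_one.1 (show D5.B.Y.card = 1 from D5.B.card_Y)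
      rw [hθ', Finset.sum_singleton] at h4
      rw [hθ', Finset.mem_singleton] at h
      subst h
      rw [h4]
      rcases D5.B.pm θ (Or.inr (hθ' ▸ Finset.mem_singleton_self θ)) with h' | h' <;>
        rw [h', h2] at h3
      · rw [h']; norm_num
      · norm_num at h3
  have hX : ∀ χ ∈ D7.B.X, (χ : G → ℂ) z5 = 0 := by
    intro χ hχ
    refine eq_zero_of_dvd_degree hG (by norm_num) hz5o ?_
    have h1 : dg χ ∈ D7.B.nt.val.map dg :=
      Multiset.mem_map_of_mem _ (D7.B.mem_nt.2 (Or.inl hχ))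
    have h2 : dg χ ≠ 66 := fun h => Finset.disjoint_left.1 D7.B.disj hχ
      (hY7 ▸ Finset.mem_filter.2 ⟨D7.B.mem_nt.2 (Or.inl hχ), h⟩)
    rw [hd7, Multiset.mem_coe] at h1
    simp only [List.mem_cons, List.not_mem_nil, or_false] at h1
    rcases h1 with h | h | h | h <;> first | exact absurd h h2 | (rw [h]; norm_num)
  have hout : ∀ χ : Cfsg.IrrCharacter G, χ ∉ insert (triv G) D7.B.nt → (χ : G → ℂ) z7 = 0 := by
    intro χ hχ
    rw [Finset.mem_insert, not_or] at hχ
    refine eq_zero_of_dvd_degree hG (by norm_num) hz7o ?_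
    by_contra h
    exact hχ.2 (D7.mem_of_not_dvd hC7 hχ.1 h)
  obtain ⟨θ₀, hθ₀⟩ := D7.B.Y_nonempty (D7.B.nexc_pos (by norm_num) D7.hS)
  have hcz : Nat.card (Subgroup.centralizer ({z5} : Set G)) = 5 * V := by
    rw [D5.hS.centralizer_eq hz5 hz51, hV]
  have hco := S0840.result z5 z5 z7
  rw [finsum_eq_sum_of_fintype, Char.card_isConj_eq_index, index_eq hG, hcz, hG,
    ← Finset.sum_subset (Finset.subset_univ (insert (triv G) D7.B.nt)) fun χ _ hχ => by
      rw [hout χ hχ, map_zero, mul_zero, zero_div],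
    Finset.sum_insert D7.B.triv_nt, Bl.nt, Finset.sum_disjUnion,
    Finset.sum_eq_zero (s := D7.B.X) (fun χ hχ => by simp [hX χ hχ]),
    Finset.sum_congr rfl (s₁ := D7.B.Y) fun η hη => show _ = conj ((η : G → ℂ) z7) / (66 : ℂ) by
      rw [hY5 η hη, value_one, (Finset.mem_filter.1 (show η ∈ S7 by rwa [← hY7])).2]; simp,
    ← Finset.sum_div, ← map_sum, D7.B.atY θ₀ hθ₀ z7 hz7 hz71, hσ7 θ₀ hθ₀] at hco
  simp only [value_one, dg_triv, triv_value, map_one, Nat.cast_one, mul_one, div_one, zero_add,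
    Int.cast_neg, Int.cast_one, map_neg] at hco
  generalize Nat.card {p : G × G // IsConj z5 p.1 ∧ IsConj z5 p.2 ∧ p.1 * p.2 = z7} = k at hco
  simp only [List.mem_cons, List.not_mem_nil, or_false] at hVs
  rcases hVs with rfl | rfl | rfl | rfl <;> norm_num at hco
  all_goals
    field_simp at hco
    norm_num at hco
    norm_cast at hco
    omega

/-- Only the Sylow 7-subgroup self-centralising is impossible. -/
theorem not_five
    (h7 : ∀ Q : Sylow 7 G, BlockThms.OrderP.Setup Q 3 ∧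
      Subgroup.centralizer (Q : Set G) = (Q : Subgroup G))
    {t : G} (ht : orderOf t = 2) {Q : Sylow 5 G} (htC : t ∈ Subgroup.centralizer (Q : Set G))
    (hc : Nat.card (Subgroup.centralizer ({t} : Set G)) ∈ Search.cents5) : False := by
  classical
  obtain ⟨K⟩ := exists_ctx hG
  obtain ⟨Q7⟩ : Nonempty (Sylow 7 G) := inferInstance
  obtain ⟨hS7, hC7⟩ := h7 Q7
  obtain ⟨e, V, hS5, he5, -, hV, hnum, hmod, -⟩ := local_data hG (by norm_num) Q
  obtain ⟨D5⟩ := exists_data hG K (by norm_num) hS5 he5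
  obtain ⟨D7⟩ := exists_data hG K (by norm_num) hS7 (by norm_num)
  obtain ⟨q5, hq5, rfl, hB5⟩ := fives_fit hG K D5 he5
  have hB7 : D7.DB ∈ Search.blocks7_3 := by
    have h := D7.hD
    rw [Search.blockList_seven_three] at h
    exact h
  obtain ⟨c, hcd⟩ : ∃ c, Nat.card (Subgroup.centralizer ({t} : Set G)) = c := ⟨_, rfl⟩
  rw [hcd] at hc
  obtain ⟨v, hcol⟩ := exists_col hG ht hcd
  obtain ⟨LA, hLAm, hLA⟩ := K.A.mem_aCols hG K.hS K.hM K.hC hcol K.hL
  obtain ⟨L7, hL7m, hL7⟩ := col_self hG (by norm_num) D7 hC7 hcol hLA (ks := [0])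
    (by norm_num) (fun h => absurd h (by decide))
  obtain ⟨L5, hL5m, hL5⟩ := col_cent hG (by norm_num) D5 hcol htC hLA (step := 20) rfl
  have h7c : c % 7 ≠ 0 := fun h => not_dvd_centralizer_inv hG (by norm_num)
    (fun Q => (h7 Q).2) ht (hcd ▸ Nat.dvd_of_mod_eq_zero h)
  have heq := D7.eqDeg hC7
  have hk := List.all_eq_true.1 Search.case_five _ (show K.DA ∈ _ from K.hDA)
  simp only [Bool.or_eq_true, Bool.not_eq_true', List.any_eq_false, List.all_eq_true,
    decide_eq_true_eq, Bool.and_eq_true] at hk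
  rcases hk with hk | hk
  · exact hk _ hB7 heq
  replace hk := ((hk c hc).resolve_left h7c) LA hLAm D7.DB hB7
  replace hk := (hk.resolve_left (by rw [heq]; decide)) L7 hL7m q5 hq5 D5.DB hB5
  replace hk := (hk.resolve_left (by rw [D5.fit]; decide)) L5 hL5m
  replace hk := hk.resolve_left (by
    rw [msub_prime_to hL5 hL7 fun χ hχ h => D7.mem_of_not_dvd hC7 (D5.B.ne_triv hχ) h]
    decide)
  obtain ⟨⟨he4, hd5⟩, hd7⟩ := hk
  obtain ⟨x, y⟩ := q5
  simp only at he4
  subst he4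
  have h1 := Search.eq_of_meq hd5
  have h2 := Search.eq_of_meq hd7
  have h1' := D5.degs
  have h2' := D7.degs
  norm_num [Search.nexc] at h1' h2'
  rw [h1'] at h1
  rw [h2'] at h2
  have h2V : 2 ∣ V := by
    have h := Subgroup.orderOf_dvd_natCard _ htC
    rw [ht, hV] at h
    exact (Nat.prime_two.dvd_mul.1 h).resolve_left (by norm_num)
  refine kill_five hG D5 D7 hC7 hV ?_ h1 h2
  have h11 := not_dvd_cofactor hG hS5 hV (q := 11) fun x y hx hy =>
    not_commute_eleven hG (by norm_num) hx hy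
  have h77 := not_dvd_cofactor hG hS5 hV (q := 7) fun x y hx hy h =>
    not_commute_five_seven hG hx hy h
  obtain ⟨n, hn⟩ : ∃ n, n = Nat.card (Sylow 5 G) := ⟨_, rfl⟩
  rw [← hn] at hnum hmod
  have hdn : 4 * V ∣ 128 * 693 := ⟨n, by
    rw [← Nat.mul_left_inj (show (5 : ℕ) ≠ 0 by norm_num)]
    calc 128 * 693 * 5 = 443520 := by norm_num
      _ = _ := by rw [← hnum]; ring⟩
  obtain ⟨a, b, ha, hb, hab⟩ := Nat.dvd_mul.1 hdn
  have key : ∀ a ∈ Nat.divisors 128, ∀ b ∈ Nat.divisors 693, a * b % 8 = 0 → a * b / 4 % 7 ≠ 0 →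
      a * b / 4 % 11 ≠ 0 → 88704 / (a * b) % 5 = 1 → a * b / 4 ∈ [96, 36, 16, 6] := by
    decide +kernel
  have h4 : a * b / 4 = V := by rw [hab]; omega
  rw [← h4]
  refine key a (Nat.mem_divisors.2 ⟨ha, by norm_num⟩) b (Nat.mem_divisors.2 ⟨hb, by norm_num⟩)
    ?_ ?_ ?_ ?_
  · rw [hab]; omega
  · rw [h4]; exact fun h => h77 (Nat.dvd_of_mod_eq_zero h)
  · rw [h4]; exact fun h => h11 (Nat.dvd_of_mod_eq_zero h)
  · rw [hab, show 88704 / (4 * V) = n from ?_]
    · exact hmod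
    · refine Nat.div_eq_of_eq_mul_left (by rcases h2V with ⟨j, rfl⟩; omega) ?_
      rw [← Nat.mul_left_inj (show (5 : ℕ) ≠ 0 by norm_num)]
      calc 88704 * 5 = 443520 := by norm_num
        _ = _ := by rw [← hnum]; ring

/-- The degrees when all three Sylow subgroups are self-centralising. -/
theorem degrees_of_self
    (h7 : ∀ Q : Sylow 7 G, BlockThms.OrderP.Setup Q 3 ∧
      Subgroup.centralizer (Q : Set G) = (Q : Subgroup G))
    (h5 : ∀ Q : Sylow 5 G, BlockThms.OrderP.Setup Q 4 ∧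
      Subgroup.centralizer (Q : Set G) = (Q : Subgroup G)) :
    (Finset.univ : Finset (Cfsg.IrrCharacter G)).val.map dg = (degreeList : Multiset ℕ) := by
  classical
  obtain ⟨K⟩ := exists_ctx hG
  obtain ⟨Q7⟩ : Nonempty (Sylow 7 G) := inferInstance
  obtain ⟨Q5⟩ : Nonempty (Sylow 5 G) := inferInstance
  obtain ⟨hS7, hC7⟩ := h7 Q7
  obtain ⟨hS5, hC5⟩ := h5 Q5
  obtain ⟨D5⟩ := exists_data hG K (by norm_num) hS5 (by norm_num)
  obtain ⟨D7⟩ := exists_data hG K (by norm_num) hS7 (by norm_num)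
  obtain ⟨w, hw, hwc⟩ := exists_two_central hG
  obtain ⟨c, hcd⟩ : ∃ c, Nat.card (Subgroup.centralizer ({w} : Set G)) = c := ⟨_, rfl⟩
  rw [hcd] at hwc
  obtain ⟨v, hcol⟩ := exists_col hG hw hcd
  obtain ⟨LA, hLAm, hLA⟩ := K.A.mem_aCols hG K.hS K.hM K.hC hcol K.hL
  obtain ⟨L7, hL7m, hL7⟩ := col_self hG (by norm_num) D7 hC7 hcol hLA (ks := [0])
    (by norm_num) (fun h => absurd h (by decide))
  obtain ⟨L5, hL5m, hL5⟩ := col_self hG (by norm_num) D5 hC5 hcol hLA (ks := [0, 5])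
    (by norm_num) (fun _ => by norm_num)
  have hB7 : D7.DB ∈ Search.blocks7_3 := by
    have h := D7.hD
    rw [Search.blockList_seven_three] at h
    exact h
  have hB5 : D5.DB ∈ Search.blocks5_4 := by
    have h := D5.hD
    rw [Search.blockList_five_four] at h
    exact h
  have hf : (D7.B.nt.filter fun χ => ¬ 5 ∣ dg χ) = D5.B.nt.filter fun χ => ¬ 7 ∣ dg χ := by
    ext χ
    simp only [Finset.mem_filter]
    exact ⟨fun h => ⟨D5.mem_of_not_dvd hC5 (D7.B.ne_triv h.1) h.2, D7.not_dvd χ h.1⟩,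
      fun h => ⟨D7.mem_of_not_dvd hC7 (D5.B.ne_triv h.1) h.2, D5.not_dvd χ h.1⟩⟩
  have hm : Search.meq (Search.prime_to 5 L7) (Search.prime_to 7 L5) = true := by
    refine Search.meq_of_eq ?_
    rw [filter_prime_to hL7 5, filter_prime_to hL5 7, hf]
  have hmd : Search.meq ((Search.degsOf 2 D7.DB).filter fun d => decide (d % 5 ≠ 0))
      ((Search.degsOf 1 D5.DB).filter fun d => decide (d % 7 ≠ 0)) = true := by
    refine Search.meq_of_eq ?_
    rw [filter_degs (l := Search.degsOf 2 D7.DB) D7.degs 5,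
      filter_degs (l := Search.degsOf 1 D5.DB) D5.degs 7, hf]
  have hk := List.all_eq_true.1 Search.case_trivial _ (show K.DA ∈ _ from K.hDA)
  simp only [Bool.or_eq_true, Bool.not_eq_true', List.all_eq_true, Bool.and_eq_true] at hk
  replace hk := ((hk D7.DB hB7).resolve_left (by rw [D7.eqDeg hC7]; decide)) D5.DB hB5
  replace hk := hk.resolve_left (by
    rw [D5.eqDeg hC5, hmd]
    decide)
  replace hk := (hk c hwc LA hLAm L7 hL7m L5 hL5m).resolve_left (by rw [hm]; decide)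
  obtain ⟨⟨hA, h7d⟩, h5d⟩ := hk
  have hA' : K.A.nt.val.map dg = (([21, 45, 45, 210, 280, 280] : List ℕ) : Multiset ℕ) :=
    K.degsA.symm.trans (Search.eq_of_meq hA)
  have h7' : D7.B.nt.val.map dg = (([55, 99, 45, 45] : List ℕ) : Multiset ℕ) :=
    D7.degs.symm.trans (Search.eq_of_meq h7d)
  have h5' : D5.B.nt.val.map dg = (([21, 99, 154, 231] : List ℕ) : Multiset ℕ) :=
    D5.degs.symm.trans (Search.eq_of_meq h5d)
  set S7 := D7.B.nt.filter fun χ => 11 ∣ dg χ with hS7e
  set S5 := D5.B.nt.filter fun χ => 11 ∣ dg χ ∧ 7 ∣ dg χ with hS5e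
  have h1 : Disjoint K.A.nt S7 := Finset.disjoint_left.2
    fun χ h h' => K.not_dvd χ h (Finset.mem_filter.1 h').2
  have h2 : Disjoint (K.A.nt.disjUnion S7 h1) S5 := Finset.disjoint_left.2 fun χ h h' => by
    obtain ⟨-, h11, h7'⟩ := Finset.mem_filter.1 h'
    rcases Finset.mem_disjUnion.1 h with h | h
    · exact K.not_dvd χ h h11
    · exact D7.not_dvd χ (Finset.mem_filter.1 h).1 h7'
  obtain ⟨S, hS⟩ : ∃ S, S = (K.A.nt.disjUnion S7 h1).disjUnion S5 h2 := ⟨_, rfl⟩
  have htS : triv G ∉ S := by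
    simp only [hS, Finset.mem_disjUnion, hS7e, hS5e, Finset.mem_filter]
    rintro ((h | h) | h)
    exacts [K.A.triv_nt h, D7.B.triv_nt h.1, D5.B.triv_nt h.1]
  have hfm : ∀ (T : Finset (Cfsg.IrrCharacter G)) (q : ℕ → Prop) [DecidablePred q],
      (T.filter fun χ => q (dg χ)).val.map dg = (T.val.map dg).filter q := fun T q _ => by
    rw [Multiset.filter_map, Finset.filter_val]
    congr 1
  have hSv : S.val.map dg =
      (([21, 45, 45, 210, 280, 280] ++ [55, 99] ++ [154, 231] : List ℕ) : Multiset ℕ) := by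
    rw [hS, Finset.disjUnion_val, Finset.disjUnion_val, Multiset.map_add, Multiset.map_add, hA',
      hS7e, hS5e, hfm D7.B.nt fun d => 11 ∣ d, hfm D5.B.nt fun d => 11 ∣ d ∧ 7 ∣ d, h7', h5']
    decide +kernel
  set R := Finset.univ \ insert (triv G) S with hR
  have hR385 : ∀ χ ∈ R, dg χ = 385 := by
    intro χ hχ
    simp only [hR, Finset.mem_sdiff, Finset.mem_insert, not_or, hS, Finset.mem_disjUnion, hS7e,
      hS5e, Finset.mem_filter, not_and] at hχ
    obtain ⟨-, hne, ⟨hnA, hn7⟩, hn5⟩ := hχ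
    have d11 := K.dvd_out χ hne hnA
    have d7 : 7 ∣ dg χ := by_contra fun h => hn7 (D7.mem_of_not_dvd hC7 hne h) d11
    have d5 : 5 ∣ dg χ := by_contra fun h => hn5 (D5.mem_of_not_dvd hC5 hne h) d11 d7
    have hd : 5 * 7 * 11 ∣ dg χ := Nat.Coprime.mul_dvd_of_dvd_of_dvd (by norm_num)
      (Nat.Coprime.mul_dvd_of_dvd_of_dvd (by norm_num) d5 d7) d11
    obtain ⟨j, hj⟩ := hd
    have hlt := dg_sq_lt hG hne
    have hpos := dg_pos χ
    rcases j with _ | _ | j
    · omega
    · omega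
    · exfalso
      have h770 : 770 ≤ dg χ := by omega
      have := Nat.mul_le_mul h770 h770
      omega
  have hsum : ∀ T : Finset (Cfsg.IrrCharacter G), ∑ χ ∈ T, (dg χ : ℤ) ^ 2 =
      ((T.val.map dg).map fun d : ℕ => (d : ℤ) ^ 2).sum := fun T => by
    rw [Multiset.map_map]; rfl
  have hcardR : R.card = 1 := by
    have h := sum_sq hG
    rw [← Finset.sum_sdiff (Finset.subset_univ (insert (triv G) S)), ← hR,
      Finset.sum_insert htS, dg_triv, Finset.sum_congr rfl fun χ hχ => by rw [hR385 χ hχ],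
      Finset.sum_const, hsum, hSv, Multiset.map_coe, Multiset.sum_coe] at h
    norm_num at h
    omega
  have hRv : R.val.map dg = (([385] : List ℕ) : Multiset ℕ) := by
    rw [Multiset.map_congr rfl hR385, Multiset.map_const', show Multiset.card R.val = 1 from hcardR]
    rfl
  have huniv : (Finset.univ : Finset (Cfsg.IrrCharacter G)) =
      R.disjUnion (insert (triv G) S) Finset.sdiff_disjoint := by
    rw [Finset.disjUnion_eq_union, hR, Finset.sdiff_union_of_subset (Finset.subset_univ _)]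
  rw [huniv, Finset.disjUnion_val, Multiset.map_add, hRv, Finset.insert_val_of_notMem htS,
    Multiset.map_cons, dg_triv, hSv]
  decide +kernel

/-- The data from the blocks at 11, 7 and 5. -/
theorem facts : Facts G := by
  have h7 : ∀ Q : Sylow 7 G, BlockThms.OrderP.Setup Q 3 ∧
      Subgroup.centralizer (Q : Set G) = (Q : Subgroup G) := fun Q => by
    rcases seven_alt hG Q with ⟨t, ht, htC, hc⟩ | h
    · exfalso
      by_cases h5 : ∀ Q : Sylow 5 G, BlockThms.OrderP.Setup Q 4 ∧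
          Subgroup.centralizer (Q : Set G) = (Q : Subgroup G)
      · exact not_seven hG h5 ht htC hc
      · obtain ⟨Q', hQ'⟩ := not_forall.1 h5
        obtain ⟨t', ht', -, hc'⟩ := (five_alt hG Q').resolve_right hQ'
        exact not_both hG (Q := Q) (Q' := Q') ht hc ht' hc'
    · exact h
  have h5 : ∀ Q : Sylow 5 G, BlockThms.OrderP.Setup Q 4 ∧
      Subgroup.centralizer (Q : Set G) = (Q : Subgroup G) := fun Q => by
    rcases five_alt hG Q with ⟨t, ht, htC, hc⟩ | h
    · exact (not_five hG h7 ht htC hc).elim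
    · exact h
  refine ⟨inferInstance, hG, ?_, fun p e hpe P => ?_⟩
  · simpa [Multiset.map_map, Function.comp_def, Multiset.bind_singleton] using
      degrees_of_self hG h7 h5
  simp only [List.mem_cons, Prod.mk.injEq, List.not_mem_nil, or_false] at hpe
  rcases hpe with ⟨rfl, rfl⟩ | ⟨rfl, rfl⟩ | ⟨rfl, rfl⟩
  exacts [eleven hG P, h7 P, h5 P]

end Cfsg.Agent.M22Order
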