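import Cfsg.Agent.M22Order.Lists

/-!
# Candidate columns of an involution on the principal blocks
-/

set_option autoImplicit false

namespace Cfsg.Agent.M22Order.Search

/-- The number of exceptional characters. -/
def nexc (p e : ℕ) : ℕ := (p - 1) / e

/-- The degrees of the nontrivial members. -/
def degsOf (nx : ℕ) (D : List ℤ) : List ℕ :=
  D.map Int.natAbs ++ List.replicate nx (exc D).natAbs

/-- Tuples with one entry from each list and bounded squares on the flagged places. -/
def search : List (Bool × List ℤ) → ℤ → List (List ℤ)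
  | [], _ => [[]]
  | (f, l) :: rest, b => l.flatMap fun v =>
      if (if f then v * v else 0) ≤ b then
        (search rest (b - if f then v * v else 0)).map (v :: ·)
      else []

/-- The values compatible with a degree and a centralizer order `c`. -/
def cand (c step d : ℕ) : List ℤ :=
  ((List.range ((2 * d - 1) / step)).map fun j => (d : ℤ) - ((step * (j + 1) : ℕ) : ℤ)).filter
    fun v => decide (v * v ≤ (c : ℤ)) && decide ((((443520 / c : ℕ) : ℤ) * v) % (d : ℤ) = 0)

/-- The signed sum of the values. -/
def valSum (D vs : List ℤ) : ℤ := (List.zipWith (fun D v => D.sign * v) D vs).sum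

/-- The value of the exceptional characters. -/
def excVal (D vs : List ℤ) : ℤ := (exc D).sign * -(1 + valSum D vs)

/-- Degrees and values of the nontrivial members. -/
def pairsOf (nx : ℕ) (D vs : List ℤ) : List (ℕ × ℤ) :=
  List.zipWith (fun D v => (D.natAbs, v)) D vs ++
    List.replicate nx ((exc D).natAbs, excVal D vs)

/-- A common multiple of the degrees. -/
def den (D : List ℤ) : ℕ := (exc D).natAbs * (D.map Int.natAbs).prod

/-- The class multiplication sum times `den`. -/
def quadNum (D vs : List ℤ) : ℤ :=
  (den D : ℤ) + (List.zipWith (fun x v => x.sign * v * v * ((den D / x.natAbs : ℕ) : ℤ)) D vs).sum +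
    (exc D).sign * excVal D vs * excVal D vs * ((den D / (exc D).natAbs : ℕ) : ℤ)

/-- The class multiplication sum corresponds to one of the admissible numbers of pairs. -/
def okQuad (ks : List ℕ) (c : ℕ) (D vs : List ℤ) : Bool :=
  ks.isEmpty || ks.any fun k => decide (quadNum D vs * 443520 = ((k * (c * c) * den D : ℕ) : ℤ))

/-- The conditions on the exceptional value. -/
def okExcVal (c step : ℕ) (D vs : List ℤ) : Bool :=
  decide (((exc D).natAbs - excVal D vs) % (step : ℤ) = 0) &&
    decide ((excVal D vs).natAbs < (exc D).natAbs) &&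
    decide ((((443520 / c : ℕ) : ℤ) * excVal D vs) % ((exc D).natAbs : ℤ) = 0)

/-- The total of the squares. -/
def sqSum (T : List (ℕ × ℤ)) : ℤ := (T.map fun x => x.2 * x.2).sum

/-- The columns on the principal block at eleven. -/
def aCols (c : ℕ) (A : List ℤ) : List (List (ℕ × ℤ)) :=
  ((search (A.map fun D => (true, cand c 4 D.natAbs)) ((c : ℤ) - 1)).filter fun vs =>
    okExcVal c 4 A vs && decide (1 + sqSum (pairsOf 2 A vs) ≤ (c : ℤ)) && okQuad [0] c A vs).map
      (pairsOf 2 A)

/-- Inclusion of multisets. -/
def msub {α : Type} [BEq α] (l m : List α) : Bool := l.all fun x => decide (l.count x ≤ m.count x)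

/-- Equality of multisets. -/
def meq {α : Type} [BEq α] (l m : List α) : Bool := msub l m && msub m l

/-- The members of degree prime to `q`. -/
def prime_to (q : ℕ) (T : List (ℕ × ℤ)) : List (ℕ × ℤ) := T.filter fun x => decide (x.1 % q ≠ 0)

/-- The members of degree divisible by eleven. -/
def elevens (T : List (ℕ × ℤ)) : List (ℕ × ℤ) := T.filter fun x => decide (x.1 % 11 = 0)

/-- The values allowed for one member. -/
def bLists (c step : ℕ) (B : List ℤ) (LA : List (ℕ × ℤ)) : List (Bool × List ℤ) :=
  B.map fun D =>
    if D.natAbs % 11 = 0 then (true, cand c step D.natAbs)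
    else (false, ((((LA.filter fun x => decide (x.1 = D.natAbs)).map Prod.snd).filter fun v =>
      decide (((D.natAbs : ℤ) - v) % (step : ℤ) = 0) && decide (v ≠ (D.natAbs : ℤ)))).eraseDups)

/-- The columns on a principal block extending a column at eleven. -/
def bCols (c p e step : ℕ) (ks : List ℕ) (B : List ℤ) (LA : List (ℕ × ℤ)) :
    List (List (ℕ × ℤ)) :=
  ((search (bLists c step B LA) ((c : ℤ) - 1 - sqSum LA)).filter fun vs =>
    okExcVal c step B vs && msub (prime_to 11 (pairsOf (nexc p e) B vs)) LA &&
      decide (1 + sqSum LA + sqSum (elevens (pairsOf (nexc p e) B vs)) ≤ (c : ℤ)) &&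
      okQuad ks c B vs).map (pairsOf (nexc p e) B)

/-- The degrees prime to eleven of a block lie in the block at eleven. -/
def fitDeg (A : List ℤ) (p e : ℕ) (B : List ℤ) : Bool :=
  msub ((degsOf (nexc p e) B).filter fun d => decide (d % 11 ≠ 0)) (degsOf 2 A)

/-- Two self-centralizing blocks share the degrees prime to both primes. -/
def eqDeg (A : List ℤ) (p e : ℕ) (B : List ℤ) : Bool :=
  meq ((degsOf 2 A).filter fun d => decide (d % p ≠ 0))
    ((degsOf (nexc p e) B).filter fun d => decide (d % 11 ≠ 0))

/-- The Cauchy-Schwarz inequality for the orthogonality with the first column. -/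
def csOk (T : List (ℕ × ℤ)) (c : ℕ) : Bool :=
  decide ((1 + (T.map fun x => (x.1 : ℤ) * x.2).sum) * (1 + (T.map fun x => (x.1 : ℤ) * x.2).sum) ≤
    (443520 - (1 + (T.map fun x => ((x.1 * x.1 : ℕ) : ℤ)).sum)) * ((c : ℤ) - (1 + sqSum T)))

/-- Orders of centralizers of two-central involutions. -/
def cents0 : List ℕ := [128, 384, 640, 896, 1152, 1920, 2688, 4480, 5760, 8064, 13440, 40320]

/-- Orders of centralizers of involutions commuting with elements of order seven. -/
def cents7 : List ℕ := [56, 168, 448, 840, 1344, 2016, 2520, 6720, 20160]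

/-- Orders of centralizers of involutions commuting with elements of order five. -/
def cents5 : List ℕ :=
  [20, 40, 80, 120, 240, 320, 420, 480, 640, 720, 840, 1120, 1440, 1680, 1920, 2240, 2520, 2880,
    4480, 5040, 6720, 10080, 13440, 40320]

/-- Some column exists at one of the orders. -/
def hasCol (cs : List ℕ) (A : List ℤ) : Bool := cs.any fun c => !(aCols c A).isEmpty

end Cfsg.Agent.M22Order.Search
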