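import Cfsg.Agent.M22Order.Gen
import Cfsg.Agent.M22Order.Cols
import Cfsg.Agent.BlockThms.OrderP.Main
import Cfsg.Agent.BlockChar.Support

/-!
# The principal block at 11, 7 or 5
-/

set_option autoImplicit false
set_option linter.unusedSectionVars false

namespace Cfsg.Agent.M22Order

open scoped ComplexConjugate
open Cfsg.Agent Cfsg.Agent.Blocks

universe u

variable {G : Type u} [Group G] [Fintype G]

/-- The nontrivial members of the principal block, split into ordinary and exceptional ones. -/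
structure Bl {p : ℕ} [Fact p.Prime] (P : Sylow p G) (M : Ideal Cfsg.AlgInt) (e : ℕ) where
  X : Finset (Cfsg.IrrCharacter G)
  Y : Finset (Cfsg.IrrCharacter G)
  σ : Cfsg.IrrCharacter G → ℤ
  disj : Disjoint X Y
  card_X : X.card + 1 = e
  card_Y : Y.card = Search.nexc p e
  triv_X : triv G ∉ X
  triv_Y : triv G ∉ Y
  mem : ∀ χ, χ ∈ Cfsg.principalBlock M G ↔ χ = triv G ∨ χ ∈ X ∨ χ ∈ Y
  pm : ∀ χ, χ ∈ X ∨ χ ∈ Y → σ χ = 1 ∨ σ χ = -1
  congX : ∀ χ ∈ X, (σ χ * (dg χ : ℤ) - 1) % (p : ℤ) = 0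
  congY : ∀ θ ∈ Y, (σ θ * (dg θ : ℤ) + e) % (p : ℤ) = 0
  canon : Search.nexc p e = 1 → ∀ χ ∈ X, ∀ θ ∈ Y, σ χ * (dg χ : ℤ) ≤ σ θ * (dg θ : ℤ)
  atX : ∀ χ ∈ X, ∀ z ∈ (P : Subgroup G), z ≠ 1 → (χ : G → ℂ) z = (σ χ : ℂ)
  atY : ∀ θ ∈ Y, ∀ z ∈ (P : Subgroup G), z ≠ 1 → ∑ η ∈ Y, (η : G → ℂ) z = (σ θ : ℂ)
  cong : ∀ χ, χ ∈ X ∨ χ ∈ Y → ∀ y ∈ Subgroup.centralizer (P : Set G), ¬ p ∣ orderOf y →
    Cfsg.MemLocalIdeal M ((χ : G → ℂ) y - (dg χ : ℂ))
  rel : ∀ θ ∈ Y, ∀ g : G, ¬ p ∣ orderOf g →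
    1 + ∑ χ ∈ X, (σ χ : ℂ) * (χ : G → ℂ) g + (σ θ : ℂ) * (θ : G → ℂ) g = 0
  eqY : ∀ θ ∈ Y, ∀ η ∈ Y, σ θ = σ η ∧
    ∀ g : G, ¬ p ∣ orderOf g → (θ : G → ℂ) g = (η : G → ℂ) g

variable [IsSimpleGroup G] (hG : Nat.card G = 443520)
include hG

/-- The structure of the principal block, in the normalised form. -/
theorem exists_bl {p : ℕ} [hpF : Fact p.Prime] (hp : p ∈ [5, 7, 11]) {P : Sylow p G} {e : ℕ}
    (hS : BlockThms.OrderP.Setup P e) (he : 2 ≤ e) {M : Ideal Cfsg.AlgInt}
    (hM : Cfsg.IsPModular p M) : Nonempty (Bl P M e) := by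
  classical
  have hp' : p.Prime := Fact.out
  have hp2 : 2 < p := by
    simp only [List.mem_cons, List.not_mem_nil, or_false] at hp; omega
  obtain ⟨hdvd, -⟩ := hS.exists_y
  have hele : e ≤ p - 1 := Nat.le_of_dvd (by omega) hdvd
  obtain ⟨X, Y, a, s, hdisj, hXc, hYc, hmem, hs, hX, hY, hYeq, hrel⟩ := hS.principal_structure hM
  have hmod : ∀ (m n : ℤ), m ≡ n [ZMOD p] ↔ (m - n) % (p : ℤ) = 0 := fun m n => by
    rw [Int.modEq_comm, Int.modEq_iff_dvd]
    exact ⟨Int.emod_eq_zero_of_dvd, Int.dvd_of_emod_eq_zero⟩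
  -- the signs and degree congruences
  have hss : s * s = 1 := by rcases hs with rfl | rfl <;> norm_num
  let σ : Cfsg.IrrCharacter G → ℤ := fun χ => if χ ∈ X then a χ else s
  have hσX : ∀ χ ∈ X, σ χ = a χ := fun χ h => if_pos h
  have hσY : ∀ θ ∈ Y, σ θ = s := fun θ h => if_neg fun h' => Finset.disjoint_left.1 hdisj h' h
  have hpm : ∀ χ, χ ∈ X ∨ χ ∈ Y → σ χ = 1 ∨ σ χ = -1 := by
    rintro χ (h | h)
    · rw [hσX χ h]; exact (hX χ h).1
    · rw [hσY χ h]; exact hs
  have hcX : ∀ χ ∈ X, (σ χ * (dg χ : ℤ) - 1) % (p : ℤ) = 0 := by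
    intro χ h
    have h1 := (hmod _ _).1 (hX χ h).2.1
    rcases (hX χ h).1 with ha | ha <;> rw [hσX χ h, ha] <;> rw [ha] at h1
    · simpa using h1
    · have h2 := Int.emod_eq_zero_of_dvd (dvd_neg.2 (Int.dvd_of_emod_eq_zero h1))
      rw [show (-1 : ℤ) * (dg χ : ℤ) - 1 = -((dg χ : ℤ) - -1) by ring]
      exact h2
  have hcY : ∀ θ ∈ Y, (σ θ * (dg θ : ℤ) + e) % (p : ℤ) = 0 := by
    intro θ h
    have h1 := Int.dvd_of_emod_eq_zero ((hmod _ _).1 (hY θ h))
    rw [hσY θ h]
    refine Int.emod_eq_zero_of_dvd ?_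
    have h2 := h1.mul_left s
    rwa [show s * ((dg θ : ℤ) - -((e : ℤ) * s)) = s * (dg θ : ℤ) + e by
      linear_combination (e : ℤ) * hss] at h2
  -- the values at `P`
  have hatX : ∀ χ ∈ X, ∀ z ∈ (P : Subgroup G), z ≠ 1 → (χ : G → ℂ) z = (σ χ : ℂ) := by
    intro χ h z hz hz1
    have h1 := (hX χ h).2.2 z hz hz1 1 (Subgroup.one_mem _)
      (by rw [orderOf_one]; exact hp'.not_dvd_one)
    rwa [mul_one, ← hσX χ h] at h1
  have hYdeg : ∀ θ ∈ Y, ∀ η ∈ Y, dg θ = dg η := by
    intro θ hθ η hη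
    have h := hYeq θ hθ η hη 1 (by rw [orderOf_one]; exact hp'.not_dvd_one)
    rw [value_one, value_one] at h
    exact_mod_cast h
  have hsum1 : ∀ θ ∈ Y, (s : ℂ) * (dg θ : ℂ) + ∑ χ ∈ X, (a χ : ℂ) * (dg χ : ℂ) = 0 := by
    intro θ hθ
    have h := hrel θ hθ 1 (by rw [orderOf_one]; exact hp'.not_dvd_one)
    simpa only [value_one] using h
  have hatY : ∀ θ ∈ Y, ∀ z ∈ (P : Subgroup G), z ≠ 1 →
      ∑ η ∈ Y, (η : G → ℂ) z = (σ θ : ℂ) := by
    intro θ hθ z hz hz1
    have hzo : orderOf z = p := by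
      rw [← Nat.card_zpowers, hS.zpowers_eq hz hz1, hS.card]
    have h := BlockChar.sum_block_degree_mul_eq_zero hM (isPBlock_principalBlock M) (y := z)
      (fun h => h (by rw [hzo]))
    rw [← Finset.sum_filter, show Finset.univ.filter (fun χ => χ ∈ Cfsg.principalBlock M G) =
      X ∪ Y by ext χ; simp [hmem], Finset.sum_union hdisj,
      Finset.sum_congr rfl fun χ hχ => by
        rw [value_one, hatX χ hχ z hz hz1, hσX χ hχ, mul_comm]] at h
    have hYs : ∑ η ∈ Y, (η : G → ℂ) 1 * (η : G → ℂ) z = (dg θ : ℂ) * ∑ η ∈ Y, (η : G → ℂ) z := by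
      rw [Finset.mul_sum]
      exact Finset.sum_congr rfl fun η hη => by rw [value_one, hYdeg η hη θ hθ]
    rw [hYs] at h
    have hd : (dg θ : ℂ) ≠ 0 := Nat.cast_ne_zero.2 (dg_pos θ).ne'
    have h1 : (dg θ : ℂ) * ((∑ η ∈ Y, (η : G → ℂ) z) - (s : ℂ)) = 0 := by
      linear_combination h - hsum1 θ hθ
    rw [hσY θ hθ]
    exact sub_eq_zero.1 ((mul_eq_zero.1 h1).resolve_left hd)
  -- congruences on the centraliser
  have hσσ : ∀ χ, χ ∈ X ∨ χ ∈ Y → (σ χ : ℂ) * (σ χ : ℂ) = 1 := fun χ h => by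
    rcases hpm χ h with h | h <;> rw [h] <;> norm_num
  have hint : ∀ {m : ℤ}, m % (p : ℤ) = 0 → Cfsg.MemLocalIdeal M (m : ℂ) := fun h =>
    (Blocks.memLocalIdeal_intCast_iff hM _).2 (Int.dvd_of_emod_eq_zero h)
  have hring : ∀ χ, χ ∈ X ∨ χ ∈ Y → ∀ {x : ℂ}, Cfsg.MemLocalIdeal M ((σ χ : ℂ) * x) →
      Cfsg.MemLocalIdeal M x := by
    intro χ h x hx
    rcases hpm χ h with h' | h' <;> rw [h'] at hx
    · simpa using hx
    · simpa using memLocalIdeal_neg hx
  have hcongX : ∀ χ ∈ X, ∀ y ∈ Subgroup.centralizer (P : Set G), ¬ p ∣ orderOf y →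
      Cfsg.MemLocalIdeal M ((σ χ : ℂ) * (χ : G → ℂ) y - 1) := by
    intro χ h y hy hyp
    obtain ⟨z, hz, hz1, hzo⟩ := hS.exists_gen
    have h1 := memLocalIdeal_char_sub_pPrimePart hM (Char.IsIrr.isCharacter χ.2) (z * y)
    rw [(parts_mul hp' (Subgroup.mem_centralizer_iff.1 hy z hz) ⟨1, by rw [hzo, pow_one]⟩ hyp).2,
      (hX χ h).2.2 z hz hz1 y hy hyp, ← hσX χ h] at h1
    rcases hpm χ (Or.inl h) with h' | h' <;> rw [h'] at h1 ⊢
    · simpa using h1
    · have h2 := memLocalIdeal_neg h1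
      simp only [Int.cast_neg, Int.cast_one] at h2 ⊢
      rwa [show (-1 : ℂ) * (χ : G → ℂ) y - 1 = -((χ : G → ℂ) y - -1) by ring]
  have hcong : ∀ χ, χ ∈ X ∨ χ ∈ Y → ∀ y ∈ Subgroup.centralizer (P : Set G), ¬ p ∣ orderOf y →
      Cfsg.MemLocalIdeal M ((χ : G → ℂ) y - (dg χ : ℂ)) := by
    intro χ hχ y hy hyp
    refine hring χ hχ ?_
    rcases hχ with h | h
    · have h1 := memLocalIdeal_sub hM (hcongX χ h y hy hyp) (hint (hcX χ h))
      push_cast at h1
      rwa [show (σ χ : ℂ) * ((χ : G → ℂ) y - (dg χ : ℂ)) =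
        (σ χ : ℂ) * (χ : G → ℂ) y - 1 - ((σ χ : ℂ) * (dg χ : ℂ) - 1) by ring]
    · have h1 := memLocalIdeal_sum hM X fun ψ hψ => hcongX ψ hψ y hy hyp
      have h2 := memLocalIdeal_sub hM (memLocalIdeal_neg h1) (hint (hcY χ h))
      rw [Finset.sum_sub_distrib, Finset.sum_const, hXc, nsmul_eq_mul, mul_one] at h2
      push_cast at h2
      have hr := hrel χ h y hyp
      rw [Finset.sum_congr rfl fun ψ hψ => by rw [← hσX ψ hψ], ← hσY χ h] at hr
      rwa [show (σ χ : ℂ) * ((χ : G → ℂ) y - (dg χ : ℂ)) =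
        -((∑ ψ ∈ X, (σ ψ : ℂ) * (ψ : G → ℂ) y) - (e : ℂ)) - ((σ χ : ℂ) * (dg χ : ℂ) + (e : ℂ)) by
        linear_combination hr]
  -- the trivial character
  have h1mem : triv G ∈ X ∨ triv G ∈ Y := (hmem _).1 (triv_mem_principalBlock hM)
  have hσ1 : Search.nexc p e = 1 ∨ triv G ∈ X → σ (triv G) = 1 := by
    intro hn
    have h2 : ∀ (m : ℤ), (m * 1 - 1) % (p : ℤ) = 0 → (m = 1 ∨ m = -1) → m = 1 := by
      rintro m hm (rfl | rfl)
      · rfl
      · exfalso
        have h3 := Int.le_of_dvd (by norm_num) (dvd_neg.2 (Int.dvd_of_emod_eq_zero hm))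
        norm_num at h3
        omega
    rcases h1mem with h | h
    · have := hcX _ h; rw [dg_triv] at this
      exact h2 _ (by simpa using this) (hpm _ (Or.inl h))
    · rcases hn with hn | hn
      · have := hcY _ h; rw [dg_triv] at this
        refine h2 _ (Int.emod_eq_zero_of_dvd ?_) (hpm _ (Or.inr h))
        have he' : e = p - 1 := by
          obtain ⟨k, hk⟩ := hdvd
          have hk' : (p - 1) / e = k := by rw [hk]; exact Nat.mul_div_cancel_left k (by omega)
          rw [Search.nexc, hk'] at hn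
          subst hn
          simpa using hk.symm
        have h4 := Int.dvd_of_emod_eq_zero this
        rw [he', Nat.cast_sub hp'.pos, Nat.cast_one, mul_one] at h4
        rw [mul_one]
        have h5 := dvd_sub h4 (dvd_refl (p : ℤ))
        rwa [show σ (triv G) + ((p : ℤ) - 1) - (p : ℤ) = σ (triv G) - 1 by ring] at h5
      · exact absurd h (Finset.disjoint_left.1 hdisj hn)
  by_cases hn : Search.nexc p e = 1
  · -- every member may serve as the exceptional one
    obtain ⟨θ₁, hYs⟩ := Finset.card_eq_one.1 (hYc.trans hn)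
    have hθ₁ : θ₁ ∈ Y := hYs ▸ Finset.mem_singleton_self θ₁
    set U := (X ∪ Y).erase (triv G) with hU
    have hUc : U.card = e := by
      rw [hU, Finset.card_erase_of_mem (by simpa using h1mem), Finset.card_union_of_disjoint hdisj,
        hXc, hYc, show (p - 1) / e = 1 from hn]
      rfl
    have hUne : U.Nonempty := Finset.card_pos.1 (by omega)
    obtain ⟨θ₀, hθ₀U, hmax⟩ := U.exists_max_image (fun χ => σ χ * (dg χ : ℤ)) hUne
    have hUmem : ∀ χ ∈ U, χ ∈ X ∨ χ ∈ Y := fun χ h =>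
      Finset.mem_union.1 (Finset.mem_of_mem_erase h)
    have he' : e = p - 1 := by
      obtain ⟨k, hk⟩ := hdvd
      have hk' : (p - 1) / e = k := by rw [hk]; exact Nat.mul_div_cancel_left k (by omega)
      have hn' := hn
      rw [Search.nexc, hk'] at hn'
      subst hn'
      simpa using hk.symm
    have hall : ∀ χ, χ ∈ X ∨ χ ∈ Y → (σ χ * (dg χ : ℤ) - 1) % (p : ℤ) = 0 := by
      rintro χ (h | h)
      · exact hcX χ h
      · have h4 := Int.dvd_of_emod_eq_zero (hcY χ h)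
        rw [he', Nat.cast_sub hp'.pos, Nat.cast_one] at h4
        refine Int.emod_eq_zero_of_dvd ?_
        have h5 := dvd_sub h4 (dvd_refl (p : ℤ))
        rwa [show σ χ * (dg χ : ℤ) + ((p : ℤ) - 1) - (p : ℤ) = σ χ * (dg χ : ℤ) - 1 by ring] at h5
    have hat : ∀ χ, χ ∈ X ∨ χ ∈ Y → ∀ z ∈ (P : Subgroup G), z ≠ 1 →
        (χ : G → ℂ) z = (σ χ : ℂ) := by
      rintro χ (h | h) z hz hz1
      · exact hatX χ h z hz hz1
      · have h5 := hatY χ h z hz hz1
        have : χ = θ₁ := by rwa [hYs, Finset.mem_singleton] at h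
        subst this
        rwa [hYs, Finset.sum_singleton] at h5
    refine ⟨{
      X := U.erase θ₀
      Y := {θ₀}
      σ := σ
      disj := by simp
      card_X := by rw [Finset.card_erase_of_mem hθ₀U, hUc]; omega
      card_Y := by rw [Finset.card_singleton, hn]
      triv_X := by simp [hU]
      triv_Y := by
        rw [Finset.mem_singleton]
        exact fun h => (Finset.mem_erase.1 hθ₀U).1 h.symm
      mem := fun χ => by
        rw [hmem, ← Finset.mem_union]
        simp only [hU, Finset.mem_erase, Finset.mem_singleton]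
        constructor
        · intro h
          by_cases h1 : χ = triv G
          · exact Or.inl h1
          by_cases h2 : χ = θ₀
          · exact Or.inr (Or.inr h2)
          · exact Or.inr (Or.inl ⟨h2, h1, h⟩)
        · rintro (rfl | ⟨-, -, h⟩ | rfl)
          · exact Finset.mem_union.2 h1mem
          · exact h
          · exact (Finset.mem_erase.1 hθ₀U).2
      pm := by
        rintro χ (h | h)
        · exact hpm χ (hUmem χ (Finset.mem_of_mem_erase h))
        · exact hpm χ (hUmem χ ((Finset.mem_singleton.1 h) ▸ hθ₀U))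
      congX := fun χ h => hall χ (hUmem χ (Finset.mem_of_mem_erase h))
      congY := fun θ h => by
        have h4 := Int.dvd_of_emod_eq_zero (hall θ (hUmem θ ((Finset.mem_singleton.1 h) ▸ hθ₀U)))
        refine Int.emod_eq_zero_of_dvd ?_
        rw [he', Nat.cast_sub hp'.pos, Nat.cast_one]
        have h5 := dvd_add h4 (dvd_refl (p : ℤ))
        rwa [show σ θ * (dg θ : ℤ) - 1 + (p : ℤ) = σ θ * (dg θ : ℤ) + ((p : ℤ) - 1) by ring] at h5
      canon := fun _ χ hχ θ hθ => by
        rw [Finset.mem_singleton.1 hθ]; exact hmax χ (Finset.mem_of_mem_erase hχ)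
      atX := fun χ h => hat χ (hUmem χ (Finset.mem_of_mem_erase h))
      atY := fun θ h z hz hz1 => by
        rw [Finset.sum_singleton, Finset.mem_singleton.1 h]
        exact hat θ₀ (hUmem θ₀ hθ₀U) z hz hz1
      cong := by
        rintro χ (h | h)
        · exact hcong χ (hUmem χ (Finset.mem_of_mem_erase h))
        · exact hcong χ (hUmem χ ((Finset.mem_singleton.1 h) ▸ hθ₀U))
      rel := fun θ hθ g hg => by
        rw [Finset.mem_singleton.1 hθ]
        have hr := hrel θ₁ hθ₁ g hg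
        rw [← hσY θ₁ hθ₁, Finset.sum_congr rfl fun ψ hψ => by rw [← hσX ψ hψ]] at hr
        have hs' : ∑ χ ∈ X ∪ Y, (σ χ : ℂ) * (χ : G → ℂ) g = 0 := by
          rw [Finset.sum_union hdisj, hYs, Finset.sum_singleton]; linear_combination hr
        rw [← Finset.add_sum_erase _ _ (show triv G ∈ X ∪ Y by simpa using h1mem), ← hU,
          ← Finset.add_sum_erase _ _ hθ₀U, hσ1 (Or.inl hn), triv_value] at hs'
        push_cast at hs'
        linear_combination hs'
      eqY := fun θ hθ η hη => by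
        rw [Finset.mem_singleton.1 hθ, Finset.mem_singleton.1 hη]
        exact ⟨rfl, fun _ _ => rfl⟩ }⟩
  · -- the trivial character is not exceptional
    have htX : triv G ∈ X := by
      refine h1mem.resolve_right fun h => ?_
      have h1 := Int.dvd_of_emod_eq_zero (hcY _ h)
      rw [dg_triv, Nat.cast_one, mul_one] at h1
      obtain ⟨k, hk⟩ := hdvd
      have hk2 : 2 ≤ k := by
        have hk' : (p - 1) / e = k := by rw [hk]; exact Nat.mul_div_cancel_left k (by omega)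
        rw [Search.nexc, hk'] at hn
        rcases k with _ | _ | k
        · simp at hk; omega
        · exact absurd rfl hn
        · omega
      have h2e : e * 2 ≤ e * k := Nat.mul_le_mul_left e hk2
      rcases hpm _ (Or.inr h) with h' | h' <;> rw [h'] at h1
      · have := Int.le_of_dvd (by omega) h1; omega
      · have := Int.le_of_dvd (by omega) h1; omega
    exact ⟨{
      X := X.erase (triv G)
      Y := Y
      σ := σ
      disj := hdisj.mono_left (Finset.erase_subset _ _)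
      card_X := by rw [Finset.card_erase_of_mem htX, hXc]; omega
      card_Y := hYc
      triv_X := Finset.notMem_erase _ _
      triv_Y := fun h => Finset.disjoint_left.1 hdisj htX h
      mem := fun χ => by
        rw [hmem]
        by_cases h : χ = triv G
        · simp [h, htX]
        · simp [h]
      pm := fun χ h => hpm χ (h.imp_left Finset.mem_of_mem_erase)
      congX := fun χ h => hcX χ (Finset.mem_of_mem_erase h)
      congY := hcY
      canon := fun h => absurd h hn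
      atX := fun χ h => hatX χ (Finset.mem_of_mem_erase h)
      atY := hatY
      cong := fun χ h => hcong χ (h.imp_left Finset.mem_of_mem_erase)
      rel := fun θ hθ g hg => by
        have hr := hrel θ hθ g hg
        rw [← hσY θ hθ, Finset.sum_congr rfl fun ψ hψ => by rw [← hσX ψ hψ],
          ← Finset.add_sum_erase _ _ htX, hσ1 (Or.inr htX), triv_value] at hr
        push_cast at hr
        linear_combination hr
      eqY := fun θ hθ η hη => ⟨by rw [hσY θ hθ, hσY η hη], hYeq θ hθ η hη⟩ }⟩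

end Cfsg.Agent.M22Order
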