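import Cfsg.Agent.M22Order.Cols

/-!
# The four cases
-/

set_option autoImplicit false

namespace Cfsg.Agent.M22Order.Search

/-- The automizers and blocks at seven. -/
def sevens : List (ℕ × List (List ℤ)) := [(3, blocks7_3), (6, blocks7_6)]

/-- The automizers and blocks at five. -/
def fives : List (ℕ × List (List ℤ)) := [(2, blocks5_2), (4, blocks5_4)]

/-- An element of order 35 is impossible. -/
theorem no_thirty_five : blocks11_5.all (fun A =>
    !((fives.any fun q => q.2.any fun B =>
        fitDeg A 5 q.1 B && (degsOf (nexc 5 q.1) B).all fun d => decide (d % 7 ≠ 0)) &&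
      (sevens.any fun q => q.2.any fun B =>
        fitDeg A 7 q.1 B && (degsOf (nexc 7 q.1) B).all fun d => decide (d % 5 ≠ 0)) &&
      hasCol cents0 A)) = true := by
  decide +kernel

/-- The automizer at seven is not of order two. -/
theorem no_seven_two : blocks11_5.all (fun A => blocks7_2.all fun B => !fitDeg A 7 2 B) = true := by
  decide +kernel

/-- Both Sylow subgroups commute with involutions. -/
theorem case_both : blocks11_5.all (fun A =>
    !((fives.any fun q => q.2.any fun B => fitDeg A 5 q.1 B) &&
      (sevens.any fun q => q.2.any fun B => fitDeg A 7 q.1 B) &&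
      hasCol cents7 A && hasCol cents5 A && hasCol cents0 A)) = true := by
  decide +kernel

/-- An involution commuting with an element of order seven, the Sylow 5-subgroup self-centralizing. -/
theorem case_seven : blocks11_5.all (fun A =>
    !(blocks5_4.any fun B => eqDeg A 5 4 B) ||
    cents7.all fun c => decide (c % 5 = 0) || (aCols c A).all fun LA =>
      blocks5_4.all fun B5 => !eqDeg A 5 4 B5 || (bCols c 5 4 4 [0, 5] B5 LA).all fun L5 =>
        sevens.all fun q => q.2.all fun B7 => !fitDeg A 7 q.1 B7 ||
          (bCols c 7 q.1 28 [] B7 LA).all fun L7 =>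
            !(msub (prime_to 5 L7) L5 &&
              csOk (LA ++ elevens L5 ++
                (elevens L7).filter (fun x => decide (x.1 % 5 = 0))) c)) = true := by
  decide +kernel

/-- An involution commuting with an element of order five, the Sylow 7-subgroup self-centralizing. -/
theorem case_five : blocks11_5.all (fun A =>
    !(blocks7_3.any fun B => eqDeg A 7 3 B) ||
    cents5.all fun c => decide (c % 7 = 0) || (aCols c A).all fun LA =>
      blocks7_3.all fun B7 => !eqDeg A 7 3 B7 || (bCols c 7 3 4 [0] B7 LA).all fun L7 =>
        fives.all fun q => q.2.all fun B5 => !fitDeg A 5 q.1 B5 ||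
          (bCols c 5 q.1 20 [] B5 LA).all fun L5 =>
            !(msub (prime_to 7 L5) L7) ||
              (decide (q.1 = 4) && meq (degsOf 1 B5) [21, 66, 66, 154] &&
                meq (degsOf 2 B7) [55, 66, 66, 120])) = true := by
  decide +kernel

/-- All three Sylow subgroups self-centralizing. -/
theorem case_trivial : blocks11_5.all (fun A => blocks7_3.all fun B7 => !eqDeg A 7 3 B7 ||
    blocks5_4.all fun B5 => !eqDeg A 5 4 B5 ||
      !meq ((degsOf 2 B7).filter fun d => decide (d % 5 ≠ 0))
        ((degsOf 1 B5).filter fun d => decide (d % 7 ≠ 0)) ||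
      cents0.all fun c => (aCols c A).all fun LA =>
        (bCols c 7 3 4 [0] B7 LA).all fun L7 => (bCols c 5 4 4 [0, 5] B5 LA).all fun L5 =>
          !meq (prime_to 5 L7) (prime_to 7 L5) ||
            (meq (degsOf 2 A) [21, 45, 45, 210, 280, 280] &&
              meq (degsOf 2 B7) [55, 99, 45, 45] && meq (degsOf 1 B5) [21, 99, 154, 231])) = true := by
  decide +kernel

end Cfsg.Agent.M22Order.Search
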