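import Cfsg.Agent.M22Order.Cols

/-!
# The candidate 672 for the number of Sylow 11-subgroups
-/

set_option autoImplicit false

namespace Cfsg.Agent.M22Order.Search

/-- Nondecreasing tuples of pairs with two bounded weights. -/
def enum₂ : ℕ → List (ℤ × ℤ) → ℤ → ℤ → List (List (ℤ × ℤ))
  | 0, _, _, _ => [[]]
  | k + 1, l, b, b' => l.tails.flatMap fun t => match t with
    | [] => []
    | o :: _ => if o.1 * o.1 ≤ b ∧ o.2 * o.2 ≤ b' then
        (enum₂ k t (b - o.1 * o.1) (b' - o.2 * o.2)).map (o :: ·) else []

/-- The signed degrees with the values of an involution centralizing the Sylow 11-subgroup. -/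
def opts672 (c : ℕ) : List (ℤ × ℤ) :=
  (signedDegs 11).flatMap fun D => (cand c 44 D.natAbs).map fun v => (D, v)

/-- Orders of centralizers of involutions centralizing the Sylow 11-subgroup. -/
def cents672 : List ℕ :=
  [44, 132, 220, 528, 660, 1584, 1980, 2464, 2640, 6336, 7392, 7920, 9240, 12320, 27720, 29568,
    31680, 36960, 88704, 110880, 147840]

/-- The automizer is not of order five. -/
theorem no_672_five : blocks11_5.all (fun A => cents672.all fun c =>
    ((search (A.map fun D => (true, cand c 44 D.natAbs)) ((c : ℤ) - 1)).filter fun vs =>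
      okExcVal c 44 A vs && decide (1 + sqSum (pairsOf 2 A vs) ≤ (c : ℤ))).isEmpty) = true := by
  decide +kernel

/-- The automizer is not of order ten. -/
theorem no_672_ten : cents672.all (fun c =>
    (enum₂ 9 (opts672 c) 443519 ((c : ℤ) - 1)).all fun L =>
      !(goodDeg 11 (exc (L.map Prod.fst)) &&
        decide ((exc (L.map Prod.fst) + 10) % 11 = 0) &&
        decide (1 + (L.map fun x => x.1 * x.1).sum +
          exc (L.map Prod.fst) * exc (L.map Prod.fst) ≤ 443520) &&
        decide (1 + (L.map fun x => x.2 * x.2).sum +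
          excVal (L.map Prod.fst) (L.map Prod.snd) * excVal (L.map Prod.fst) (L.map Prod.snd) ≤ (c : ℤ)) &&
        okExcVal c 44 (L.map Prod.fst) (L.map Prod.snd))) = true := by
  decide +kernel

end Cfsg.Agent.M22Order.Search
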