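import Cfsg.Agent.M22Order.Facts
import Cfsg.Agent.SmallOrder.Order5616.Block

/-!
# The named characters of a group with the data `Facts`, and the principal blocks at 11, 7 and 5
-/

set_option autoImplicit false
set_option maxRecDepth 4000

namespace Cfsg.Agent.M22Order

open Subgroup
open scoped ComplexConjugate

universe u

variable {G : Type u} [Group G] [Fintype G]

/-- The degree of an irreducible character. -/
noncomputable def degOf (χ : IrrCharacter G) : ℕ := Cfsg.charDegree (χ : G → ℂ)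

theorem char_one (χ : IrrCharacter G) : (χ : G → ℂ) 1 = (degOf χ : ℂ) :=
  (Blocks.charDegree_cast (Char.IsIrr.isCharacter χ.2)).symm

theorem degOf_ne_zero (χ : IrrCharacter G) : degOf χ ≠ 0 := fun h =>
  Char.IsIrr.one_ne_zero χ.2 (by rw [char_one, h, Nat.cast_zero])

theorem Facts.degOf_list (hF : Facts G) :
    Multiset.map (fun χ : IrrCharacter G => degOf χ) Finset.univ.val = (degreeList : Multiset ℕ) := by
  have h := hF.degrees
  simp only [Multiset.bind_def, Multiset.pure_def, Multiset.bind_singleton, Multiset.map_map] at h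
  exact h

theorem Facts.degOf_mem (hF : Facts G) (χ : IrrCharacter G) : degOf χ ∈ degreeList := by
  rw [← Multiset.mem_coe, ← hF.degOf_list]
  exact Multiset.mem_map.2 ⟨χ, Finset.mem_univ χ, rfl⟩

theorem Facts.card_filter (hF : Facts G) (p : ℕ → Prop) [DecidablePred p] :
    (Finset.univ.filter fun χ : IrrCharacter G => p (degOf χ)).card =
      degreeList.countP fun d => decide (p d) := by
  have h := Multiset.countP_map (fun χ : IrrCharacter G => degOf χ) Finset.univ.val p
  rw [hF.degOf_list, Multiset.coe_countP] at h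
  rw [h]
  rfl

theorem card_dvd_cases {p e : ℕ} [Fact p.Prime] {P : Sylow p G} (hS : BlockThms.OrderP.Setup P e)
    (hC : centralizer ((P : Subgroup G) : Set G) = (P : Subgroup G)) {z : G} (hz : z ∈ (P : Subgroup G))
    (hz1 : z ≠ 1) : Nat.card (centralizer ({z} : Set G)) = p := by
  rw [hS.centralizer_eq hz hz1]
  exact (congrArg (fun H : Subgroup G => Nat.card H) hC).trans hS.card

/-- The principal block at a self-centralising Sylow subgroup of prime order, with the weighted sums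
at an element of that order. -/
theorem block_data {p e : ℕ} [Fact p.Prime] {P : Sylow p G} (hS : BlockThms.OrderP.Setup P e)
    (hC : centralizer ((P : Subgroup G) : Set G) = (P : Subgroup G)) :
    ∃ (X Y : Finset (IrrCharacter G)) (a : IrrCharacter G → ℤ) (s : ℤ) (z : G),
      orderOf z = p ∧ z ∈ (P : Subgroup G) ∧ X.card = e ∧ Y.card = (p - 1) / e ∧ Disjoint X Y ∧
      (∀ χ ∈ X, (a χ = 1 ∨ a χ = -1) ∧ (degOf χ : ℤ) ≡ a χ [ZMOD p]) ∧ (s = 1 ∨ s = -1) ∧
      (∀ θ ∈ Y, (degOf θ : ℤ) ≡ -((e : ℤ) * s) [ZMOD p]) ∧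
      (∀ θ ∈ Y, ∀ θ' ∈ Y, ∀ g : G, ¬ p ∣ orderOf g → (θ : G → ℂ) g = (θ' : G → ℂ) g) ∧
      (∀ θ ∈ Y, ∀ g : G, ¬ p ∣ orderOf g →
        (s : ℂ) * (θ : G → ℂ) g + ∑ χ ∈ X, (a χ : ℂ) * (χ : G → ℂ) g = 0) ∧
      (∀ θ ∈ Y, ∀ f : IrrCharacter G → ℂ, (∀ θ' ∈ Y, f θ' = f θ) →
        ∑ χ, f χ * (χ : G → ℂ) z = ∑ χ ∈ X, (a χ : ℂ) * f χ + (s : ℂ) * f θ) := by
  classical
  obtain ⟨M, hM⟩ := Blocks.exists_isPModular p (Fact.out : p.Prime)
  obtain ⟨X, Y, a, s, hdisj, hXc, hYc, hmem, hs, hX, hY, hYeq, hrel⟩ := hS.principal_structure hM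
  obtain ⟨z, hz, hz1, hzo⟩ := hS.exists_gen
  have hzC := card_dvd_cases hS hC hz hz1
  have hout : ∀ χ : IrrCharacter G, χ ∉ X ∪ Y → (χ : G → ℂ) z = 0 := by
    intro χ hχ
    have hχ' : χ ∉ Cfsg.principalBlock M G := fun h => hχ (Finset.mem_union.2 ((hmem χ).1 h))
    have h1 := hS.card_fiber hz hz1
    rw [hzC] at h1
    have h2 : (BlockThms.OrderP.fiber p z).card = 1 :=
      Nat.eq_of_mul_eq_mul_right (Fact.out : p.Prime).pos (h1.trans (one_mul p).symm)
    obtain ⟨y, hy⟩ := Finset.card_eq_one.1 h2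
    have h4 := BlockThms.OrderP.self_mem_fiber (p := p) (P := P) hz
    rw [hy, Finset.mem_singleton] at h4
    have h0 := hS.avg_eq_zero hM hz hz1 hχ'
    rw [BlockThms.OrderP.avg, hy, Finset.card_singleton, Finset.sum_singleton, Nat.cast_one,
      inv_one, one_mul, ← h4] at h0
    exact h0
  have hval : ∀ χ ∈ X, (χ : G → ℂ) z = (a χ : ℂ) := fun χ hχ => by
    have h1 := (hX χ hχ).2.2 z hz hz1 1 (one_mem _)
      (by rw [orderOf_one]; exact fun h => (Fact.out : p.Prime).not_dvd_one h)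
    rwa [mul_one] at h1
  have hsplit : ∀ f : IrrCharacter G → ℂ, ∑ χ, f χ * (χ : G → ℂ) z =
      ∑ χ ∈ X, (a χ : ℂ) * f χ + ∑ χ ∈ Y, f χ * (χ : G → ℂ) z := fun f => by
    have h1 : ∑ χ ∈ X, (a χ : ℂ) * f χ = ∑ χ ∈ X, f χ * (χ : G → ℂ) z :=
      Finset.sum_congr rfl fun χ hχ => by rw [hval χ hχ]; ring
    rw [h1, ← Finset.sum_union hdisj]
    exact (Finset.sum_subset (Finset.subset_univ _) fun χ _ hn => by rw [hout χ hn, mul_zero]).symm
  refine ⟨X, Y, a, s, z, hzo, hz, hXc, hYc, hdisj, fun χ hχ => ⟨(hX χ hχ).1, (hX χ hχ).2.1⟩, hs,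
    hY, hYeq, hrel, fun θ hθ f hf => ?_⟩
  have hp1 : ¬ p ∣ orderOf (1 : G) := by
    rw [orderOf_one]; exact fun h => (Fact.out : p.Prime).not_dvd_one h
  have hθd : ∀ χ ∈ Y, (degOf χ : ℂ) = (degOf θ : ℂ) := fun χ hχ => by
    rw [← char_one, ← char_one, hYeq χ hχ θ hθ 1 hp1]
  have hsum : ∑ χ ∈ Y, (χ : G → ℂ) z = (s : ℂ) := by
    have h1 := Char.second_orthogonality z (1 : G)
    rw [if_neg (fun e1 => hz1 (isConj_one_left.1 e1))] at h1
    have h2 := hsplit fun χ => (degOf χ : ℂ)
    have e1 : ∑ χ : IrrCharacter G, (degOf χ : ℂ) * (χ : G → ℂ) z = 0 := by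
      rw [← h1]
      exact Finset.sum_congr rfl fun χ _ => by
        rw [char_one χ, Complex.conj_natCast]; ring
    have e2 : ∑ χ ∈ Y, (degOf χ : ℂ) * (χ : G → ℂ) z = ∑ χ ∈ Y, (degOf θ : ℂ) * (χ : G → ℂ) z :=
      Finset.sum_congr rfl fun χ hχ => by rw [hθd χ hχ]
    rw [e1, e2, ← Finset.mul_sum] at h2
    have h3 := hrel θ hθ 1 hp1
    simp only [char_one] at h3
    have h4 : (degOf θ : ℂ) * (∑ χ ∈ Y, (χ : G → ℂ) z - (s : ℂ)) = 0 := by
      linear_combination -h2 - h3
    exact sub_eq_zero.1 ((mul_eq_zero.1 h4).resolve_left (Nat.cast_ne_zero.2 (degOf_ne_zero θ)))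
  rw [hsplit f, Finset.sum_congr rfl fun χ hχ => show f χ * (χ : G → ℂ) z = f θ * (χ : G → ℂ) z
    by rw [hf χ hχ], ← Finset.mul_sum, hsum, mul_comm (f θ)]

/-- The sign of a degree in the principal block at five. -/
def sgFive (d : ℕ) : ℤ := if d % 5 = 1 then 1 else -1

/-- The twelve characters by name, with what the principal blocks at 11, 7, 5 say. -/
structure Chars (G : Type u) [Group G] [Fintype G] where
  c1 : IrrCharacter G
  c21 : IrrCharacter G
  c45 : IrrCharacter G
  c45' : IrrCharacter G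
  c55 : IrrCharacter G
  c99 : IrrCharacter G
  c154 : IrrCharacter G
  c210 : IrrCharacter G
  c231 : IrrCharacter G
  c280 : IrrCharacter G
  c280' : IrrCharacter G
  c385 : IrrCharacter G
  sum_eq : ∀ f : IrrCharacter G → ℂ, ∑ χ, f χ = f c1 + f c21 + f c45 + f c45' + f c55 + f c99 +
    f c154 + f c210 + f c231 + f c280 + f c280' + f c385
  one_apply : ∀ g : G, (c1 : G → ℂ) g = 1
  d21 : degOf c21 = 21
  d45 : degOf c45 = 45
  d45' : degOf c45' = 45
  d55 : degOf c55 = 55
  d99 : degOf c99 = 99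
  d154 : degOf c154 = 154
  d210 : degOf c210 = 210
  d231 : degOf c231 = 231
  d280 : degOf c280 = 280
  d280' : degOf c280' = 280
  d385 : degOf c385 = 385
  eq45 : ∀ g : G, ¬ 7 ∣ orderOf g → (c45' : G → ℂ) g = (c45 : G → ℂ) g
  eq280 : ∀ g : G, ¬ 11 ∣ orderOf g → (c280' : G → ℂ) g = (c280 : G → ℂ) g
  rel11 : ∀ g : G, ¬ 11 ∣ orderOf g → (c280 : G → ℂ) g = 1 - (c21 : G → ℂ) g + (c45 : G → ℂ) g +
    (c45' : G → ℂ) g + (c210 : G → ℂ) g
  rel7 : ∀ g : G, ¬ 7 ∣ orderOf g → (c45 : G → ℂ) g = 1 - (c55 : G → ℂ) g + (c99 : G → ℂ) g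
  rel5 : ∀ g : G, ¬ 5 ∣ orderOf g → (c154 : G → ℂ) g = 1 + (c21 : G → ℂ) g + (c231 : G → ℂ) g -
    (c99 : G → ℂ) g
  z11 : G
  hz11 : orderOf z11 = 11
  w11 : ∀ f : IrrCharacter G → ℂ, f c280' = f c280 → ∑ χ, f χ * (χ : G → ℂ) z11 =
    f c1 - f c21 + f c45 + f c45' + f c210 - f c280
  z7 : G
  hz7 : orderOf z7 = 7
  w7 : ∀ f : IrrCharacter G → ℂ, f c45' = f c45 → ∑ χ, f χ * (χ : G → ℂ) z7 =
    f c1 - f c55 + f c99 - f c45
  z5 : G
  hz5 : orderOf z5 = 5
  w5 : ∀ f : IrrCharacter G → ℂ, ∑ χ, f χ * (χ : G → ℂ) z5 =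
    f c1 + f c21 + f c231 - f c99 - f c154

theorem Facts.exists_chars (hF : Facts G) : Nonempty (Chars G) := by
  classical
  have : Fact (Nat.Prime 11) := ⟨by norm_num⟩
  have : Fact (Nat.Prime 7) := ⟨by norm_num⟩
  have : Fact (Nat.Prime 5) := ⟨Nat.prime_five⟩
  have h1 : ∀ d, degreeList.countP (fun e => decide (e = d)) = 1 →
      ∃ c : IrrCharacter G, (Finset.univ.filter fun χ => degOf χ = d) = {c} ∧ degOf c = d := by
    intro d hd
    obtain ⟨c, hc⟩ := Finset.card_eq_one.1 ((hF.card_filter (· = d)).trans hd)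
    have hm := Finset.mem_singleton_self c
    rw [← hc, Finset.mem_filter] at hm
    exact ⟨c, hc, hm.2⟩
  have h2 : ∀ d, degreeList.countP (fun e => decide (e = d)) = 2 →
      ∃ c c' : IrrCharacter G, (Finset.univ.filter fun χ => degOf χ = d) = {c, c'} ∧ c ≠ c' ∧
        degOf c = d ∧ degOf c' = d := by
    intro d hd
    obtain ⟨c, c', hne, hc⟩ := Finset.card_eq_two.1 ((hF.card_filter (· = d)).trans hd)
    have hm := Finset.mem_insert_self c {c'}
    have hm' := Finset.mem_insert_of_mem (b := c) (Finset.mem_singleton_self c')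
    rw [← hc, Finset.mem_filter] at hm hm'
    exact ⟨c, c', hc, hne, hm.2, hm'.2⟩
  obtain ⟨c1, f1, e1⟩ := h1 1 (by decide)
  obtain ⟨c21, f21, e21⟩ := h1 21 (by decide)
  obtain ⟨c45, c45', f45, n45, e45, e45'⟩ := h2 45 (by decide)
  obtain ⟨c55, f55, e55⟩ := h1 55 (by decide)
  obtain ⟨c99, f99, e99⟩ := h1 99 (by decide)
  obtain ⟨c154, f154, e154⟩ := h1 154 (by decide)
  obtain ⟨c210, f210, e210⟩ := h1 210 (by decide)
  obtain ⟨c231, f231, e231⟩ := h1 231 (by decide)
  obtain ⟨c280, c280', f280, n280, e280, e280'⟩ := h2 280 (by decide)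
  obtain ⟨c385, f385, e385⟩ := h1 385 (by decide)
  have hsum : ∀ f : IrrCharacter G → ℂ, ∑ χ, f χ = f c1 + f c21 + f c45 + f c45' + f c55 + f c99 +
      f c154 + f c210 + f c231 + f c280 + f c280' + f c385 := by
    intro f
    rw [← Finset.sum_fiberwise_of_maps_to (t := ({1, 21, 45, 55, 99, 154, 210, 231, 280, 385} : Finset ℕ))
      (g := fun χ : IrrCharacter G => degOf χ) (fun χ _ => by
        have h := hF.degOf_mem χ
        simp only [degreeList, List.mem_cons, List.not_mem_nil, or_false] at h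
        simp only [Finset.mem_insert, Finset.mem_singleton]
        omega)]
    rw [Finset.sum_insert (by decide), Finset.sum_insert (by decide), Finset.sum_insert (by decide),
      Finset.sum_insert (by decide), Finset.sum_insert (by decide), Finset.sum_insert (by decide),
      Finset.sum_insert (by decide), Finset.sum_insert (by decide), Finset.sum_insert (by decide),
      Finset.sum_singleton, f1, f21, f45, f55, f99, f154, f210, f231, f280, f385,
      Finset.sum_pair n45, Finset.sum_pair n280]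
    simp only [Finset.sum_singleton]
    ring
  have hfil : ∀ (q : ℕ → Prop) [DecidablePred q] (f : IrrCharacter G → ℂ),
      ∑ χ ∈ Finset.univ.filter (fun χ => q (degOf χ)), f χ =
        (if q 1 then f c1 else 0) + (if q 21 then f c21 else 0) + (if q 45 then f c45 else 0) +
          (if q 45 then f c45' else 0) + (if q 55 then f c55 else 0) + (if q 99 then f c99 else 0) +
          (if q 154 then f c154 else 0) + (if q 210 then f c210 else 0) +
          (if q 231 then f c231 else 0) + (if q 280 then f c280 else 0) +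
          (if q 280 then f c280' else 0) + (if q 385 then f c385 else 0) := by
    intro q _ f
    rw [Finset.sum_filter, hsum]
    simp only [e1, e21, e45, e45', e55, e99, e154, e210, e231, e280, e280', e385]
  have htriv : ∀ g : G, (c1 : G → ℂ) g = 1 := by
    have hd : degOf (Blocks.triv G) = 1 := Blocks.charDegree_eq (by show (1 : ℂ) = _; simp)
    have hm : Blocks.triv G ∈ Finset.univ.filter fun χ : IrrCharacter G => degOf χ = 1 :=
      Finset.mem_filter.2 ⟨Finset.mem_univ _, hd⟩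
    rw [f1, Finset.mem_singleton] at hm
    intro g
    rw [← hm]
    rfl
  -- eleven
  obtain ⟨P, -⟩ : ∃ P : Sylow 11 G, True := ⟨Classical.choice Sylow.nonempty, trivial⟩
  obtain ⟨hS, hC⟩ := hF.setup 11 5 (by simp) P
  obtain ⟨X, Y, a, s, z11, hz11, -, hXc, hYc, -, hXd, hs, hYd, hYeq, hrel, hw⟩ := block_data hS hC
  have hX : X = Finset.univ.filter fun χ => degOf χ ∈ [1, 21, 45, 210] := by
    refine Finset.eq_of_subset_of_card_le (fun χ hχ => Finset.mem_filter.2 ⟨Finset.mem_univ _, ?_⟩)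
      (le_of_le_of_eq (hF.card_filter fun d => d ∈ [1, 21, 45, 210]).le (by rw [hXc]; decide))
    obtain ⟨ha, hd⟩ := hXd χ hχ
    have hm := hF.degOf_mem χ
    simp only [degreeList, List.mem_cons, List.not_mem_nil, or_false] at hm ⊢
    rw [Int.ModEq] at hd
    rcases ha with e | e <;> rw [e] at hd <;> push_cast at hd <;> omega
  have hY : Y = Finset.univ.filter fun χ => degOf χ ∈ [280] := by
    refine Finset.eq_of_subset_of_card_le (fun χ hχ => Finset.mem_filter.2 ⟨Finset.mem_univ _, ?_⟩)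
      (le_of_le_of_eq (hF.card_filter fun d => d ∈ [280]).le (by rw [hYc]; decide))
    have hd := hYd χ hχ
    have hm := hF.degOf_mem χ
    simp only [degreeList, List.mem_cons, List.not_mem_nil, or_false] at hm ⊢
    rw [Int.ModEq] at hd
    rcases hs with e | e <;> rw [e] at hd <;> push_cast at hd <;> omega
  have hY280 : c280 ∈ Y ∧ c280' ∈ Y := by simp [hY, e280, e280']
  have hs11 : s = -1 := by
    have hd := hYd _ hY280.1
    rw [e280, Int.ModEq] at hd
    refine hs.resolve_left fun e => ?_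
    rw [e] at hd; norm_num at hd
  have hX11 : ∀ f : IrrCharacter G → ℂ, ∑ χ ∈ X, (a χ : ℂ) * f χ =
      f c1 - f c21 + f c45 + f c45' + f c210 := by
    intro f
    have ha : ∀ χ ∈ X, (a χ : ℂ) * f χ = ((if degOf χ = 21 then -1 else 1 : ℤ) : ℂ) * f χ := by
      intro χ hχ
      obtain ⟨ha, hd⟩ := hXd χ hχ
      rw [hX, Finset.mem_filter] at hχ
      have hm := hχ.2
      simp only [List.mem_cons, List.not_mem_nil, or_false] at hm
      rw [Int.ModEq] at hd
      congr 2
      split_ifs with h21 <;> rcases ha with e | e <;> rw [e] at hd ⊢ <;> push_cast at hd <;> omega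
    rw [Finset.sum_congr rfl ha, hX]
    refine (hfil (fun d => d ∈ [1, 21, 45, 210]) _).trans ?_
    simp [e1, e21, e45, e45', e210]
    ring
  -- seven
  obtain ⟨P', -⟩ : ∃ P : Sylow 7 G, True := ⟨Classical.choice Sylow.nonempty, trivial⟩
  obtain ⟨hS', hC'⟩ := hF.setup 7 3 (by simp) P'
  obtain ⟨X', Y', a', s', z7, hz7, -, hXc', hYc', -, hXd', hs', hYd', hYeq', hrel', hw'⟩ :=
    block_data hS' hC'
  have hX' : X' = Finset.univ.filter fun χ => degOf χ ∈ [1, 55, 99] := by
    refine Finset.eq_of_subset_of_card_le (fun χ hχ => Finset.mem_filter.2 ⟨Finset.mem_univ _, ?_⟩)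
      (le_of_le_of_eq (hF.card_filter fun d => d ∈ [1, 55, 99]).le (by rw [hXc']; decide))
    obtain ⟨ha, hd⟩ := hXd' χ hχ
    have hm := hF.degOf_mem χ
    simp only [degreeList, List.mem_cons, List.not_mem_nil, or_false] at hm ⊢
    rw [Int.ModEq] at hd
    rcases ha with e | e <;> rw [e] at hd <;> push_cast at hd <;> omega
  have hY' : Y' = Finset.univ.filter fun χ => degOf χ ∈ [45] := by
    refine Finset.eq_of_subset_of_card_le (fun χ hχ => Finset.mem_filter.2 ⟨Finset.mem_univ _, ?_⟩)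
      (le_of_le_of_eq (hF.card_filter fun d => d ∈ [45]).le (by rw [hYc']; decide))
    have hd := hYd' χ hχ
    have hm := hF.degOf_mem χ
    simp only [degreeList, List.mem_cons, List.not_mem_nil, or_false] at hm ⊢
    rw [Int.ModEq] at hd
    rcases hs' with e | e <;> rw [e] at hd <;> push_cast at hd <;> omega
  have hY45 : c45 ∈ Y' ∧ c45' ∈ Y' := by simp [hY', e45, e45']
  have hs7 : s' = -1 := by
    have hd := hYd' _ hY45.1
    rw [e45, Int.ModEq] at hd
    refine hs'.resolve_left fun e => ?_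
    rw [e] at hd; norm_num at hd
  have hX7 : ∀ f : IrrCharacter G → ℂ, ∑ χ ∈ X', (a' χ : ℂ) * f χ = f c1 - f c55 + f c99 := by
    intro f
    have ha : ∀ χ ∈ X', (a' χ : ℂ) * f χ = ((if degOf χ = 55 then -1 else 1 : ℤ) : ℂ) * f χ := by
      intro χ hχ
      obtain ⟨ha, hd⟩ := hXd' χ hχ
      rw [hX', Finset.mem_filter] at hχ
      have hm := hχ.2
      simp only [List.mem_cons, List.not_mem_nil, or_false] at hm
      rw [Int.ModEq] at hd
      congr 2
      split_ifs with h55 <;> rcases ha with e | e <;> rw [e] at hd ⊢ <;> push_cast at hd <;> omega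
    rw [Finset.sum_congr rfl ha, hX']
    refine (hfil (fun d => d ∈ [1, 55, 99]) _).trans ?_
    simp [e1, e55, e99]
    ring
  -- five
  obtain ⟨P'', -⟩ : ∃ P : Sylow 5 G, True := ⟨Classical.choice Sylow.nonempty, trivial⟩
  obtain ⟨hS'', hC''⟩ := hF.setup 5 4 (by simp) P''
  obtain ⟨X'', Y'', a'', s'', z5, hz5, -, hXc'', hYc'', hdisj, hXd'', hs'', hYd'', -, hrel'', hw''⟩ :=
    block_data hS'' hC''
  obtain ⟨θ, hθ⟩ : Y''.Nonempty := Finset.card_pos.1 (by omega)
  have hθu : ∀ θ' ∈ Y'', θ' = θ := fun θ' h => Finset.card_le_one.1 (by omega) _ h _ hθ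
  have hU : X'' ∪ Y'' = Finset.univ.filter fun χ => degOf χ ∈ [1, 21, 99, 154, 231] := by
    refine Finset.eq_of_subset_of_card_le (fun χ hχ => Finset.mem_filter.2 ⟨Finset.mem_univ _, ?_⟩)
      (le_of_le_of_eq (hF.card_filter fun d => d ∈ [1, 21, 99, 154, 231]).le
        (by rw [Finset.card_union_of_disjoint hdisj, hXc'', hYc'']; decide))
    have hm := hF.degOf_mem χ
    simp only [degreeList, List.mem_cons, List.not_mem_nil, or_false] at hm ⊢
    rcases Finset.mem_union.1 hχ with h | h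
    · obtain ⟨ha, hd⟩ := hXd'' χ h
      rw [Int.ModEq] at hd
      rcases ha with e | e <;> rw [e] at hd <;> push_cast at hd <;> omega
    · have hd := hYd'' χ h
      rw [Int.ModEq] at hd
      rcases hs'' with e | e <;> rw [e] at hd <;> push_cast at hd <;> omega
  have hsg : ∀ f : IrrCharacter G → ℂ, ∑ χ ∈ X'', (a'' χ : ℂ) * f χ + (s'' : ℂ) * f θ =
      f c1 + f c21 + f c231 - f c99 - f c154 := by
    intro f
    have hY1 : Y'' = {θ} := Finset.eq_singleton_iff_unique_mem.2 ⟨hθ, hθu⟩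
    have hca : ∀ χ ∈ X'', (a'' χ : ℂ) * f χ = (sgFive (degOf χ) : ℂ) * f χ := by
      intro χ hχ
      obtain ⟨ha, hd⟩ := hXd'' χ hχ
      rw [Int.ModEq] at hd
      congr 2
      unfold sgFive
      split_ifs with h5 <;> rcases ha with e | e <;> rw [e] at hd ⊢ <;> push_cast at hd <;> omega
    have hcs : (s'' : ℂ) * f θ = ∑ χ ∈ Y'', (sgFive (degOf χ) : ℂ) * f χ := by
      rw [hY1, Finset.sum_singleton]
      congr 2
      have hd := hYd'' θ hθ
      rw [Int.ModEq] at hd
      unfold sgFive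
      split_ifs with h5 <;> rcases hs'' with e | e <;> rw [e] at hd ⊢ <;> push_cast at hd <;> omega
    rw [Finset.sum_congr rfl hca, hcs, ← Finset.sum_union hdisj, hU]
    refine (hfil (fun d => d ∈ [1, 21, 99, 154, 231]) _).trans ?_
    simp [sgFive, e1, e21, e99, e154, e231]
    ring
  exact ⟨{
    c1 := c1, c21 := c21, c45 := c45, c45' := c45', c55 := c55, c99 := c99, c154 := c154
    c210 := c210, c231 := c231, c280 := c280, c280' := c280', c385 := c385
    sum_eq := hsum, one_apply := htriv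
    d21 := e21, d45 := e45, d45' := e45', d55 := e55, d99 := e99, d154 := e154, d210 := e210
    d231 := e231, d280 := e280, d280' := e280', d385 := e385
    eq45 := fun g hg => hYeq' _ hY45.2 _ hY45.1 g hg
    eq280 := fun g hg => hYeq _ hY280.2 _ hY280.1 g hg
    rel11 := fun g hg => by
      have h := hrel _ hY280.1 g hg
      rw [hX11 fun χ => (χ : G → ℂ) g, hs11, htriv] at h
      push_cast at h
      linear_combination -h
    rel7 := fun g hg => by
      have h := hrel' _ hY45.1 g hg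
      rw [hX7 fun χ => (χ : G → ℂ) g, hs7, htriv] at h
      push_cast at h
      linear_combination -h
    rel5 := fun g hg => by
      have h := hrel'' θ hθ g hg
      rw [add_comm, hsg fun χ => (χ : G → ℂ) g, htriv] at h
      linear_combination -h
    z11 := z11, hz11 := hz11
    w11 := fun f hf => by
      rw [hw _ hY280.1 f (fun θ' h => by
        rw [hY, Finset.mem_filter, List.mem_singleton] at h
        have hm : θ' ∈ Finset.univ.filter fun χ : IrrCharacter G => degOf χ = 280 :=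
          Finset.mem_filter.2 ⟨Finset.mem_univ _, h.2⟩
        rw [f280, Finset.mem_insert, Finset.mem_singleton] at hm
        rcases hm with rfl | rfl
        · rfl
        · exact hf), hX11, hs11]
      push_cast; ring
    z7 := z7, hz7 := hz7
    w7 := fun f hf => by
      rw [hw' _ hY45.1 f (fun θ' h => by
        rw [hY', Finset.mem_filter, List.mem_singleton] at h
        have hm : θ' ∈ Finset.univ.filter fun χ : IrrCharacter G => degOf χ = 45 :=
          Finset.mem_filter.2 ⟨Finset.mem_univ _, h.2⟩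
        rw [f45, Finset.mem_insert, Finset.mem_singleton] at hm
        rcases hm with rfl | rfl
        · rfl
        · exact hf), hX7, hs7]
      push_cast; ring
    z5 := z5, hz5 := hz5
    w5 := fun f => by rw [hw'' θ hθ f (fun θ' h => by rw [hθu θ' h]), hsg] }⟩

end Cfsg.Agent.M22Order
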