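import Cfsg.Agent.M22Order.Cases
import Cfsg.Agent.M22Order.Cases672

/-!
# Soundness of the searches
-/

set_option autoImplicit false

namespace Cfsg.Agent.M22Order.Search

theorem exists_tail {α : Type*} {l : List α} {M : Multiset α} (hne : M ≠ 0)
    (hsub : ∀ x ∈ M, x ∈ l) :
    ∃ o t, (o :: t) ∈ l.tails ∧ o ∈ M ∧ ∀ x ∈ M, x ∈ o :: t := by
  induction l with
  | nil =>
    obtain ⟨x, hx⟩ := Multiset.exists_mem_of_ne_zero hne
    exact absurd (hsub x hx) List.not_mem_nil
  | cons a l ih =>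
    by_cases ha : a ∈ M
    · exact ⟨a, l, by simp [List.tails], ha, hsub⟩
    · obtain ⟨o, t, ht, ho, hM⟩ := ih fun x hx => by
        rcases List.mem_cons.1 (hsub x hx) with rfl | h
        · exact absurd hx ha
        · exact h
      exact ⟨o, t, List.mem_cons_of_mem _ ht, ho, hM⟩

theorem mem_enum : ∀ (k : ℕ) (l : List ℤ) (b : ℤ) (M : Multiset ℤ), (∀ x ∈ M, x ∈ l) →
    Multiset.card M = k → (M.map fun x => x * x).sum ≤ b → ∃ L ∈ enum k l b, (L : Multiset ℤ) = M := by
  intro k
  induction k with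
  | zero =>
    intro l b M _ hk _
    exact ⟨[], by simp [enum], by rw [Multiset.card_eq_zero.1 hk]; rfl⟩
  | succ k ih =>
    intro l b M hsub hk hb
    obtain ⟨o, t, ht, ho, hM⟩ := exists_tail (M := M) (by intro h; simp [h] at hk) hsub
    obtain ⟨M', rfl⟩ := Multiset.exists_cons_of_mem ho
    rw [Multiset.map_cons, Multiset.sum_cons] at hb
    have h0 : 0 ≤ (M'.map fun x => x * x).sum := Multiset.sum_nonneg fun x hx => by
      obtain ⟨y, -, rfl⟩ := Multiset.mem_map.1 hx
      exact mul_self_nonneg y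
    obtain ⟨L, hL, hLM⟩ := ih (o :: t) (b - o * o) M'
      (fun x hx => hM x (Multiset.mem_cons_of_mem hx)) (by simpa using hk) (by linarith)
    refine ⟨o :: L, ?_, by rw [← Multiset.cons_coe, hLM]⟩
    simp only [enum, List.mem_flatMap]
    refine ⟨o :: t, ht, ?_⟩
    show o :: L ∈ (if o * o ≤ b then (enum k (o :: t) (b - o * o)).map (o :: ·) else [])
    rw [if_pos (by linarith)]
    exact List.mem_map.2 ⟨L, hL, rfl⟩

theorem mem_enum₂ : ∀ (k : ℕ) (l : List (ℤ × ℤ)) (b b' : ℤ) (M : Multiset (ℤ × ℤ)),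
    (∀ x ∈ M, x ∈ l) → Multiset.card M = k → (M.map fun x => x.1 * x.1).sum ≤ b →
    (M.map fun x => x.2 * x.2).sum ≤ b' →
    ∃ L ∈ enum₂ k l b b', (L : Multiset (ℤ × ℤ)) = M := by
  intro k
  induction k with
  | zero =>
    intro l b b' M _ hk _ _
    exact ⟨[], by simp [enum₂], by rw [Multiset.card_eq_zero.1 hk]; rfl⟩
  | succ k ih =>
    intro l b b' M hsub hk hb hb'
    obtain ⟨o, t, ht, ho, hM⟩ := exists_tail (M := M) (by intro h; simp [h] at hk) hsub
    obtain ⟨M', rfl⟩ := Multiset.exists_cons_of_mem ho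
    rw [Multiset.map_cons, Multiset.sum_cons] at hb hb'
    have h0 : 0 ≤ (M'.map fun x => x.1 * x.1).sum := Multiset.sum_nonneg fun x hx => by
      obtain ⟨y, -, rfl⟩ := Multiset.mem_map.1 hx
      exact mul_self_nonneg y.1
    have h0' : 0 ≤ (M'.map fun x => x.2 * x.2).sum := Multiset.sum_nonneg fun x hx => by
      obtain ⟨y, -, rfl⟩ := Multiset.mem_map.1 hx
      exact mul_self_nonneg y.2
    obtain ⟨L, hL, hLM⟩ := ih (o :: t) (b - o.1 * o.1) (b' - o.2 * o.2) M'
      (fun x hx => hM x (Multiset.mem_cons_of_mem hx)) (by simpa using hk) (by linarith)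
      (by linarith)
    refine ⟨o :: L, ?_, by rw [← Multiset.cons_coe, hLM]⟩
    simp only [enum₂, List.mem_flatMap]
    refine ⟨o :: t, ht, ?_⟩
    show o :: L ∈ (if o.1 * o.1 ≤ b ∧ o.2 * o.2 ≤ b' then
      (enum₂ k (o :: t) (b - o.1 * o.1) (b' - o.2 * o.2)).map (o :: ·) else [])
    rw [if_pos ⟨by linarith, by linarith⟩]
    exact List.mem_map.2 ⟨L, hL, rfl⟩

/-- A list with a prescribed image. -/
theorem exists_list_of_map_eq {α β : Type*} (f : α → β) : ∀ (D : List β) (M : Multiset α),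
    M.map f = (D : Multiset β) → ∃ L : List α, (L : Multiset α) = M ∧ L.map f = D
  | [], M, h => by
    rw [Multiset.coe_nil, Multiset.map_eq_zero] at h
    exact ⟨[], h ▸ rfl, rfl⟩
  | b :: D, M, h => by
    have hb : b ∈ M.map f := by rw [h]; simp
    obtain ⟨a, ha, rfl⟩ := Multiset.mem_map.1 hb
    obtain ⟨M', rfl⟩ := Multiset.exists_cons_of_mem ha
    rw [Multiset.map_cons, ← Multiset.cons_coe, Multiset.cons_inj_right] at h
    obtain ⟨L, hL, hLD⟩ := exists_list_of_map_eq f D M' h
    exact ⟨a :: L, by rw [← Multiset.cons_coe, hL], by rw [List.map_cons, hLD]⟩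

/-- The total on the flagged places. -/
def wsum (ls : List (Bool × List ℤ)) (vs : List ℤ) : ℤ :=
  (List.zipWith (fun fl v => if fl.1 then v * v else 0) ls vs).sum

theorem wsum_nonneg (ls : List (Bool × List ℤ)) : ∀ vs : List ℤ, 0 ≤ wsum ls vs := by
  induction ls with
  | nil => intro vs; simp [wsum]
  | cons fl ls ih =>
    rintro (_ | ⟨v, vs⟩)
    · simp [wsum]
    · have := ih vs
      simp only [wsum, List.zipWith_cons_cons, List.sum_cons] at this ⊢
      split_ifs
      · exact add_nonneg (mul_self_nonneg v) this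
      · simpa using this

theorem mem_search {ls : List (Bool × List ℤ)} {vs : List ℤ} {b : ℤ}
    (h : List.Forall₂ (fun fl v => v ∈ fl.2) ls vs) (hb : wsum ls vs ≤ b) :
    vs ∈ search ls b := by
  induction h generalizing b with
  | nil => simp [search]
  | @cons fl v ls vs hv _ ih =>
    obtain ⟨f, l⟩ := fl
    have h0 := wsum_nonneg ls vs
    simp only [wsum, List.zipWith_cons_cons, List.sum_cons] at hb h0 ih
    simp only [search, List.mem_flatMap]
    refine ⟨v, hv, ?_⟩
    rw [if_pos (by linarith)]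
    exact List.mem_map.2 ⟨vs, ih (by linarith), rfl⟩

theorem mem_cand {c step d : ℕ} {v : ℤ} (hs : 0 < step)
    (hmod : ((d : ℤ) - v) % (step : ℤ) = 0) (hlt : v.natAbs < d) (hc : v * v ≤ (c : ℤ))
    (hdvd : (((443520 / c : ℕ) : ℤ) * v) % (d : ℤ) = 0) : v ∈ cand c step d := by
  simp only [cand, List.mem_filter, List.mem_map, List.mem_range, Bool.and_eq_true,
    decide_eq_true_eq]
  refine ⟨?_, hc, hdvd⟩
  obtain ⟨k, hk⟩ := Int.dvd_of_emod_eq_zero hmod
  have hk0 : 0 < k := by
    by_contra h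
    push Not at h
    have h1 : (step : ℤ) * k ≤ 0 := mul_nonpos_of_nonneg_of_nonpos (by positivity) h
    omega
  obtain ⟨j, rfl⟩ : ∃ j : ℕ, k = (j : ℤ) + 1 := ⟨(k - 1).toNat, by omega⟩
  have hsj : ((step * (j + 1) : ℕ) : ℤ) = (d : ℤ) - v := by rw [hk]; push_cast; ring
  refine ⟨j, ?_, by rw [hsj]; ring⟩
  refine Nat.lt_of_succ_le ((Nat.le_div_iff_mul_le hs).2 ?_)
  rw [Nat.mul_comm, Nat.succ_eq_add_one]
  omega

theorem count_coe {α : Type} [BEq α] [LawfulBEq α] [DecidableEq α] (x : α) :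
    ∀ l : List α, l.count x = Multiset.count x (l : Multiset α)
  | [] => by simp
  | a :: l => by
    rw [List.count_cons, count_coe x l, ← Multiset.cons_coe, Multiset.count_cons]
    by_cases h : x = a
    · simp [h]
    · simp [h]
      exact fun e => h e.symm

theorem msub_of_le {α : Type} [BEq α] [LawfulBEq α] [DecidableEq α] {l m : List α}
    (h : (l : Multiset α) ≤ (m : Multiset α)) : msub l m = true := by
  simp only [msub, List.all_eq_true, decide_eq_true_eq]
  intro x _
  rw [count_coe, count_coe]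
  exact Multiset.le_iff_count.1 h x

theorem meq_of_eq {α : Type} [BEq α] [LawfulBEq α] [DecidableEq α] {l m : List α}
    (h : (l : Multiset α) = (m : Multiset α)) : meq l m = true := by
  simp [meq, msub_of_le h.le, msub_of_le h.ge]

theorem eq_of_meq {α : Type} [BEq α] [LawfulBEq α] [DecidableEq α] {l m : List α}
    (h : meq l m = true) : (l : Multiset α) = (m : Multiset α) := by
  simp only [meq, msub, Bool.and_eq_true, List.all_eq_true, decide_eq_true_eq] at h
  refine Multiset.ext.2 fun x => ?_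
  have key : ∀ a b : List α, (∀ y ∈ a, a.count y ≤ b.count y) → a.count x ≤ b.count x := by
    intro a b hab
    by_cases hx : x ∈ a
    · exact hab x hx
    · rw [List.count_eq_zero.2 hx]; exact Nat.zero_le _
  rw [← count_coe, ← count_coe]
  exact le_antisymm (key l m h.1) (key m l h.2)

end Cfsg.Agent.M22Order.Search
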