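import Cfsg.Agent.M22Order.Block
import Cfsg.Agent.M22Order.Sound

/-!
# The principal blocks are among the candidates
-/

set_option autoImplicit false
set_option linter.unusedSectionVars false

namespace Cfsg.Agent.M22Order

open scoped ComplexConjugate
open Cfsg.Agent Cfsg.Agent.Blocks

universe u

variable {G : Type u} [Group G] [Fintype G] {p : ℕ} [Fact p.Prime] {P : Sylow p G}
  {M : Ideal Cfsg.AlgInt} {e : ℕ}

/-- The signed degree. -/
noncomputable def Bl.sd (B : Bl P M e) (χ : Cfsg.IrrCharacter G) : ℤ := B.σ χ * (dg χ : ℤ)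

/-- The nontrivial members. -/
def Bl.nt (B : Bl P M e) : Finset (Cfsg.IrrCharacter G) := B.X.disjUnion B.Y B.disj

theorem Bl.mem_nt (B : Bl P M e) {χ : Cfsg.IrrCharacter G} : χ ∈ B.nt ↔ χ ∈ B.X ∨ χ ∈ B.Y :=
  Finset.mem_disjUnion

theorem Bl.nt_val (B : Bl P M e) : B.nt.val = B.X.val + B.Y.val := rfl

theorem Bl.triv_nt (B : Bl P M e) : triv G ∉ B.nt := fun h =>
  (B.mem_nt.1 h).elim B.triv_X B.triv_Y

theorem Bl.ne_triv (B : Bl P M e) {χ : Cfsg.IrrCharacter G} (h : χ ∈ B.nt) : χ ≠ triv G :=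
  fun e => B.triv_nt (e ▸ h)

theorem Bl.mem_principal (B : Bl P M e) {χ : Cfsg.IrrCharacter G} (h : χ ∈ B.nt) :
    χ ∈ Cfsg.principalBlock M G :=
  (B.mem χ).2 (Or.inr (B.mem_nt.1 h))

theorem Bl.sd_natAbs (B : Bl P M e) {χ : Cfsg.IrrCharacter G} (h : χ ∈ B.X ∨ χ ∈ B.Y) :
    (B.sd χ).natAbs = dg χ := by
  rcases B.pm χ h with h | h <;> simp [Bl.sd, h]

theorem Bl.sd_sign (B : Bl P M e) {χ : Cfsg.IrrCharacter G} (h : χ ∈ B.X ∨ χ ∈ B.Y) :
    (B.sd χ).sign = B.σ χ := by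
  have h0 : (0 : ℤ) < dg χ := by exact_mod_cast dg_pos χ
  rcases B.pm χ h with h | h <;> rw [Bl.sd, h]
  · rw [one_mul]; exact Int.sign_eq_one_of_pos h0
  · rw [neg_one_mul]; exact Int.sign_eq_neg_one_of_neg (neg_lt_zero.2 h0)

theorem Bl.rel_int (B : Bl P M e) {g : G} (hg : ¬ p ∣ orderOf g) {v : Cfsg.IrrCharacter G → ℤ}
    (hv : ∀ χ : Cfsg.IrrCharacter G, (χ : G → ℂ) g = v χ) {θ : Cfsg.IrrCharacter G}
    (hθ : θ ∈ B.Y) : 1 + ∑ χ ∈ B.X, B.σ χ * v χ + B.σ θ * v θ = 0 := by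
  have h := B.rel θ hθ g hg
  simp only [hv] at h
  exact_mod_cast h

theorem Bl.Y_nonempty (B : Bl P M e) (hn : 0 < Search.nexc p e) : B.Y.Nonempty :=
  Finset.card_pos.1 (B.card_Y ▸ hn)

theorem Bl.exc_eq (B : Bl P M e) {D : List ℤ} (hD : (D : Multiset ℤ) = B.X.val.map B.sd)
    {θ : Cfsg.IrrCharacter G} (hθ : θ ∈ B.Y) : Search.exc D = B.sd θ := by
  have h1 : ¬ p ∣ orderOf (1 : G) := by
    rw [orderOf_one]; exact (Fact.out : p.Prime).not_dvd_one
  have h := B.rel_int h1 (v := fun χ => (dg χ : ℤ)) (fun χ => by rw [value_one]; rfl) hθ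
  have hsum : D.sum = ∑ χ ∈ B.X, B.σ χ * (dg χ : ℤ) := by
    rw [← Multiset.sum_coe, hD]; rfl
  rw [Search.exc, hsum, Bl.sd]
  linarith

theorem Bl.eq_sd (B : Bl P M e) {θ η : Cfsg.IrrCharacter G} (hθ : θ ∈ B.Y) (hη : η ∈ B.Y) :
    B.sd θ = B.sd η ∧ dg θ = dg η := by
  obtain ⟨h1, h2⟩ := B.eqY θ hθ η hη
  have h := h2 1 (by rw [orderOf_one]; exact (Fact.out : p.Prime).not_dvd_one)
  rw [value_one, value_one] at h
  have hd : dg θ = dg η := by exact_mod_cast h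
  exact ⟨by rw [Bl.sd, Bl.sd, h1, hd], hd⟩

theorem map_Y {β : Type*} (B : Bl P M e) (f : Cfsg.IrrCharacter G → β) {b : β}
    (h : ∀ θ ∈ B.Y, f θ = b) :
    B.Y.val.map f = ((List.replicate (Search.nexc p e) b : List β) : Multiset β) := by
  rw [Multiset.map_congr rfl h, Multiset.map_const', Multiset.coe_replicate]
  congr 1
  exact B.card_Y

/-- The degrees of the members from the signed degrees of the ordinary ones. -/
theorem Bl.degs_eq (B : Bl P M e) {D : List ℤ} (hD : (D : Multiset ℤ) = B.X.val.map B.sd) :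
    ((Search.degsOf (Search.nexc p e) D : List ℕ) : Multiset ℕ) = B.nt.val.map dg := by
  rw [Search.degsOf, ← Multiset.coe_add, B.nt_val, Multiset.map_add,
    map_Y B dg (b := (Search.exc D).natAbs) fun θ hθ => by
      rw [B.exc_eq hD hθ, B.sd_natAbs (Or.inr hθ)]]
  congr 1
  rw [← Multiset.map_coe, hD, Multiset.map_map]
  exact Multiset.map_congr rfl fun χ hχ => B.sd_natAbs (Or.inl hχ)

/-- The exceptional value. -/
theorem Bl.excVal_eq (B : Bl P M e) {L : List (Cfsg.IrrCharacter G)}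
    (hL : (L : Multiset (Cfsg.IrrCharacter G)) = B.X.val) {g : G} (hg : ¬ p ∣ orderOf g)
    {v : Cfsg.IrrCharacter G → ℤ} (hv : ∀ χ : Cfsg.IrrCharacter G, (χ : G → ℂ) g = v χ)
    {θ : Cfsg.IrrCharacter G} (hθ : θ ∈ B.Y) :
    Search.excVal (L.map B.sd) (L.map v) = v θ := by
  have hX : ∀ χ ∈ L, χ ∈ B.X := fun χ h => by
    rw [← Finset.mem_val, ← hL]; exact Multiset.mem_coe.2 h
  have hsum : Search.valSum (L.map B.sd) (L.map v) = ∑ χ ∈ B.X, B.σ χ * v χ := by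
    rw [Search.valSum, List.zipWith_map, List.zipWith_self,
      List.map_congr_left (g := fun χ => B.σ χ * v χ) fun χ h => by rw [B.sd_sign (Or.inl (hX χ h))],
      Finset.sum, ← hL, Multiset.map_coe, Multiset.sum_coe]
  have h := B.rel_int hg hv hθ
  rw [Search.excVal, hsum, B.exc_eq (D := L.map B.sd) (by rw [← Multiset.map_coe, hL]) hθ,
    B.sd_sign (Or.inr hθ)]
  rcases B.pm θ (Or.inr hθ) with h' | h' <;> rw [h'] at h ⊢ <;> linarith

/-- The pairs of degree and value. -/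
theorem Bl.pairs_eq (B : Bl P M e) {L : List (Cfsg.IrrCharacter G)}
    (hL : (L : Multiset (Cfsg.IrrCharacter G)) = B.X.val) {g : G} (hg : ¬ p ∣ orderOf g)
    {v : Cfsg.IrrCharacter G → ℤ} (hv : ∀ χ : Cfsg.IrrCharacter G, (χ : G → ℂ) g = v χ) :
    ((Search.pairsOf (Search.nexc p e) (L.map B.sd) (L.map v) : List (ℕ × ℤ)) : Multiset (ℕ × ℤ)) =
      B.nt.val.map fun χ => (dg χ, v χ) := by
  have hX : ∀ χ ∈ L, χ ∈ B.X := fun χ h => by
    rw [← Finset.mem_val, ← hL]; exact Multiset.mem_coe.2 h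
  have hD : ((L.map B.sd : List ℤ) : Multiset ℤ) = B.X.val.map B.sd := by
    rw [← Multiset.map_coe, hL]
  rw [Search.pairsOf, ← Multiset.coe_add, B.nt_val, Multiset.map_add,
    map_Y B (fun χ => (dg χ, v χ))
      (b := ((Search.exc (L.map B.sd)).natAbs, Search.excVal (L.map B.sd) (L.map v))) fun θ hθ => by
      rw [B.exc_eq hD hθ, B.sd_natAbs (Or.inr hθ), B.excVal_eq hL hg hv hθ]]
  congr 1
  rw [← hL, Multiset.map_coe, List.zipWith_map, List.zipWith_self]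
  exact congrArg _ (List.map_congr_left fun χ h => by rw [B.sd_natAbs (Or.inl (hX χ h))])

theorem mem_pm {n d : ℕ} (hd : d < n) {x : ℤ} (hx : x = (d : ℤ) ∨ x = -(d : ℤ)) :
    x ∈ (List.range n).flatMap fun d : ℕ => [(d : ℤ), -(d : ℤ)] :=
  List.mem_flatMap.2 ⟨d, List.mem_range.2 hd, by rcases hx with rfl | rfl <;> simp⟩

variable [IsSimpleGroup G] (hG : Nat.card G = 443520)
include hG

theorem Bl.not_dvd (B : Bl P M e) (hS : BlockThms.OrderP.Setup P e) (hM : Cfsg.IsPModular p M)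
    {χ : Cfsg.IrrCharacter G} (h : χ ∈ B.nt) : ¬ p ∣ dg χ :=
  hS.not_dvd_degree hM (B.mem_principal h)

theorem Bl.goodDeg_sd (B : Bl P M e) (hp : p ∈ [5, 7, 11]) (hS : BlockThms.OrderP.Setup P e)
    (hM : Cfsg.IsPModular p M) (h11 : ∀ χ ∈ B.nt, dg χ % 11 ∈ [0, 1, 10, 5, 6]) :
    ∀ χ ∈ B.nt, Search.goodDeg p (B.sd χ) = true := by
  classical
  have hp' : p.Prime := Fact.out
  intro χ hχ
  have hna := B.sd_natAbs (B.mem_nt.1 hχ)
  simp only [Search.goodDeg, hna, Bool.and_eq_true, decide_eq_true_eq, List.contains_iff_mem]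
  refine ⟨⟨⟨one_lt_dg hG (B.ne_triv hχ), dg_sq_lt hG (B.ne_triv hχ)⟩, ?_⟩, h11 χ hχ⟩
  refine Nat.mod_eq_zero_of_dvd ?_
  have hpd : p ∣ 443520 := by
    simp only [List.mem_cons, List.not_mem_nil, or_false] at hp
    rcases hp with rfl | rfl | rfl <;> norm_num
  exact ((hp'.coprime_iff_not_dvd.2 (B.not_dvd hG hS hM hχ)).symm).dvd_of_dvd_mul_left
    (show dg χ ∣ p * (443520 / p) by rw [Nat.mul_div_cancel' hpd]; exact dg_dvd hG χ)

theorem Bl.mem_signedDegs (B : Bl P M e) (hp : p ∈ [5, 7, 11]) (hS : BlockThms.OrderP.Setup P e)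
    (hM : Cfsg.IsPModular p M) (h11 : ∀ χ ∈ B.nt, dg χ % 11 ∈ [0, 1, 10, 5, 6]) :
    ∀ x ∈ B.X.val.map B.sd, x ∈ Search.signedDegs p := by
  classical
  have hgood := B.goodDeg_sd hG hp hS hM h11
  intro x hx
  obtain ⟨χ, hχ, rfl⟩ := Multiset.mem_map.1 hx
  have hg := hgood χ (B.mem_nt.2 (Or.inl hχ))
  have hna := B.sd_natAbs (Or.inl hχ)
  have hlt : dg χ < 666 := by
    by_contra h
    push Not at h
    have := Nat.mul_le_mul h h
    have := dg_sq_lt hG (B.ne_triv (B.mem_nt.2 (Or.inl hχ)))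
    omega
  rw [Search.signedDegs]
  refine List.mem_filter.2 ⟨mem_pm hlt ?_, ?_⟩
  · rcases B.pm χ (Or.inl hχ) with h | h <;> simp [Bl.sd, h]
  · rw [Bool.and_eq_true, decide_eq_true_eq]
    exact ⟨hg, B.congX χ hχ⟩

/-- The ordinary signed degrees form one of the listed candidates. -/
theorem Bl.exists_list (B : Bl P M e) (hp : p ∈ [5, 7, 11]) (hS : BlockThms.OrderP.Setup P e)
    (hM : Cfsg.IsPModular p M) (hn : 0 < Search.nexc p e)
    (h11 : ∀ χ ∈ B.nt, dg χ % 11 ∈ [0, 1, 10, 5, 6]) :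
    ∃ L : List (Cfsg.IrrCharacter G), (L : Multiset (Cfsg.IrrCharacter G)) = B.X.val ∧
      L.map B.sd ∈ Search.blockList p e := by
  classical
  have hgood := B.goodDeg_sd hG hp hS hM h11
  have hmem := B.mem_signedDegs hG hp hS hM h11
  have hsq : (1 : ℤ) + (∑ χ ∈ B.X, (dg χ : ℤ) ^ 2 + ∑ χ ∈ B.Y, (dg χ : ℤ) ^ 2) ≤ 443520 := by
    rw [← Finset.sum_union B.disj, ← sum_sq hG]
    have h := Finset.sum_le_univ_sum_of_nonneg (s := insert (triv G) (B.X ∪ B.Y))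
      (f := fun χ : Cfsg.IrrCharacter G => (dg χ : ℤ) ^ 2) fun χ => sq_nonneg _
    rw [Finset.sum_insert (by simp [B.triv_X, B.triv_Y]), dg_triv, Nat.cast_one, one_pow] at h
    exact h
  have hXsq : ∑ χ ∈ B.X, (dg χ : ℤ) ^ 2 ≤ 443519 := by
    have : (0 : ℤ) ≤ ∑ χ ∈ B.Y, (dg χ : ℤ) ^ 2 := Finset.sum_nonneg fun χ _ => sq_nonneg _
    linarith
  have hmapsq : ((B.X.val.map B.sd).map fun x => x * x).sum = ∑ χ ∈ B.X, (dg χ : ℤ) ^ 2 := by
    rw [Multiset.map_map]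
    refine congrArg Multiset.sum (Multiset.map_congr rfl fun χ hχ => ?_)
    rcases B.pm χ (Or.inl hχ) with h | h <;> simp [Bl.sd, h, sq]
  obtain ⟨D, hD, hDM⟩ := Search.mem_enum (e - 1) (Search.signedDegs p) 443519 _ hmem
    (by rw [Multiset.card_map]; have := B.card_X; show B.X.card = e - 1; omega)
    (hmapsq ▸ hXsq)
  obtain ⟨L, hL, hLD⟩ := Search.exists_list_of_map_eq B.sd D B.X.val hDM.symm
  refine ⟨L, hL, ?_⟩
  rw [hLD, Search.blockList, List.mem_filter]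
  refine ⟨hD, ?_⟩
  obtain ⟨θ, hθ⟩ := B.Y_nonempty hn
  have hexc := B.exc_eq hDM hθ
  simp only [Search.okExcDeg, Bool.and_eq_true, Bool.or_eq_true, decide_eq_true_eq,
    List.all_eq_true, hexc]
  refine ⟨⟨⟨hgood θ (B.mem_nt.2 (Or.inr hθ)), B.congY θ hθ⟩, ?_⟩, ?_⟩
  · by_cases h : (p - 1) / e = 1
    · refine Or.inr fun x hx => ?_
      obtain ⟨χ, hχ, rfl⟩ := Multiset.mem_map.1
        (show x ∈ B.X.val.map B.sd by rw [← hDM]; exact Multiset.mem_coe.2 hx)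
      exact B.canon h χ hχ θ hθ
    · exact Or.inl h
  · have h1 : (D.map fun x => x * x).sum = ∑ χ ∈ B.X, (dg χ : ℤ) ^ 2 := by
      rw [← hmapsq, ← hDM, Multiset.map_coe, Multiset.sum_coe]
    have h2 : ∑ χ ∈ B.Y, (dg χ : ℤ) ^ 2 = ((p - 1) / e : ℕ) * (B.sd θ * B.sd θ) := by
      rw [Finset.sum_congr rfl fun η hη => by rw [(B.eq_sd hη hθ).2], Finset.sum_const,
        nsmul_eq_mul, B.card_Y]
      rcases B.pm θ (Or.inr hθ) with h | h <;> simp [Bl.sd, h, sq, Search.nexc]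
    rw [h1, ← h2]
    linarith

end Cfsg.Agent.M22Order
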