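import Cfsg.Agent.M22Order.ColSound
import Cfsg.Agent.S0840

/-!
# The column of an involution on the principal blocks
-/

set_option autoImplicit false
set_option linter.unusedSectionVars false

namespace Cfsg.Agent.M22Order

open scoped ComplexConjugate
open Cfsg.Agent Cfsg.Agent.Blocks

universe u

variable {G : Type u} [Group G] [Fintype G]

/-- The column of an involution. -/
structure InvCol (t : G) (c : ℕ) (v : Cfsg.IrrCharacter G → ℤ) : Prop where
  ord : orderOf t = 2
  card : Nat.card (Subgroup.centralizer ({t} : Set G)) = c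
  val : ∀ χ : Cfsg.IrrCharacter G, (χ : G → ℂ) t = v χ
  v_triv : v (triv G) = 1
  four : ∀ χ, ((dg χ : ℤ) - v χ) % 4 = 0
  dvd : ∀ χ, (((443520 / c : ℕ) : ℤ) * v χ) % (dg χ : ℤ) = 0
  lt : ∀ χ, χ ≠ triv G → (v χ).natAbs < dg χ
  sq : ∑ χ : Cfsg.IrrCharacter G, v χ * v χ = (c : ℤ)
  orth : ∑ χ : Cfsg.IrrCharacter G, (dg χ : ℤ) * v χ = 0

theorem exists_col [IsSimpleGroup G] (hG : Nat.card G = 443520) {t : G} (ht : orderOf t = 2)
    {c : ℕ} (hc : Nat.card (Subgroup.centralizer ({t} : Set G)) = c) :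
    ∃ v, InvCol t c v := by
  obtain ⟨v, h1, h2, h3, h4, h5, h6, h7⟩ := exists_invVal hG ht
  subst hc
  exact ⟨v, ⟨ht, rfl, h1, h2, h3, h4, h5, h6, h7⟩⟩

variable {p : ℕ} [Fact p.Prime] {P : Sylow p G} {M : Ideal Cfsg.AlgInt} {e : ℕ}

theorem InvCol.regular {t : G} {c : ℕ} {v : Cfsg.IrrCharacter G → ℤ} (hC : InvCol t c v) (hp : 2 < p) :
    ¬ p ∣ orderOf t := fun h => by
  rw [hC.ord] at h
  have := Nat.le_of_dvd (by norm_num) h
  omega

/-- The value is congruent to the degree modulo four times the prime. -/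
theorem Bl.step (B : Bl P M e) (hp : p ∈ [5, 7, 11]) (hM : Cfsg.IsPModular p M) {t : G} {c : ℕ}
    {v : Cfsg.IrrCharacter G → ℤ} (hC : InvCol t c v)
    (htC : t ∈ Subgroup.centralizer (P : Set G)) {χ : Cfsg.IrrCharacter G}
    (hχ : χ ∈ B.nt) : ((dg χ : ℤ) - v χ) % (((4 * p : ℕ)) : ℤ) = 0 := by
  have hp2 : 2 < p := by
    simp only [List.mem_cons, List.not_mem_nil, or_false] at hp; omega
  have h := B.cong χ (B.mem_nt.1 hχ) t htC (hC.regular hp2)
  rw [hC.val, show (v χ : ℂ) - (dg χ : ℂ) = ((v χ - (dg χ : ℤ) : ℤ) : ℂ) by push_cast; ring,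
    Blocks.memLocalIdeal_intCast_iff hM] at h
  have h4 := hC.four χ
  have h' := Int.emod_eq_zero_of_dvd h
  simp only [List.mem_cons, List.not_mem_nil, or_false] at hp
  rcases hp with rfl | rfl | rfl <;> push_cast at * <;> omega

open scoped Classical in
/-- The number of representations of `z` by two conjugates of an involution. -/
theorem pairs_card (hS : BlockThms.OrderP.Setup P e) (hp : 2 < p) {t z : G} (ht : orderOf t = 2)
    (hz : z ∈ (P : Subgroup G)) (hz1 : z ≠ 1)
    (hC : Subgroup.centralizer (P : Set G) = (P : Subgroup G)) :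
    ∃ k : ℕ, (k = 0 ∨ k = p ∧ Even e) ∧
      Nat.card {q : G × G // IsConj t q.1 ∧ IsConj t q.2 ∧ q.1 * q.2 = z} = k := by
  refine ⟨_, ?_, rfl⟩
  by_cases hne : Nonempty {q : G × G // IsConj t q.1 ∧ IsConj t q.2 ∧ q.1 * q.2 = z}
  swap
  · exact Or.inl (Nat.card_eq_zero.2 (Or.inl (not_nonempty_iff.1 hne)))
  refine Or.inr ?_
  obtain ⟨⟨⟨x, y⟩, hx, hy, hxy⟩⟩ := hne
  have hinvol : ∀ {w : G}, IsConj t w → w * w = 1 := fun {w} hw => by
    obtain ⟨a, rfl⟩ := isConj_iff.1 hw
    rw [← pow_two, conj_pow, ← ht, pow_orderOf_eq_one]; group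
  have hinv : ∀ {q : G × G}, IsConj t q.1 → IsConj t q.2 → q.1 * q.2 = z →
      q.1⁻¹ * z * q.1 = z⁻¹ := by
    rintro ⟨a, b⟩ ha hb rfl
    have h1 := hinvol ha
    have h2 := hinvol hb
    show a⁻¹ * (a * b) * a = (a * b)⁻¹
    rw [mul_inv_rev, inv_eq_of_mul_eq_one_right h1, inv_eq_of_mul_eq_one_right h2,
      show a * (a * b) = a * a * b by group, h1, one_mul]
  have hxx := hinvol hx
  have hxN : x ∈ Subgroup.normalizer (P : Set G) :=
    hS.mem_normalizer hz hz1 (c := x) (by rw [hinv (q := (x, y)) hx hy hxy]; exact inv_mem hz)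
  have hxP : x ∉ (P : Subgroup G) := fun h => by
    obtain ⟨a, ha⟩ := isConj_iff.1 hx
    have := Subgroup.orderOf_dvd_natCard _ h
    rw [hS.card, show x = a * t * a⁻¹ from ha.symm, Blocks.orderOf_conj', ht] at this
    rcases (Nat.dvd_prime (Fact.out : p.Prime)).1 this with h' | h' <;> omega
  have hxinv : ∀ u ∈ (P : Subgroup G), x * u * x = u⁻¹ := by
    intro u hu
    obtain ⟨i, rfl⟩ := Subgroup.mem_zpowers_iff.1
      (show u ∈ Subgroup.zpowers z by rwa [hS.zpowers_eq hz hz1])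
    have h0 := hinv (q := (x, y)) hx hy hxy
    rw [← inv_zpow, ← h0]
    have : x⁻¹ = x := inv_eq_of_mul_eq_one_right hxx
    rw [this]
    conv_lhs => rw [show x * z ^ i * x = x * z ^ i * x⁻¹ by rw [this]]
    conv_rhs => rw [show x * z * x = x * z * x⁻¹ by rw [this], conj_zpow]
  refine ⟨?_, ?_⟩
  · have hrt : ∀ u : (P : Subgroup G), IsConj t (x * (u : G)) := by
      intro u
      refine hx.trans (isConj_iff.2 ⟨((u : G) ^ ((p + 1) / 2))⁻¹, ?_⟩)
      set w := (u : G) ^ ((p + 1) / 2) with hw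
      have hw2 : w * w = (u : G) := by
        have hup : (u : G) ^ p = 1 := orderOf_dvd_iff_pow_eq_one.1
          ((Subgroup.orderOf_dvd_natCard _ u.2).trans hS.card.dvd)
        rw [hw, ← pow_add]
        have hodd : p % 2 = 1 :=
          (Fact.out : p.Prime).eq_two_or_odd.resolve_left (by omega)
        rw [show (p + 1) / 2 + (p + 1) / 2 = p + 1 by omega, pow_succ, hup, one_mul]
      have h1 := hxinv w⁻¹ (inv_mem (pow_mem u.2 _))
      rw [inv_inv] at h1
      rw [inv_inv]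
      calc w⁻¹ * x * w = (x * x) * w⁻¹ * x * w := by rw [hxx, one_mul]
        _ = x * (x * w⁻¹ * x) * w := by group
        _ = x * (u : G) := by rw [h1, mul_assoc, hw2]
    let F : ↥(P : Subgroup G) → {q : G × G // IsConj t q.1 ∧ IsConj t q.2 ∧ q.1 * q.2 = z} :=
      fun u => ⟨(x * (u : G), x * ((u : G) * z)), hrt u, hrt ⟨_, mul_mem u.2 hz⟩, by
        calc x * (u : G) * (x * ((u : G) * z)) = (x * (u : G) * x) * (u : G) * z := by group
          _ = z := by rw [hxinv _ u.2, inv_mul_cancel, one_mul]⟩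
    have hbij : Function.Bijective F := by
      refine ⟨fun a b h => ?_, fun q => ?_⟩
      · exact Subtype.ext (mul_left_cancel (congrArg (fun q => q.1.1) h))
      · obtain ⟨⟨a, b⟩, ha, hb, hab⟩ := q
        have haa := hinvol ha
        have hu : x * a ∈ (P : Subgroup G) := by
          rw [← hC, ← hS.centralizer_eq hz hz1, Subgroup.mem_centralizer_singleton_iff]
          have h1 := hinv (q := (a, b)) ha hb hab
          simp only [inv_eq_of_mul_eq_one_right haa] at h1
          have h2 := hxinv _ (inv_mem hz)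
          rw [inv_inv] at h2
          calc x * a * z = x * (a * z * a) * a := by
                rw [show x * (a * z * a) * a = x * a * z * (a * a) by group, haa, mul_one]
            _ = x * z⁻¹ * (x * x) * a := by rw [h1, hxx, mul_one]
            _ = (x * z⁻¹ * x) * (x * a) := by group
            _ = z * (x * a) := by rw [h2]
        refine ⟨⟨x * a, hu⟩, Subtype.ext (Prod.ext ?_ ?_)⟩
        · show x * (x * a) = a
          rw [← mul_assoc, hxx, one_mul]
        · show x * (x * a * z) = b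
          rw [← mul_assoc, ← mul_assoc, hxx, one_mul, ← hab, ← mul_assoc, haa, one_mul]
    rw [← Nat.card_eq_of_bijective F hbij, hS.card]
  · have hd : 2 ∣ Nat.card (Subgroup.normalizer (P : Set G)) := by
      obtain ⟨a, ha⟩ := isConj_iff.1 hx
      have := Subgroup.orderOf_dvd_natCard _ hxN
      rwa [show x = a * t * a⁻¹ from ha.symm, Blocks.orderOf_conj', ht] at this
    rw [hS.card_normalizer, hC, hS.card] at hd
    rcases Nat.prime_two.dvd_mul.1 hd with h | h
    · exact even_iff_two_dvd.2 h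
    · exfalso
      have := (Nat.prime_dvd_prime_iff_eq Nat.prime_two (Fact.out : p.Prime)).1 h
      omega

theorem dvd_den_exc (D : List ℤ) : (Search.exc D).natAbs ∣ Search.den D := ⟨_, rfl⟩

theorem dvd_den_mem {D : List ℤ} {x : ℤ} (hx : x ∈ D) : x.natAbs ∣ Search.den D :=
  Dvd.dvd.mul_left (List.dvd_prod (List.mem_map.2 ⟨x, hx, rfl⟩)) _

/-- The class multiplication relation. -/
theorem Bl.quad (B : Bl P M e) [IsSimpleGroup G] (hG : Nat.card G = 443520)
    (hS : BlockThms.OrderP.Setup P e) (hM : Cfsg.IsPModular p M) (hp : 2 < p)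
    (hC : Subgroup.centralizer (P : Set G) = (P : Subgroup G))
    (hn : 0 < Search.nexc p e)
    {t : G} {c : ℕ} {v : Cfsg.IrrCharacter G → ℤ} (hcol : InvCol t c v)
    {L : List (Cfsg.IrrCharacter G)} (hL : (L : Multiset (Cfsg.IrrCharacter G)) = B.X.val) :
    ∃ k : ℕ, (k = 0 ∨ k = p ∧ Even e) ∧
      Search.quadNum (L.map B.sd) (L.map v) * 443520 =
        ((k * (c * c) * Search.den (L.map B.sd) : ℕ) : ℤ) := by
  classical
  obtain ⟨z, hz, hz1, hzo⟩ := hS.exists_gen
  obtain ⟨k, hk, hcard⟩ := pairs_card hS hp hcol.ord hz hz1 hC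
  refine ⟨k, hk, ?_⟩
  obtain ⟨θ, hθ⟩ := B.Y_nonempty hn
  have hreg := hcol.regular hp
  have hD : ((L.map B.sd : List ℤ) : Multiset ℤ) = B.X.val.map B.sd := by
    rw [← Multiset.map_coe, hL]
  have hexc := B.exc_eq hD hθ
  have hX : ∀ χ ∈ L, χ ∈ B.X := fun χ h => by
    rw [← Finset.mem_val, ← hL]; exact Multiset.mem_coe.2 h
  set K := Search.den (L.map B.sd) with hK
  -- the coefficient
  have hco := S0840.result t t z
  rw [finsum_eq_sum_of_fintype, Char.card_isConj_eq_index, hcard, index_eq hG, hcol.card] at hco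
  have hc0 : (c : ℂ) ≠ 0 := by
    rw [← hcol.card]; exact Nat.cast_ne_zero.2 Nat.card_pos.ne'
  have hidx : ((443520 / c : ℕ) : ℂ) = 443520 / (c : ℂ) := by
    rw [eq_div_iff hc0]
    have h := card_centralizer_mul_index hG t
    rw [index_eq hG, hcol.card] at h
    rw [mul_comm]
    exact_mod_cast h
  rw [hidx, hG] at hco
  have hout : ∀ χ : Cfsg.IrrCharacter G, χ ∉ insert (triv G) B.nt → (χ : G → ℂ) z = 0 := by
    intro χ hχ
    rw [Finset.mem_insert, not_or, B.mem_nt, not_or] at hχ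
    have hd : p ∣ dg χ := S4429.dvd_outside hS (by rw [hC, hS.card]) hM fun h => by
      rcases (B.mem χ).1 h with h | h | h
      exacts [hχ.1 h, hχ.2.1 h, hχ.2.2 h]
    refine BlockThms.eq_zero_of_not_dvd_codegree hM χ ?_ (fun h => h (by rw [hzo]))
    intro h
    have h2 : p ^ 2 ∣ Nat.card G := by
      rw [sq, ← Nat.mul_div_cancel' (show dg χ ∣ Nat.card G by rw [hG]; exact dg_dvd hG χ)]
      exact mul_dvd_mul hd h
    have h3 := ((Fact.out : p.Prime).pow_dvd_iff_le_factorization Nat.card_pos.ne').1 h2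
    rw [hS.factorization.2] at h3
    omega
  rw [← Finset.sum_subset (Finset.subset_univ (insert (triv G) B.nt)) fun χ _ hχ => by
      rw [hout χ hχ, map_zero, mul_zero, zero_div],
    Finset.sum_insert B.triv_nt, Bl.nt, Finset.sum_disjUnion] at hco
  simp only [hcol.val, hcol.v_triv, value_one, dg_triv, triv_value, map_one, Int.cast_one,
    mul_one, Nat.cast_one, div_one] at hco
  have hXs : ∑ χ ∈ B.X, (v χ : ℂ) * (v χ : ℂ) * conj ((χ : G → ℂ) z) / (dg χ : ℂ) =
      ∑ χ ∈ B.X, (B.σ χ : ℂ) * (v χ : ℂ) * (v χ : ℂ) / (dg χ : ℂ) :=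
    Finset.sum_congr rfl fun χ hχ => by rw [B.atX χ hχ z hz hz1, map_intCast]; ring
  have hYv : ∀ η ∈ B.Y, v η = v θ := fun η hη => by
    have h := (B.eqY η hη θ hθ).2 t hreg
    rw [hcol.val, hcol.val] at h
    exact_mod_cast h
  have hYs : ∑ η ∈ B.Y, (v η : ℂ) * (v η : ℂ) * conj ((η : G → ℂ) z) / (dg η : ℂ) =
      (B.σ θ : ℂ) * (v θ : ℂ) * (v θ : ℂ) / (dg θ : ℂ) := by
    rw [Finset.sum_congr rfl fun η hη => by rw [hYv η hη, (B.eq_sd hη hθ).2],
      ← Finset.sum_div, ← Finset.mul_sum, ← map_sum, B.atY θ hθ z hz hz1, map_intCast]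
    ring
  rw [hXs, hYs] at hco
  -- the cleared sum
  have hdiv : ∀ d : ℕ, d ∣ K → 0 < d → ((K / d : ℕ) : ℂ) = (K : ℂ) / (d : ℂ) := fun d hd h0 =>
    Nat.cast_div hd (Nat.cast_ne_zero.2 h0.ne')
  have hdθ : dg θ ∣ K := by
    rw [← B.sd_natAbs (Or.inr hθ), ← hexc]; exact dvd_den_exc _
  have hq : (Search.quadNum (L.map B.sd) (L.map v) : ℂ) = (K : ℂ) *
      (1 + (∑ χ ∈ B.X, (B.σ χ : ℂ) * (v χ : ℂ) * (v χ : ℂ) / (dg χ : ℂ) +
        (B.σ θ : ℂ) * (v θ : ℂ) * (v θ : ℂ) / (dg θ : ℂ))) := by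
    rw [Search.quadNum, B.excVal_eq hL hreg hcol.val hθ, hexc, B.sd_sign (Or.inr hθ),
      B.sd_natAbs (Or.inr hθ), ← hK, List.zipWith_map, List.zipWith_self,
      List.map_congr_left (g := fun χ => B.σ χ * v χ * v χ * ((K / dg χ : ℕ) : ℤ)) fun χ h => by
        rw [B.sd_sign (Or.inl (hX χ h)), B.sd_natAbs (Or.inl (hX χ h))],
      show (List.map (fun χ => B.σ χ * v χ * v χ * ((K / dg χ : ℕ) : ℤ)) L).sum =
        ∑ χ ∈ B.X, B.σ χ * v χ * v χ * ((K / dg χ : ℕ) : ℤ) by
        rw [Finset.sum, ← hL, Multiset.map_coe, Multiset.sum_coe]]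
    simp only [Int.cast_add, Int.cast_sum, Int.cast_mul, Int.cast_natCast]
    rw [hdiv _ hdθ (dg_pos θ), mul_add, mul_one, mul_add, Finset.mul_sum,
      Finset.sum_congr rfl fun χ hχ => by
        rw [hdiv _ (by
          rw [← B.sd_natAbs (Or.inl hχ)]
          exact dvd_den_mem (List.mem_map.2 ⟨χ, Multiset.mem_coe.1 (hL ▸ hχ), rfl⟩)) (dg_pos χ)]]
    rw [Finset.sum_congr rfl fun χ _ => show (B.σ χ : ℂ) * (v χ : ℂ) * (v χ : ℂ) * ((K : ℂ) / (dg χ : ℂ)) =
      (K : ℂ) * ((B.σ χ : ℂ) * (v χ : ℂ) * (v χ : ℂ) / (dg χ : ℂ)) by ring]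
    ring
  have hfin : (Search.quadNum (L.map B.sd) (L.map v) : ℂ) * 443520 =
      (k : ℂ) * ((c : ℂ) * (c : ℂ)) * (K : ℂ) := by
    rw [hq, hco]
    push_cast
    field_simp
  exact_mod_cast hfin

theorem Bl.nexc_pos (B : Bl P M e) (hp : p ∈ [5, 7, 11]) (hS : BlockThms.OrderP.Setup P e) :
    0 < Search.nexc p e := by
  have hp2 : 2 < p := by
    simp only [List.mem_cons, List.not_mem_nil, or_false] at hp; omega
  exact Nat.div_pos (Nat.le_of_dvd (by omega) hS.exists_y.1) (by have := B.card_X; omega)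

theorem InvCol.sq_le_of_subset {t : G} {c : ℕ} {v : Cfsg.IrrCharacter G → ℤ} (hcol : InvCol t c v)
    {T : Finset (Cfsg.IrrCharacter G)} (hT : triv G ∉ T) :
    1 + ∑ χ ∈ T, v χ * v χ ≤ (c : ℤ) := by
  classical
  rw [← hcol.sq]
  have h := Finset.sum_le_univ_sum_of_nonneg (s := insert (triv G) T)
    (f := fun χ => v χ * v χ) fun χ => mul_self_nonneg _
  rw [Finset.sum_insert hT, hcol.v_triv, one_mul] at h
  exact h

theorem forall₂_map {α β γ : Type*} {R : β → γ → Prop} {f : α → β} {g : α → γ} :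
    ∀ {L : List α}, (∀ x ∈ L, R (f x) (g x)) → List.Forall₂ R (L.map f) (L.map g)
  | [], _ => List.Forall₂.nil
  | a :: L, h => List.Forall₂.cons (h a (List.mem_cons_self ..))
      (forall₂_map fun x hx => h x (List.mem_cons_of_mem a hx))

theorem sqSum_eq {t : G} {c : ℕ} {v : Cfsg.IrrCharacter G → ℤ} (_hcol : InvCol t c v)
    {T : List (ℕ × ℤ)} {S : Finset (Cfsg.IrrCharacter G)}
    (h : (T : Multiset (ℕ × ℤ)) = S.val.map fun χ => (dg χ, v χ)) :
    Search.sqSum T = ∑ χ ∈ S, v χ * v χ := by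
  rw [Search.sqSum, ← Multiset.sum_coe, ← Multiset.map_coe, h, Multiset.map_map]
  rfl

theorem Bl.excVal_ok (B : Bl P M e) [IsSimpleGroup G] (hG : Nat.card G = 443520) (hp : 2 < p)
    (hn : 0 < Search.nexc p e) {t : G} {c : ℕ} {v : Cfsg.IrrCharacter G → ℤ} (hcol : InvCol t c v)
    {L : List (Cfsg.IrrCharacter G)} (hL : (L : Multiset (Cfsg.IrrCharacter G)) = B.X.val)
    {step : ℕ} (hstep : ∀ χ ∈ B.nt, ((dg χ : ℤ) - v χ) % (step : ℤ) = 0) :
    Search.okExcVal c step (L.map B.sd) (L.map v) = true := by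
  obtain ⟨θ, hθ⟩ := B.Y_nonempty hn
  have hθn : θ ∈ B.nt := B.mem_nt.2 (Or.inr hθ)
  have hD : ((L.map B.sd : List ℤ) : Multiset ℤ) = B.X.val.map B.sd := by
    rw [← Multiset.map_coe, hL]
  rw [Search.okExcVal, B.excVal_eq hL (hcol.regular hp) hcol.val hθ, B.exc_eq hD hθ,
    B.sd_natAbs (Or.inr hθ)]
  simp only [Bool.and_eq_true, decide_eq_true_eq]
  exact ⟨⟨hstep θ hθn, hcol.lt θ (B.ne_triv hθn)⟩, hcol.dvd θ⟩

/-- The column on the principal block at eleven is among the candidates. -/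
theorem Bl.mem_aCols [Fact (Nat.Prime 11)] {P : Sylow 11 G} (A : Bl P M 5) [IsSimpleGroup G]
    (hG : Nat.card G = 443520) (hS : BlockThms.OrderP.Setup P 5) (hM : Cfsg.IsPModular 11 M)
    (hC : Subgroup.centralizer (P : Set G) = (P : Subgroup G))
    {t : G} {c : ℕ} {v : Cfsg.IrrCharacter G → ℤ} (hcol : InvCol t c v)
    {L : List (Cfsg.IrrCharacter G)} (hL : (L : Multiset (Cfsg.IrrCharacter G)) = A.X.val) :
    ∃ LA ∈ Search.aCols c (L.map A.sd),
      (LA : Multiset (ℕ × ℤ)) = A.nt.val.map fun χ => (dg χ, v χ) := by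
  classical
  have hp : (2 : ℕ) < 11 := by norm_num
  have hn : 0 < Search.nexc 11 5 := by norm_num [Search.nexc]
  have hpairs := A.pairs_eq hL (hcol.regular hp) hcol.val
  refine ⟨_, List.mem_map.2 ⟨L.map v, ?_, rfl⟩, hpairs⟩
  have hX : ∀ χ ∈ L, χ ∈ A.X := fun χ h => by
    rw [← Finset.mem_val, ← hL]; exact Multiset.mem_coe.2 h
  have hbound : ∀ χ ∈ A.nt, v χ * v χ ≤ (c : ℤ) := fun χ hχ => by
    have h := hcol.sq_le_of_subset (T := {χ})
      (by rw [Finset.mem_singleton]; exact fun e => A.ne_triv hχ e.symm)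
    rw [Finset.sum_singleton] at h
    linarith
  rw [List.mem_filter]
  refine ⟨?_, ?_⟩
  · rw [List.map_map]
    refine Search.mem_search (forall₂_map fun χ hχ => ?_) ?_
    · have hχn := A.mem_nt.2 (Or.inl (hX χ hχ))
      simp only [Function.comp_apply]
      rw [A.sd_natAbs (Or.inl (hX χ hχ))]
      exact Search.mem_cand (by norm_num) (by exact_mod_cast hcol.four χ)
        (hcol.lt χ (A.ne_triv hχn)) (hbound χ hχn) (hcol.dvd χ)
    · rw [Search.wsum, List.zipWith_map, List.zipWith_self,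
        List.map_congr_left (g := fun χ => v χ * v χ) fun χ _ => by simp,
        ← Multiset.sum_coe, ← Multiset.map_coe, hL]
      have := hcol.sq_le_of_subset A.triv_X
      simp only [Finset.sum] at this ⊢
      linarith
  · rw [Bool.and_eq_true, Bool.and_eq_true, decide_eq_true_eq]
    refine ⟨⟨A.excVal_ok hG hp hn hcol hL fun χ _ => by exact_mod_cast hcol.four χ, ?_⟩, ?_⟩
    · have h := hcol.sq_le_of_subset A.triv_nt
      rw [← sqSum_eq hcol hpairs] at h
      exact h
    · obtain ⟨k, hk, hq⟩ := A.quad hG hS hM hp hC hn hcol hL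
      have hk0 : k = 0 := by
        rcases hk with h | ⟨-, h⟩
        · exact h
        · exact absurd h (by decide)
      subst hk0
      simp only [Search.okQuad, List.isEmpty_cons, Bool.false_or, List.any_cons, List.any_nil,
        Bool.or_false, decide_eq_true_eq]
      exact hq

/-- The column on a further principal block is among the candidates. -/
theorem Bl.mem_bCols [Fact (Nat.Prime 11)] {P₁ : Sylow 11 G} {M₁ : Ideal Cfsg.AlgInt}
    (A : Bl P₁ M₁ 5) (B : Bl P M e) [IsSimpleGroup G] (hG : Nat.card G = 443520)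
    (hp : p ∈ [5, 7, 11]) (hS : BlockThms.OrderP.Setup P e)
    (h11 : ∀ χ ∈ A.nt, ¬ 11 ∣ dg χ) (hsub : ∀ χ ∈ B.nt, ¬ 11 ∣ dg χ → χ ∈ A.nt)
    {t : G} {c : ℕ} {v : Cfsg.IrrCharacter G → ℤ} (hcol : InvCol t c v)
    {LA : List (ℕ × ℤ)} (hLA : (LA : Multiset (ℕ × ℤ)) = A.nt.val.map fun χ => (dg χ, v χ))
    {step : ℕ} (hs : 0 < step) (hstep : ∀ χ ∈ B.nt, ((dg χ : ℤ) - v χ) % (step : ℤ) = 0)
    {L : List (Cfsg.IrrCharacter G)} (hL : (L : Multiset (Cfsg.IrrCharacter G)) = B.X.val)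
    {ks : List ℕ} (hks : Search.okQuad ks c (L.map B.sd) (L.map v) = true) :
    ∃ LB ∈ Search.bCols c p e step ks (L.map B.sd) LA,
      (LB : Multiset (ℕ × ℤ)) = B.nt.val.map fun χ => (dg χ, v χ) := by
  classical
  have hp2 : 2 < p := by
    simp only [List.mem_cons, List.not_mem_nil, or_false] at hp; omega
  have hn := B.nexc_pos hp hS
  have hpairs := B.pairs_eq hL (hcol.regular hp2) hcol.val
  refine ⟨_, List.mem_map.2 ⟨L.map v, ?_, rfl⟩, hpairs⟩
  have hX : ∀ χ ∈ L, χ ∈ B.X := fun χ h => by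
    rw [← Finset.mem_val, ← hL]; exact Multiset.mem_coe.2 h
  have hpre : ((Search.prime_to 11 (Search.pairsOf (Search.nexc p e) (L.map B.sd) (L.map v)) :
      List (ℕ × ℤ)) : Multiset (ℕ × ℤ)) =
      (B.nt.filter fun χ => ¬ 11 ∣ dg χ).val.map fun χ => (dg χ, v χ) := by
    rw [Search.prime_to, ← Multiset.filter_coe, hpairs, Multiset.filter_map]
    refine congrArg (Multiset.map _) (Multiset.filter_congr fun χ _ => ?_)
    simp [Nat.dvd_iff_mod_eq_zero]
  have hel : ((Search.elevens (Search.pairsOf (Search.nexc p e) (L.map B.sd) (L.map v)) :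
      List (ℕ × ℤ)) : Multiset (ℕ × ℤ)) =
      (B.nt.filter fun χ => 11 ∣ dg χ).val.map fun χ => (dg χ, v χ) := by
    rw [Search.elevens, ← Multiset.filter_coe, hpairs, Multiset.filter_map]
    refine congrArg (Multiset.map _) (Multiset.filter_congr fun χ _ => ?_)
    simp [Nat.dvd_iff_mod_eq_zero]
  have hdisj : Disjoint A.nt (B.nt.filter fun χ => 11 ∣ dg χ) := Finset.disjoint_left.2
    fun χ h h' => h11 χ h (Finset.mem_filter.1 h').2
  have htot : 1 + Search.sqSum LA + ∑ χ ∈ B.nt.filter (fun χ => 11 ∣ dg χ), v χ * v χ ≤ (c : ℤ) := by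
    have h := hcol.sq_le_of_subset (T := A.nt ∪ B.nt.filter fun χ => 11 ∣ dg χ)
      (by
        rw [Finset.mem_union, Finset.mem_filter]
        exact fun h => h.elim A.triv_nt fun h => B.triv_nt h.1)
    rw [Finset.sum_union hdisj, ← sqSum_eq hcol hLA] at h
    linarith
  rw [List.mem_filter]
  refine ⟨?_, ?_⟩
  · rw [Search.bLists, List.map_map]
    refine Search.mem_search (forall₂_map fun χ hχ => ?_) ?_
    · have hχn := B.mem_nt.2 (Or.inl (hX χ hχ))
      simp only [Function.comp_apply]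
      rw [B.sd_natAbs (Or.inl (hX χ hχ))]
      split_ifs with h
      · refine Search.mem_cand hs (hstep χ hχn) (hcol.lt χ (B.ne_triv hχn)) ?_ (hcol.dvd χ)
        have h0 : 0 ≤ Search.sqSum LA := by
          rw [sqSum_eq hcol hLA]; exact Finset.sum_nonneg fun _ _ => mul_self_nonneg _
        have := Finset.single_le_sum (f := fun χ => v χ * v χ) (fun _ _ => mul_self_nonneg _)
          (Finset.mem_filter.2 ⟨hχn, Nat.dvd_of_mod_eq_zero h⟩ :
            χ ∈ B.nt.filter fun χ => 11 ∣ dg χ)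
        linarith
      · simp only [List.mem_eraseDups, List.mem_filter, List.mem_map, Bool.and_eq_true,
          decide_eq_true_eq]
        refine ⟨⟨(dg χ, v χ), ⟨?_, rfl⟩, rfl⟩, hstep χ hχn, ?_⟩
        · rw [← Multiset.mem_coe, hLA]
          exact Multiset.mem_map.2 ⟨χ, hsub χ hχn fun hd => h (Nat.mod_eq_zero_of_dvd hd), rfl⟩
        · have := hcol.lt χ (B.ne_triv hχn)
          intro e
          rw [e] at this
          simp at this
    · rw [Search.wsum, List.zipWith_map, List.zipWith_self,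
        List.map_congr_left (g := fun χ => if 11 ∣ dg χ then v χ * v χ else 0) fun χ hχ => by
          simp only [Function.comp_apply, B.sd_natAbs (Or.inl (hX χ hχ))]
          by_cases h : 11 ∣ dg χ
          · simp [h, Nat.mod_eq_zero_of_dvd h]
          · simp [h, Nat.dvd_iff_mod_eq_zero.not.1 h],
        ← Multiset.sum_coe, ← Multiset.map_coe, hL]
      have h1 : (B.X.val.map fun χ => if 11 ∣ dg χ then v χ * v χ else 0).sum ≤
          ∑ χ ∈ B.nt.filter (fun χ => 11 ∣ dg χ), v χ * v χ := by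
        rw [Finset.sum_filter]
        exact Finset.sum_le_sum_of_subset_of_nonneg
          (fun χ hχ => B.mem_nt.2 (Or.inl hχ)) fun χ _ _ => by
            split_ifs
            · exact mul_self_nonneg _
            · exact le_rfl
      linarith
  · simp only [Bool.and_eq_true, decide_eq_true_eq]
    refine ⟨⟨⟨B.excVal_ok hG hp2 hn hcol hL hstep, ?_⟩, ?_⟩, hks⟩
    · refine Search.msub_of_le ?_
      rw [hpre, hLA]
      refine Multiset.map_le_map (Finset.val_le_iff.2 fun χ hχ => ?_)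
      exact hsub χ (Finset.mem_filter.1 hχ).1 (Finset.mem_filter.1 hχ).2
    · rw [sqSum_eq hcol hel]
      exact htot

end Cfsg.Agent.M22Order
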