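import Cfsg.Agent.M22Order.Cols

/-!
# Numerical facts for the Sylow subgroups of order 7 and 5
-/

set_option autoImplicit false

namespace Cfsg.Agent.M22Order

theorem counts_seven : ∀ a ∈ Nat.divisors 128, ∀ b ∈ Nat.divisors 495, a * b % 7 = 1 →
    55 ∣ a * b → a * b ∈ [330, 2640, 21120] := by
  decide +kernel

theorem counts_five : ∀ a ∈ Nat.divisors 128, ∀ b ∈ Nat.divisors 693, a * b % 5 = 1 →
    77 ∣ a * b → a * b ∈ [231, 616, 1386, 3696, 9856, 22176] := by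
  decide +kernel

theorem cents_seven_spec : ∀ a ∈ Nat.divisors 128, ∀ b ∈ Nat.divisors 3465,
    a * b % 11 ≠ 0 → a * b < 443520 → a * b % 7 = 0 → a % 8 = 0 →
    ∀ q ∈ [(1344, 64), (168, 8)], ∀ m ∈ Nat.divisors (q : ℕ × ℕ).1,
    7 ∣ m → q.2 ∣ m → m ∣ a * b → a * b / m % 7 = 1 → a * b ∈ Search.cents7 := by
  decide +kernel

theorem cents_five_spec : ∀ a ∈ Nat.divisors 128, ∀ b ∈ Nat.divisors 3465,
    a * b % 11 ≠ 0 → a * b < 443520 → a * b % 5 = 0 → a % 4 = 0 →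
    ∀ q ∈ [(1920, 128), (720, 16), (320, 64), (120, 8), (20, 4)],
    ∀ m ∈ Nat.divisors (q : ℕ × ℕ).1,
    5 ∣ m → q.2 ∣ m → m ∣ a * b → a * b / m % 5 = 1 → a * b ∈ Search.cents5 := by
  decide +kernel

theorem cents_zero_spec : ∀ a ∈ Nat.divisors 128, ∀ b ∈ Nat.divisors 3465,
    128 ∣ a * b → a * b % 11 ≠ 0 → a * b < 443520 → a * b ∈ Search.cents0 := by
  decide +kernel

end Cfsg.Agent.M22Order
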