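import Cfsg.Agent.M22Order.Eleven
import Cfsg.Agent.M22Order.Counts

/-!
# The blocks at 11, 7 and 5 of a simple group of order 443520
-/

set_option autoImplicit false
set_option linter.unusedSectionVars false

namespace Cfsg.Agent.M22Order

open Cfsg.Agent Cfsg.Agent.Blocks

theorem two_part {k m : ℕ} (hm : ¬ 2 ∣ m) : (2 ^ k * m).factorization 2 = k := by
  have hm0 : m ≠ 0 := fun h => hm (h ▸ dvd_zero _)
  rw [Nat.factorization_mul (pow_ne_zero _ two_ne_zero) hm0, Finsupp.add_apply,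
    Nat.Prime.factorization_pow Nat.prime_two, Finsupp.single_eq_same,
    Nat.factorization_eq_zero_of_not_dvd hm, add_zero]

universe u

local instance fact_five : Fact (Nat.Prime 5) := ⟨by norm_num⟩
local instance fact_seven : Fact (Nat.Prime 7) := ⟨by norm_num⟩
local instance fact_eleven : Fact (Nat.Prime 11) := ⟨by norm_num⟩

variable {G : Type u} [Group G] [Fintype G]

/-- The principal block at eleven. -/
structure Ctx (G : Type u) [Group G] [Fintype G] where
  P : Sylow 11 G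
  M : Ideal Cfsg.AlgInt
  hM : Cfsg.IsPModular 11 M
  hS : BlockThms.OrderP.Setup P 5
  hC : Subgroup.centralizer (P : Set G) = (P : Subgroup G)
  A : Bl P M 5
  L : List (Cfsg.IrrCharacter G)
  hL : (L : Multiset (Cfsg.IrrCharacter G)) = A.X.val
  hDA : L.map A.sd ∈ Search.blocks11_5
  not_dvd : ∀ χ ∈ A.nt, ¬ 11 ∣ dg χ
  dvd_out : ∀ χ, χ ≠ triv G → χ ∉ A.nt → 11 ∣ dg χ
  mod11 : ∀ χ, χ ≠ triv G → dg χ % 11 ∈ [0, 1, 10, 5, 6]

/-- The signed degrees at eleven. -/
noncomputable def Ctx.DA (K : Ctx G) : List ℤ := K.L.map K.A.sd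

theorem Ctx.degsA (K : Ctx G) :
    ((Search.degsOf 2 K.DA : List ℕ) : Multiset ℕ) = K.A.nt.val.map dg :=
  K.A.degs_eq (D := K.DA) (by rw [Ctx.DA, ← Multiset.map_coe, K.hL])

/-- The principal block at a further prime, related to the one at eleven. -/
structure Data (K : Ctx G) {p : ℕ} [Fact p.Prime] (Q : Sylow p G) (e : ℕ) where
  M : Ideal Cfsg.AlgInt
  hM : Cfsg.IsPModular p M
  hS : BlockThms.OrderP.Setup Q e
  B : Bl Q M e
  L : List (Cfsg.IrrCharacter G)
  hL : (L : Multiset (Cfsg.IrrCharacter G)) = B.X.val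
  hD : L.map B.sd ∈ Search.blockList p e
  not_dvd : ∀ χ ∈ B.nt, ¬ p ∣ dg χ

/-- The signed degrees at the further prime. -/
noncomputable def Data.DB {K : Ctx G} {p : ℕ} [Fact p.Prime] {Q : Sylow p G} {e : ℕ}
    (D : Data K Q e) : List ℤ := D.L.map D.B.sd

theorem Data.degs {K : Ctx G} {p : ℕ} [Fact p.Prime] {Q : Sylow p G} {e : ℕ} (D : Data K Q e) :
    ((Search.degsOf (Search.nexc p e) D.DB : List ℕ) : Multiset ℕ) = D.B.nt.val.map dg :=
  D.B.degs_eq (D := D.DB) (by rw [Data.DB, ← Multiset.map_coe, D.hL])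

theorem Data.sub {K : Ctx G} {p : ℕ} [Fact p.Prime] {Q : Sylow p G} {e : ℕ} (D : Data K Q e) :
    ∀ χ ∈ D.B.nt, ¬ 11 ∣ dg χ → χ ∈ K.A.nt := fun χ hχ h => by
  by_contra hA
  exact h (K.dvd_out χ (D.B.ne_triv hχ) hA)

theorem filter_degs {l : List ℕ} {S : Finset (Cfsg.IrrCharacter G)}
    (h : (l : Multiset ℕ) = S.val.map dg) (p : ℕ) :
    ((l.filter fun d => decide (d % p ≠ 0) : List ℕ) : Multiset ℕ) =
      (S.filter fun χ => ¬ p ∣ dg χ).val.map dg := by
  rw [← Multiset.filter_coe, h, Multiset.filter_map]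
  refine congrArg (Multiset.map _) (Multiset.filter_congr fun χ _ => ?_)
  simp [Nat.dvd_iff_mod_eq_zero]

theorem Data.fit {K : Ctx G} {p : ℕ} [Fact p.Prime] {Q : Sylow p G} {e : ℕ} (D : Data K Q e) :
    Search.fitDeg K.DA p e D.DB = true := by
  classical
  refine Search.msub_of_le ?_
  rw [filter_degs D.degs 11, K.degsA]
  exact Multiset.map_le_map (Finset.val_le_iff.2 fun χ hχ =>
    D.sub χ (Finset.mem_filter.1 hχ).1 (Finset.mem_filter.1 hχ).2)

variable [IsSimpleGroup G]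

/-- Outside the principal block of a self-centralising Sylow subgroup the degree is divisible. -/
theorem Data.mem_of_not_dvd {K : Ctx G} {p : ℕ} [Fact p.Prime] {Q : Sylow p G} {e : ℕ}
    (D : Data K Q e) (hC : Subgroup.centralizer (Q : Set G) = (Q : Subgroup G))
    {χ : Cfsg.IrrCharacter G} (hne : χ ≠ triv G) (h : ¬ p ∣ dg χ) : χ ∈ D.B.nt := by
  by_contra hχ
  refine h (S4429.dvd_outside D.hS (by rw [hC, D.hS.card]) D.hM fun hm => hχ ?_)
  exact D.B.mem_nt.2 (((D.B.mem χ).1 hm).resolve_left hne)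

theorem Data.filter_eq {K : Ctx G} {p : ℕ} [Fact p.Prime] {Q : Sylow p G} {e : ℕ} (D : Data K Q e)
    (hC : Subgroup.centralizer (Q : Set G) = (Q : Subgroup G)) :
    K.A.nt.filter (fun χ => ¬ p ∣ dg χ) = D.B.nt.filter fun χ => ¬ 11 ∣ dg χ := by
  ext χ
  simp only [Finset.mem_filter]
  exact ⟨fun h => ⟨D.mem_of_not_dvd hC (K.A.ne_triv h.1) h.2, K.not_dvd χ h.1⟩,
    fun h => ⟨D.sub χ h.1 h.2, D.not_dvd χ h.1⟩⟩

theorem Data.eqDeg {K : Ctx G} {p : ℕ} [Fact p.Prime] {Q : Sylow p G} {e : ℕ} (D : Data K Q e)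
    (hC : Subgroup.centralizer (Q : Set G) = (Q : Subgroup G)) :
    Search.eqDeg K.DA p e D.DB = true := by
  classical
  refine Search.meq_of_eq ?_
  rw [filter_degs D.degs 11, filter_degs K.degsA p, D.filter_eq hC]

variable (hG : Nat.card G = 443520)
include hG

/-- No element of order eleven commutes with an element of another prime order. -/
theorem no_eleven {q : ℕ} [Fact q.Prime] (hq : q ≠ 11) {y : G} (hy : orderOf y = q) :
    ¬ 11 ∣ Nat.card (Subgroup.centralizer ({y} : Set G)) := by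
  intro h
  obtain ⟨x, hx⟩ := exists_prime_orderOf_dvd_card' 11 h
  have hxy : Commute (x : G) y := Subgroup.mem_centralizer_singleton_iff.1 x.2
  obtain ⟨P, -, hyP⟩ := exists_mem_centralizer hG (by norm_num)
    (show orderOf (x : G) = 11 by rw [Subgroup.orderOf_coe, hx]) hxy
  rw [(eleven hG P).2] at hyP
  have h1 := Subgroup.orderOf_dvd_natCard _ hyP
  rw [card_sylow hG (by norm_num) P, hy] at h1
  exact hq ((Nat.prime_dvd_prime_iff_eq Fact.out Fact.out).1 h1)

theorem exists_ctx : Nonempty (Ctx G) := by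
  classical
  obtain ⟨P⟩ : Nonempty (Sylow 11 G) := inferInstance
  obtain ⟨hS, hC⟩ := eleven hG P
  obtain ⟨M, hM⟩ := Blocks.exists_isPModular 11 (Fact.out : Nat.Prime 11)
  obtain ⟨A⟩ := exists_bl hG (by norm_num) hS (by norm_num) hM
  have hnd : ∀ χ ∈ A.nt, ¬ 11 ∣ dg χ := fun χ hχ => A.not_dvd hG hS hM hχ
  have h11 : ∀ χ ∈ A.nt, dg χ % 11 ∈ [0, 1, 10, 5, 6] := by
    intro χ hχ
    simp only [List.mem_cons, List.not_mem_nil, or_false]
    rcases A.mem_nt.1 hχ with h | h
    · have h1 := A.congX χ h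
      rcases A.pm χ (Or.inl h) with h' | h' <;> rw [h'] at h1 <;> omega
    · have h1 := A.congY χ h
      rcases A.pm χ (Or.inr h) with h' | h' <;> rw [h'] at h1 <;> omega
  have hout : ∀ χ, χ ≠ triv G → χ ∉ A.nt → 11 ∣ dg χ := fun χ h1 h2 =>
    S4429.dvd_outside hS (by rw [hC, hS.card]) hM fun h =>
      h2 (A.mem_nt.2 (((A.mem χ).1 h).resolve_left h1))
  obtain ⟨L, hL, hD⟩ := A.exists_list hG (by norm_num) hS hM (by norm_num [Search.nexc]) h11
  rw [Search.blockList_eleven] at hD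
  exact ⟨{
    P := P, M := M, hM := hM, hS := hS, hC := hC, A := A, L := L, hL := hL, hDA := hD
    not_dvd := hnd, dvd_out := hout
    mod11 := fun χ hne => by
      by_cases h : χ ∈ A.nt
      · exact h11 χ h
      · rw [Nat.mod_eq_zero_of_dvd (hout χ hne h)]; exact List.mem_cons_self .. }⟩

theorem exists_data (K : Ctx G) {p : ℕ} [Fact p.Prime] (hp : p ∈ [5, 7, 11]) {Q : Sylow p G}
    {e : ℕ} (hS : BlockThms.OrderP.Setup Q e) (he : 2 ≤ e) : Nonempty (Data K Q e) := by
  obtain ⟨M, hM⟩ := Blocks.exists_isPModular p (Fact.out : p.Prime)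
  obtain ⟨B⟩ := exists_bl hG hp hS he hM
  obtain ⟨L, hL, hD⟩ := B.exists_list hG hp hS hM (B.nexc_pos hp hS)
    fun χ hχ => K.mod11 χ (B.ne_triv hχ)
  exact ⟨⟨M, hM, hS, B, L, hL, hD, fun χ hχ => B.not_dvd hG hS hM hχ⟩⟩

/-- An involution with centralizer order in a list gives a column at eleven. -/
theorem Ctx.hasCol (K : Ctx G) {cs : List ℕ} {t : G} (ht : orderOf t = 2)
    (hc : Nat.card (Subgroup.centralizer ({t} : Set G)) ∈ cs) :
    Search.hasCol cs K.DA = true := by
  obtain ⟨v, hcol⟩ := exists_col hG ht rfl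
  obtain ⟨LA, hLA, -⟩ := K.A.mem_aCols hG K.hS K.hM K.hC hcol K.hL
  simp only [Search.hasCol, List.any_eq_true, Bool.not_eq_true', List.isEmpty_eq_false_iff]
  exact ⟨_, hc, List.ne_nil_of_mem hLA⟩

theorem card_centralizer_split (y : G) : ∃ a ∈ Nat.divisors 128, ∃ b ∈ Nat.divisors 3465,
    Nat.card (Subgroup.centralizer ({y} : Set G)) = a * b := by
  have h : Nat.card (Subgroup.centralizer ({y} : Set G)) ∣ 128 * 3465 := by
    rw [show 128 * 3465 = Nat.card G by rw [hG]]
    exact Subgroup.card_subgroup_dvd_card _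
  obtain ⟨a, b, ha, hb, hab⟩ := Nat.dvd_mul.1 h
  exact ⟨a, Nat.mem_divisors.2 ⟨ha, by norm_num⟩, b, Nat.mem_divisors.2 ⟨hb, by norm_num⟩, hab.symm⟩

/-- An involution central in a Sylow 2-subgroup. -/
theorem exists_two_central : ∃ w : G, orderOf w = 2 ∧
    Nat.card (Subgroup.centralizer ({w} : Set G)) ∈ Search.cents0 := by
  have : Fact (Nat.Prime 2) := ⟨Nat.prime_two⟩
  obtain ⟨T⟩ : Nonempty (Sylow 2 G) := inferInstance
  obtain ⟨w, -, hw, hle⟩ :=
    SmallOrder.exists_central_involution_sylow (by rw [hG]; norm_num) T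
  refine ⟨w, hw, ?_⟩
  have h128 : 128 ∣ Nat.card (Subgroup.centralizer ({w} : Set G)) := by
    have hT : Nat.card (T : Subgroup G) = 2 ^ 7 :=
      SmallOrder.card_sylow_eq_pow (hG.trans (by norm_num : 443520 = 2 ^ 7 * 3465)) (by norm_num) T
    exact (show 128 = Nat.card (T : Subgroup G) by rw [hT]; norm_num) ▸ Subgroup.card_dvd_of_le hle
  have h11 := no_eleven hG (show (2 : ℕ) ≠ 11 by norm_num) hw
  have hlt := card_centralizer_lt hG (g := w) (fun h => by rw [h, orderOf_one] at hw; omega)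
  obtain ⟨a, ha, b, hb, hab⟩ := card_centralizer_split hG w
  rw [hab] at h128 h11 hlt ⊢
  exact cents_zero_spec a ha b hb h128 (fun h => h11 (Nat.dvd_of_mod_eq_zero h)) hlt

theorem eq_zero_of_dvd_degree {q : ℕ} [Fact q.Prime] (hq : q ∈ [5, 7, 11]) {y : G}
    (hy : orderOf y = q) {χ : Cfsg.IrrCharacter G} (hd : q ∣ dg χ) : (χ : G → ℂ) y = 0 := by
  obtain ⟨M, hM⟩ := Blocks.exists_isPModular q (Fact.out : q.Prime)
  refine BlockThms.eq_zero_of_not_dvd_codegree hM χ ?_ (fun h => h (by rw [hy]))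
  intro h
  have h2 : q * q ∣ 443520 := by
    rw [← Nat.mul_div_cancel' (dg_dvd hG χ)]
    exact mul_dvd_mul hd (by rwa [hG] at h)
  simp only [List.mem_cons, List.not_mem_nil, or_false] at hq
  rcases hq with rfl | rfl | rfl <;> norm_num at h2

/-- A block member does not vanish at an element centralising the Sylow subgroup. -/
theorem Data.not_dvd_other {K : Ctx G} {p q : ℕ} [Fact p.Prime] [Fact q.Prime] {Q : Sylow p G}
    {e : ℕ} (D : Data K Q e) (hq : q ∈ [5, 7, 11]) (hpq : p ≠ q) {y : G} (hy : orderOf y = q)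
    (hyC : y ∈ Subgroup.centralizer (Q : Set G)) : ∀ χ ∈ D.B.nt, ¬ q ∣ dg χ := by
  intro χ hχ hd
  have h := D.B.cong χ (D.B.mem_nt.1 hχ) y hyC
    (by rw [hy]; exact fun h => hpq ((Nat.prime_dvd_prime_iff_eq Fact.out Fact.out).1 h))
  rw [eq_zero_of_dvd_degree hG hq hy hd, show (0 : ℂ) - (dg χ : ℂ) = ((-(dg χ : ℤ) : ℤ) : ℂ) by
    push_cast; ring, Blocks.memLocalIdeal_intCast_iff D.hM, dvd_neg, Int.natCast_dvd_natCast] at h
  exact D.not_dvd χ hχ h

theorem five_e {Q : Sylow 5 G} {e : ℕ} (hS : BlockThms.OrderP.Setup Q e) (he : 2 ≤ e) :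
    e = 2 ∨ e = 4 := by
  have h := hS.exists_y.1
  have : e ≤ 4 := Nat.le_of_dvd (by norm_num) h
  interval_cases e <;> omega

theorem seven_e {Q : Sylow 7 G} {e : ℕ} (hS : BlockThms.OrderP.Setup Q e) (he : 2 ≤ e) :
    e = 3 ∨ e = 6 := by
  have h := hS.exists_y.1
  have : e ≤ 6 := Nat.le_of_dvd (by norm_num) h
  have h3 : e = 2 ∨ e = 3 ∨ e = 6 := by interval_cases e <;> omega
  refine h3.resolve_left fun h2 => ?_
  obtain ⟨K⟩ := exists_ctx hG
  obtain ⟨D⟩ := exists_data hG K (by norm_num) hS he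
  subst h2
  have hD := D.hD
  rw [Search.blockList_seven_two] at hD
  have hall := Search.no_seven_two
  simp only [List.all_eq_true, Bool.not_eq_true'] at hall
  have hk := hall _ K.hDA _ hD
  exact Bool.false_ne_true (hk.symm.trans D.fit)

theorem fives_fit (K : Ctx G) {Q : Sylow 5 G} {e : ℕ} (D : Data K Q e) (he : 2 ≤ e) :
    ∃ q ∈ Search.fives, q.1 = e ∧ D.DB ∈ q.2 := by
  rcases five_e hG D.hS he with rfl | rfl
  · exact ⟨_, List.mem_cons_self .., rfl, by
      have h := D.hD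
      rw [Search.blockList_five_two] at h
      exact h⟩
  · exact ⟨_, List.mem_cons_of_mem _ (List.mem_cons_self ..), rfl, by
      have h := D.hD
      rw [Search.blockList_five_four] at h
      exact h⟩

theorem sevens_fit (K : Ctx G) {Q : Sylow 7 G} {e : ℕ} (D : Data K Q e) (he : 2 ≤ e) :
    ∃ q ∈ Search.sevens, q.1 = e ∧ D.DB ∈ q.2 := by
  rcases seven_e hG D.hS he with rfl | rfl
  · exact ⟨_, List.mem_cons_self .., rfl, by
      have h := D.hD
      rw [Search.blockList_seven_three] at h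
      exact h⟩
  · exact ⟨_, List.mem_cons_of_mem _ (List.mem_cons_self ..), rfl, by
      have h := D.hD
      rw [Search.blockList_seven_six] at h
      exact h⟩

/-- There is no element of order 35. -/
theorem not_commute_five_seven {x y : G} (hx : orderOf x = 5) (hy : orderOf y = 7) :
    ¬ Commute x y := by
  classical
  intro hxy
  obtain ⟨K⟩ := exists_ctx hG
  obtain ⟨Q5, -, hy5⟩ := exists_mem_centralizer hG (by norm_num) hx hxy
  obtain ⟨Q7, -, hx7⟩ := exists_mem_centralizer hG (by norm_num) hy hxy.symm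
  obtain ⟨e5, V5, hS5, he5, -⟩ := local_data hG (by norm_num) Q5
  obtain ⟨e7, V7, hS7, he7, -⟩ := local_data hG (by norm_num) Q7
  obtain ⟨D5⟩ := exists_data hG K (by norm_num) hS5 he5
  obtain ⟨D7⟩ := exists_data hG K (by norm_num) hS7 he7
  obtain ⟨w, hw, hwc⟩ := exists_two_central hG
  obtain ⟨q5, hq5, rfl, hB5⟩ := fives_fit hG K D5 he5
  obtain ⟨q7, hq7, rfl, hB7⟩ := sevens_fit hG K D7 he7
  have h5 : ∀ d ∈ Search.degsOf (Search.nexc 5 q5.1) D5.DB, decide (d % 7 ≠ 0) = true := fun d hd => by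
    rw [← Multiset.mem_coe, D5.degs] at hd
    obtain ⟨χ, hχ, rfl⟩ := Multiset.mem_map.1 hd
    simpa [Nat.dvd_iff_mod_eq_zero] using
      D5.not_dvd_other hG (q := 7) (by norm_num) (by norm_num) hy hy5 χ hχ
  have h7 : ∀ d ∈ Search.degsOf (Search.nexc 7 q7.1) D7.DB, decide (d % 5 ≠ 0) = true := fun d hd => by
    rw [← Multiset.mem_coe, D7.degs] at hd
    obtain ⟨χ, hχ, rfl⟩ := Multiset.mem_map.1 hd
    simpa [Nat.dvd_iff_mod_eq_zero] using
      D7.not_dvd_other hG (q := 5) (by norm_num) (by norm_num) hx hx7 χ hχ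
  have hk := List.all_eq_true.1 Search.no_thirty_five _ K.hDA
  rw [Bool.not_eq_true', ← Ctx.DA, K.hasCol hG hw hwc] at hk
  simp only [Bool.and_true, ← Bool.not_eq_true, List.any_eq_true,
    Bool.and_eq_true, List.all_eq_true] at hk
  exact hk ⟨⟨q5, hq5, D5.DB, hB5, D5.fit, h5⟩, ⟨q7, hq7, D7.DB, hB7, D7.fit, h7⟩⟩

theorem not_dvd_cofactor {p q : ℕ} [Fact p.Prime] [Fact q.Prime] {P : Sylow p G} {e V : ℕ}
    (hS : BlockThms.OrderP.Setup P e)
    (hV : Nat.card (Subgroup.centralizer (P : Set G)) = p * V)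
    (h : ∀ x y : G, orderOf x = p → orderOf y = q → ¬ Commute x y) : ¬ q ∣ V := by
  intro hq
  obtain ⟨y, hy⟩ := exists_prime_orderOf_dvd_card' q
    (show q ∣ Nat.card (Subgroup.centralizer (P : Set G)) by rw [hV]; exact hq.mul_left p)
  obtain ⟨x, hx, -, hxo⟩ := hS.exists_gen
  exact h x y hxo (by rw [Subgroup.orderOf_coe, hy]) (Subgroup.mem_centralizer_iff.1 y.2 x hx)

theorem not_commute_eleven {p : ℕ} [Fact p.Prime] (hp : p ≠ 11) {x y : G} (hx : orderOf x = p)
    (hy : orderOf y = 11) : ¬ Commute x y := fun h =>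
  no_eleven hG hp hx (hy ▸ Subgroup.orderOf_dvd_natCard _
    (Subgroup.mem_centralizer_singleton_iff.2 h.symm.eq))

/-- An involution commuting with an element of order seven, or a self-centralising Sylow subgroup. -/
theorem seven_alt (Q : Sylow 7 G) :
    (∃ t : G, orderOf t = 2 ∧ t ∈ Subgroup.centralizer (Q : Set G) ∧
      Nat.card (Subgroup.centralizer ({t} : Set G)) ∈ Search.cents7) ∨
    (BlockThms.OrderP.Setup Q 3 ∧ Subgroup.centralizer (Q : Set G) = (Q : Subgroup G)) := by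
  obtain ⟨e, V, hS, he, -, hV, hnum, hmod, -⟩ := local_data hG (by norm_num) Q
  have he' := seven_e hG hS he
  have h11 := not_dvd_cofactor hG hS hV (q := 11) fun x y hx hy =>
    not_commute_eleven hG (by norm_num) hx hy
  have h5 := not_dvd_cofactor hG hS hV (q := 5) fun x y hx hy h =>
    not_commute_five_seven hG hy hx h.symm
  obtain ⟨n, hn⟩ : ∃ n, n = Nat.card (Sylow 7 G) := ⟨_, rfl⟩
  rw [← hn] at hnum hmod
  have heq : n * (e * V) = 63360 := by
    rw [← Nat.mul_left_inj (show (7 : ℕ) ≠ 0 by norm_num)]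
    calc n * (e * V) * 7 = n * (7 * (e * V)) := by ring
      _ = _ := by rw [hnum]
  have hprime : ∀ q : ℕ, q.Prime → q ∣ 63360 → ¬ q ∣ V → ¬ q ∣ e → q ∣ n := by
    intro q hq hd hqV hqe
    rw [← heq] at hd
    exact (hq.dvd_mul.1 hd).resolve_right fun h => (hq.dvd_mul.1 h).elim hqe hqV
  have h55 : 55 ∣ n := Nat.Coprime.mul_dvd_of_dvd_of_dvd (by norm_num : Nat.Coprime 5 11)
    (hprime 5 (by norm_num) (by norm_num) h5 (by rcases he' with rfl | rfl <;> norm_num))
    (hprime 11 (by norm_num) (by norm_num) h11 (by rcases he' with rfl | rfl <;> norm_num))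
  have hdn : n ∣ 128 * 495 := ⟨e * V, by rw [heq]⟩
  obtain ⟨a, b, ha, hb, hab⟩ := Nat.dvd_mul.1 hdn
  have hcases := counts_seven a (Nat.mem_divisors.2 ⟨ha, by norm_num⟩) b
    (Nat.mem_divisors.2 ⟨hb, by norm_num⟩) (by rw [hab]; exact hmod) (hab ▸ h55)
  rw [hab] at hcases
  simp only [List.mem_cons, List.not_mem_nil, or_false] at hcases
  by_cases h2 : 2 ∣ V
  · obtain ⟨t, ht, htC, m, j, hc, hj, hm, hp7, hm2⟩ := exists_inv hG (by norm_num) hS hV h2
    refine Or.inl ⟨t, ht, htC, ?_⟩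
    obtain ⟨q, hq, hq1, hq2⟩ : ∃ q ∈ [(1344, 64), (168, 8)], (q : ℕ × ℕ).1 = 7 * (e * V) ∧
        q.2 = 2 ^ (7 * (e * V)).factorization 2 := by
      rcases hcases with rfl | rfl | rfl
      · refine ⟨(1344, 64), by simp, by omega, ?_⟩
        rw [show 7 * (e * V) = 2 ^ 6 * 21 by omega, two_part (by norm_num)]
        norm_num
      · refine ⟨(168, 8), by simp, by omega, ?_⟩
        rw [show 7 * (e * V) = 2 ^ 3 * 21 by omega, two_part (by norm_num)]
        norm_num
      · exfalso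
        rcases he' with rfl | rfl <;> omega
    have hno := no_eleven hG (show (2 : ℕ) ≠ 11 by norm_num) ht
    have hlt := card_centralizer_lt hG (g := t) (fun h => by rw [h, orderOf_one] at ht; omega)
    obtain ⟨a', ha', b', hb', hab'⟩ := card_centralizer_split hG t
    rw [hc] at hab'
    rw [hc, hab'] at hlt hno ⊢
    have hm0 : 0 < m := Nat.pos_of_ne_zero fun h => by
      rw [← hq1, h] at hm
      simp only [List.mem_cons, List.not_mem_nil, or_false] at hq
      rcases hq with rfl | rfl <;> simp at hm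
    refine cents_seven_spec a' ha' b' hb' (fun h => hno (Nat.dvd_of_mod_eq_zero h)) hlt
      (Nat.mod_eq_zero_of_dvd ?_) (Nat.mod_eq_zero_of_dvd ?_) q hq m
      (Nat.mem_divisors.2 ⟨hq1 ▸ hm, ?_⟩) hp7 (hq2 ▸ hm2) ⟨j, hab'.symm⟩ ?_
    · rw [← hab']; exact hp7.mul_right j
    · have h8 : 8 ∣ a' * b' := by
        rw [← hab']
        refine Dvd.dvd.mul_right (dvd_trans ?_ hm2) j
        rw [← hq2]
        simp only [List.mem_cons, List.not_mem_nil, or_false] at hq
        rcases hq with rfl | rfl <;> norm_num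
      refine (Nat.Coprime.coprime_dvd_right (Nat.dvd_of_mem_divisors hb') ?_).dvd_of_dvd_mul_right h8
      norm_num
    · simp only [List.mem_cons, List.not_mem_nil, or_false] at hq
      rcases hq with rfl | rfl <;> norm_num
    · rw [← hab', Nat.mul_div_cancel_left _ hm0]; exact hj
  · refine Or.inr ?_
    obtain ⟨rfl, rfl⟩ : e = 3 ∧ V = 1 := by
      rcases hcases with rfl | rfl | rfl <;> rcases he' with rfl | rfl <;> omega
    refine ⟨hS, (Subgroup.eq_of_le_of_card_ge hS.le_centralizer ?_).symm⟩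
    rw [hS.card, hV]

/-- An involution commuting with an element of order five, or a self-centralising Sylow subgroup. -/
theorem five_alt (Q : Sylow 5 G) :
    (∃ t : G, orderOf t = 2 ∧ t ∈ Subgroup.centralizer (Q : Set G) ∧
      Nat.card (Subgroup.centralizer ({t} : Set G)) ∈ Search.cents5) ∨
    (BlockThms.OrderP.Setup Q 4 ∧ Subgroup.centralizer (Q : Set G) = (Q : Subgroup G)) := by
  obtain ⟨e, V, hS, he, -, hV, hnum, hmod, -⟩ := local_data hG (by norm_num) Q
  have he' := five_e hG hS he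
  have h11 := not_dvd_cofactor hG hS hV (q := 11) fun x y hx hy =>
    not_commute_eleven hG (by norm_num) hx hy
  have h7 := not_dvd_cofactor hG hS hV (q := 7) fun x y hx hy h =>
    not_commute_five_seven hG hx hy h
  obtain ⟨n, hn⟩ : ∃ n, n = Nat.card (Sylow 5 G) := ⟨_, rfl⟩
  rw [← hn] at hnum hmod
  have heq : n * (e * V) = 88704 := by
    rw [← Nat.mul_left_inj (show (5 : ℕ) ≠ 0 by norm_num)]
    calc n * (e * V) * 5 = n * (5 * (e * V)) := by ring
      _ = _ := by rw [hnum]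
  have hprime : ∀ q : ℕ, q.Prime → q ∣ 88704 → ¬ q ∣ V → ¬ q ∣ e → q ∣ n := by
    intro q hq hd hqV hqe
    rw [← heq] at hd
    exact (hq.dvd_mul.1 hd).resolve_right fun h => (hq.dvd_mul.1 h).elim hqe hqV
  have h77 : 77 ∣ n := Nat.Coprime.mul_dvd_of_dvd_of_dvd (by norm_num : Nat.Coprime 7 11)
    (hprime 7 (by norm_num) (by norm_num) h7 (by rcases he' with rfl | rfl <;> norm_num))
    (hprime 11 (by norm_num) (by norm_num) h11 (by rcases he' with rfl | rfl <;> norm_num))
  have hdn : n ∣ 128 * 693 := ⟨e * V, by rw [heq]⟩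
  obtain ⟨a, b, ha, hb, hab⟩ := Nat.dvd_mul.1 hdn
  have hcases := counts_five a (Nat.mem_divisors.2 ⟨ha, by norm_num⟩) b
    (Nat.mem_divisors.2 ⟨hb, by norm_num⟩) (by rw [hab]; exact hmod) (hab ▸ h77)
  rw [hab] at hcases
  simp only [List.mem_cons, List.not_mem_nil, or_false] at hcases
  by_cases h2 : 2 ∣ V
  · obtain ⟨t, ht, htC, m, j, hc, hj, hm, hp5, hm2⟩ := exists_inv hG (by norm_num) hS hV h2
    refine Or.inl ⟨t, ht, htC, ?_⟩
    obtain ⟨q, hq, hq1, hq2⟩ :
        ∃ q ∈ [(1920, 128), (720, 16), (320, 64), (120, 8), (20, 4)],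
        (q : ℕ × ℕ).1 = 5 * (e * V) ∧ q.2 = 2 ^ (5 * (e * V)).factorization 2 := by
      rcases hcases with rfl | rfl | rfl | rfl | rfl | rfl
      · refine ⟨(1920, 128), by simp, by omega, ?_⟩
        rw [show 5 * (e * V) = 2 ^ 7 * 15 by omega, two_part (by norm_num)]
        norm_num
      · refine ⟨(720, 16), by simp, by omega, ?_⟩
        rw [show 5 * (e * V) = 2 ^ 4 * 45 by omega, two_part (by norm_num)]
        norm_num
      · refine ⟨(320, 64), by simp, by omega, ?_⟩
        rw [show 5 * (e * V) = 2 ^ 6 * 5 by omega, two_part (by norm_num)]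
        norm_num
      · refine ⟨(120, 8), by simp, by omega, ?_⟩
        rw [show 5 * (e * V) = 2 ^ 3 * 15 by omega, two_part (by norm_num)]
        norm_num
      · exfalso
        rcases he' with rfl | rfl <;> omega
      · refine ⟨(20, 4), by simp, by omega, ?_⟩
        rw [show 5 * (e * V) = 2 ^ 2 * 5 by omega, two_part (by norm_num)]
        norm_num
    have hno := no_eleven hG (show (2 : ℕ) ≠ 11 by norm_num) ht
    have hlt := card_centralizer_lt hG (g := t) (fun h => by rw [h, orderOf_one] at ht; omega)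
    obtain ⟨a', ha', b', hb', hab'⟩ := card_centralizer_split hG t
    rw [hc] at hab'
    rw [hc, hab'] at hlt hno ⊢
    have hm0 : 0 < m := Nat.pos_of_ne_zero fun h => by
      rw [← hq1, h] at hm
      simp only [List.mem_cons, List.not_mem_nil, or_false] at hq
      rcases hq with rfl | rfl | rfl | rfl | rfl <;> simp at hm
    refine cents_five_spec a' ha' b' hb' (fun h => hno (Nat.dvd_of_mod_eq_zero h)) hlt
      (Nat.mod_eq_zero_of_dvd ?_) (Nat.mod_eq_zero_of_dvd ?_) q hq m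
      (Nat.mem_divisors.2 ⟨hq1 ▸ hm, ?_⟩) hp5 (hq2 ▸ hm2) ⟨j, hab'.symm⟩ ?_
    · rw [← hab']; exact hp5.mul_right j
    · have h4 : 4 ∣ a' * b' := by
        rw [← hab']
        refine Dvd.dvd.mul_right (dvd_trans ?_ hm2) j
        rw [← hq2]
        simp only [List.mem_cons, List.not_mem_nil, or_false] at hq
        rcases hq with rfl | rfl | rfl | rfl | rfl <;> norm_num
      refine (Nat.Coprime.coprime_dvd_right (Nat.dvd_of_mem_divisors hb') ?_).dvd_of_dvd_mul_right h4
      norm_num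
    · simp only [List.mem_cons, List.not_mem_nil, or_false] at hq
      rcases hq with rfl | rfl | rfl | rfl | rfl <;> norm_num
    · rw [← hab', Nat.mul_div_cancel_left _ hm0]; exact hj
  · refine Or.inr ?_
    obtain ⟨rfl, rfl⟩ : e = 4 ∧ V = 1 := by
      rcases hcases with rfl | rfl | rfl | rfl | rfl | rfl <;> rcases he' with rfl | rfl <;> omega
    refine ⟨hS, (Subgroup.eq_of_le_of_card_ge hS.le_centralizer ?_).symm⟩
    rw [hS.card, hV]

end Cfsg.Agent.M22Order
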