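import Cfsg.Agent.SRGSeventySeven.Cocliques
import Cfsg.Agent.Leech.Unique.SteinerAut
import Cfsg.Prelude.Def_Spor_Mathieu

/-!
# The Steiner system of a graph with parameters `(77, 16, 0, 4)` and the isomorphism with `M₂₂`
-/

set_option autoImplicit false

namespace Cfsg.Agent.M22Order

open Cfsg Finset
open scoped Pointwise

universe u

variable {V : Type*} [Fintype V] [DecidableEq V] {Γ : SimpleGraph V} [DecidableRel Γ.Adj]

/-- The large cocliques through a vertex. -/
noncomputable def block (Γ : SimpleGraph V) [DecidableRel Γ.Adj] (v : V) :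
    Finset {S : Finset V // S ∈ SRGSeventySeven.bigCocliques Γ} :=
  univ.filter fun S => v ∈ S.1

theorem steiner_block (hG : Γ.IsSRGWith 77 16 0 4) :
    Fintype.card {S : Finset V // S ∈ SRGSeventySeven.bigCocliques Γ} = 22 ∧
      IsSteinerSystem 3 6 (Set.range (block Γ)) ∧ Function.Injective (block Γ) := by
  classical
  set Ω := SRGSeventySeven.bigCocliques Γ
  set b := block Γ with hb
  have hcount : ∀ (p : Finset V → Prop) [DecidablePred p],
      ((univ : Finset {S : Finset V // S ∈ Ω}).filter fun S => p S.1).card = (Ω.filter p).card := by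
    intro p _
    rw [← card_map (Function.Embedding.subtype _)]
    congr 1
    ext S
    simp only [mem_map, mem_filter, mem_univ, true_and, Function.Embedding.coe_subtype,
      Subtype.exists, exists_and_left, exists_prop]
    grind
  have h22 : Fintype.card {S : Finset V // S ∈ Ω} = 22 := by
    have h := sum_card_bipartiteAbove_eq_sum_card_bipartiteBelow
      (fun (v : V) (S : Finset V) => v ∈ S) (s := univ) (t := Ω)
    simp only [bipartiteAbove, bipartiteBelow] at h
    have e : ∑ S ∈ Ω, (univ.filter fun v => v ∈ S).card = ∑ _S ∈ Ω, 21 :=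
      sum_congr rfl fun S hS => by
        rw [filter_mem_eq_inter, univ_inter, (SRGSeventySeven.mem_big.1 hS).1]
    rw [sum_congr rfl fun v _ => SRGSeventySeven.big_through_one hG v, e,
      sum_const, sum_const, card_univ, hG.card, smul_eq_mul, smul_eq_mul] at h
    rw [Fintype.card_coe]
    omega
  have b6 : ∀ v, (b v).card = 6 := fun v =>
    (hcount (fun S => v ∈ S)).trans (SRGSeventySeven.big_through_one hG v)
  have bdis : ∀ v w, Γ.Adj v w → Disjoint (b v) (b w) := fun v w h => by
    rw [disjoint_left]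
    intro S hv hw
    simp only [hb, block, mem_filter, mem_univ, true_and] at hv hw
    exact (SRGSeventySeven.mem_big.1 S.2).2 v hv w hw h
  have b2 : ∀ v w, v ≠ w → ¬ Γ.Adj v w → (b v ∩ b w).card = 2 := fun v w hne h => by
    rw [hb, block, block, ← filter_and, hcount (fun S => v ∈ S ∧ w ∈ S)]
    exact SRGSeventySeven.big_through_two hG hne.symm h
  have binj : Function.Injective b := fun v w h => by
    by_contra hne
    by_cases ha : Γ.Adj v w
    · have := bdis v w ha
      rw [h, disjoint_self, bot_eq_empty, ← card_eq_zero, b6] at this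
      omega
    · have := b2 v w hne ha
      rw [h, inter_self, b6] at this
      omega
  have ble : ∀ v w, v ≠ w → (b v ∩ b w).card ≤ 2 := fun v w hne => by
    by_cases ha : Γ.Adj v w
    · rw [disjoint_iff_inter_eq_empty.1 (bdis v w ha), card_empty]
      exact Nat.zero_le _
    · exact (b2 v w hne ha).le
  refine ⟨h22, ⟨?_, ?_⟩, binj⟩
  · rintro _ ⟨v, rfl⟩
    exact b6 v
  · intro s hs
    have hall : (univ : Finset V).biUnion (fun v => (b v).powersetCard 3) = univ.powersetCard 3 := by
      refine eq_of_subset_of_card_le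
        (biUnion_subset.2 fun v _ => powersetCard_mono (subset_univ _)) ?_
      rw [card_biUnion, sum_congr rfl fun v _ => by rw [card_powersetCard, b6 v], sum_const,
        card_powersetCard, card_univ, card_univ, h22, hG.card]
      · decide
      · intro v _ w _ hne
        rw [Function.onFun, disjoint_left]
        intro t htv htw
        rw [mem_powersetCard] at htv htw
        have := card_le_card (subset_inter htv.1 htw.1)
        have := ble v w hne
        omega
    have hmem : s ∈ (univ : Finset {S : Finset V // S ∈ Ω}).powersetCard 3 :=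
      mem_powersetCard.2 ⟨subset_univ _, hs⟩
    rw [← hall, mem_biUnion] at hmem
    obtain ⟨v, -, hv⟩ := hmem
    rw [mem_powersetCard] at hv
    refine ⟨b v, ⟨⟨v, rfl⟩, hv.1⟩, ?_⟩
    rintro _ ⟨⟨w, rfl⟩, hw⟩
    by_contra hne
    have := card_le_card (subset_inter hw hv.1)
    have := ble w v (fun e => hne (by rw [e]))
    omega

/-- A simple group of order 443520 acting faithfully on a graph with parameters `(77, 16, 0, 4)` is
isomorphic to `M₂₂`. -/
theorem iso_of_graph {G : Type u} [Group G] [Finite G] [IsSimpleGroup G]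
    (hcard : Nat.card G = 443520) [MulAction G V] (hG : Γ.IsSRGWith 77 16 0 4)
    (hadj : ∀ (g : G) x y, Γ.Adj (g • x) (g • y) ↔ Γ.Adj x y)
    (hmove : ∃ (g : G) (v : V), g • v ≠ v) : Cfsg.Spor.IsoM22 G := by
  classical
  obtain ⟨h22, hB, binj⟩ := steiner_block hG
  let α := {S : Finset V // S ∈ SRGSeventySeven.bigCocliques Γ}
  have himg : ∀ (g : G) (S : α), S.1.image (g • ·) ∈ SRGSeventySeven.bigCocliques Γ := by
    intro g S
    obtain ⟨h1, h2⟩ := SRGSeventySeven.mem_big.1 S.2
    refine SRGSeventySeven.mem_big.2 ⟨by rw [card_image_of_injective _ (MulAction.injective g), h1], ?_⟩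
    intro a ha b hb
    rw [mem_image] at ha hb
    obtain ⟨a', ha', rfl⟩ := ha
    obtain ⟨b', hb', rfl⟩ := hb
    rw [hadj]
    exact h2 a' ha' b' hb'
  let f : G → α → α := fun g S => ⟨S.1.image (g • ·), himg g S⟩
  have fone : ∀ S, f 1 S = S := fun S => Subtype.ext (by simp [f])
  have fmul : ∀ g k S, f (g * k) S = f g (f k S) := fun g k S =>
    Subtype.ext (by simp [f, image_image, Function.comp_def, mul_smul])
  let ψ₀ : G → Equiv.Perm α := fun g =>
    ⟨f g, f g⁻¹, fun S => by rw [← fmul, inv_mul_cancel, fone],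
      fun S => by rw [← fmul, mul_inv_cancel, fone]⟩
  let ψ₁ : G →* Equiv.Perm α := MonoidHom.mk' ψ₀ fun g k => Equiv.ext fun S => fmul g k S
  have hblock : ∀ g v, ψ₁ g • block Γ v = block Γ (g • v) := by
    intro g v
    rw [Leech.Unique.smul_finset_perm]
    ext S
    simp only [block, mem_image, mem_filter, mem_univ, true_and]
    constructor
    · rintro ⟨T, hT, rfl⟩
      show g • v ∈ T.1.image (g • ·)
      exact mem_image_of_mem _ hT
    · intro h
      refine ⟨f g⁻¹ S, ?_, ?_⟩
      · show v ∈ S.1.image (g⁻¹ • ·)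
        exact mem_image.2 ⟨g • v, h, inv_smul_smul g v⟩
      · show f g (f g⁻¹ S) = S
        rw [← fmul, mul_inv_cancel, fone]
  have hmem : ∀ g, ψ₁ g ∈ setSystemAut (Set.range (block Γ)) := by
    intro g
    rw [MulAction.mem_stabilizer_iff]
    ext s
    constructor
    · rintro ⟨_, ⟨v, rfl⟩, rfl⟩
      exact ⟨g • v, (hblock g v).symm⟩
    · rintro ⟨v, rfl⟩
      refine ⟨block Γ (g⁻¹ • v), ⟨_, rfl⟩, ?_⟩
      show ψ₁ g • block Γ (g⁻¹ • v) = block Γ v
      rw [hblock, smul_inv_smul]
  have hBig : Leech.Unique.Big (Set.range (block Γ)) 2 := ⟨le_rfl, h22, hB⟩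
  obtain ⟨φ⟩ := Leech.Unique.aut_equiv hBig
  let ι : G →* Leech.Unique.Hst 2 := φ.symm.toMonoidHom.comp (ψ₁.codRestrict _ hmem)
  have hιinj : Function.Injective ι := by
    refine (MonoidHom.ker_eq_bot_iff ι).1
      ((Subgroup.Normal.eq_bot_or_eq_top inferInstance).resolve_right fun htop => ?_)
    obtain ⟨g, v, hgv⟩ := hmove
    refine hgv (binj ?_)
    have h1 : ι g = 1 := (htop ▸ Subgroup.mem_top g : g ∈ ι.ker)
    have h2 : ψ₁.codRestrict _ hmem g = 1 := φ.symm.map_eq_one_iff.1 h1
    have h3 : ψ₁ g = 1 := congrArg Subtype.val h2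
    rw [← hblock, h3, one_smul]
  obtain ⟨hA, -, -⟩ := Leech.Unique.m22_facts hBig
  have hHst : Nat.card (Leech.Unique.Hst 2) = 887040 := (Nat.card_congr φ.toEquiv).trans hA
  set P := MulAction.stabilizer M24 (none : GolayPt) ⊓ MulAction.stabilizer M24 (some 0 : GolayPt)
  have hP : P ≤ Leech.Unique.Hst 2 := fun σ hσ => Leech.Unique.mem_Hst.2 fun p hp => by
    rw [Leech.Unique.extraSet_two] at hp ⊢
    simp only [Finset.mem_insert, Finset.mem_singleton] at hp ⊢
    rcases hp with rfl | rfl
    · exact Or.inl hσ.1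
    · exact Or.inr hσ.2
  have hPc : Nat.card P = 443520 := S0378.result none (some 0) (by simp)
  set P' := P.subgroupOf (Leech.Unique.Hst 2)
  have hP'c : Nat.card P' = 443520 := by
    rw [Nat.card_congr (Subgroup.subgroupOfEquivOfLe hP).toEquiv, hPc]
  have hidx : P'.index = 2 := by
    have h := P'.card_mul_index
    rw [hP'c, hHst] at h
    omega
  have hn : P'.Normal := Subgroup.normal_of_index_eq_two hidx
  have hall : ∀ g, ι g ∈ P' := by
    intro g
    have hnorm : (P'.comap ι).Normal := hn.comap ι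
    rcases Subgroup.Normal.eq_bot_or_eq_top hnorm with h | h
    · exfalso
      have h1 : (P'.comap ι).index ≤ 2 := by
        rw [Subgroup.index_comap]
        exact Nat.le_of_dvd (by norm_num)
          ((Subgroup.relIndex_dvd_index_of_normal _ _).trans (dvd_of_eq hidx))
      rw [h, Subgroup.index_bot, hcard] at h1
      omega
    · exact Subgroup.mem_comap.1 (h ▸ Subgroup.mem_top g)
  have hbij : Function.Bijective (ι.codRestrict P' hall) :=
    Function.Injective.bijective_of_nat_card_le
      (fun g k e => hιinj (congrArg Subtype.val e)) (by rw [hP'c, hcard])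
  let e1 : G ≃* P := (MulEquiv.ofBijective _ hbij).trans (Subgroup.subgroupOfEquivOfLe hP)
  let e2 : P ≃* Cfsg.Spor.M22 :=
    { toFun := fun σ => ⟨((σ : M24) : Equiv.Perm GolayPt), ⟨⟨(σ : M24).2, σ.2.1⟩, σ.2.2⟩⟩
      invFun := fun σ => ⟨⟨(σ : Equiv.Perm GolayPt), σ.2.1.1⟩, ⟨σ.2.1.2, σ.2.2⟩⟩
      left_inv := fun σ => rfl
      right_inv := fun σ => rfl
      map_mul' := fun σ τ => rfl }
  exact ⟨e1.trans e2⟩

end Cfsg.Agent.M22Order
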