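import Cfsg.Agent.M22Order.Gen
import Cfsg.Agent.BlockThms.OrderP.Setup
import Cfsg.Agent.SmallOrder.Local
import Cfsg.Agent.SmallOrder.Basic
import Cfsg.Agent.Fusion.PGroup

/-!
# Sylow subgroups of order 5, 7, 11 in a simple group of order 443520
-/

set_option autoImplicit false
set_option linter.unusedSectionVars false

namespace Cfsg.Agent.M22Order

open Cfsg.Agent Cfsg.Agent.Blocks

universe u

variable {G : Type u} [Group G] [Fintype G] [IsSimpleGroup G] (hG : Nat.card G = 443520)
include hG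

/-- The numerical data of a Sylow subgroup of order `p`. -/
theorem local_data {p : ℕ} [Fact p.Prime] (hp : p ∈ [5, 7, 11]) (P : Sylow p G) :
    ∃ e V : ℕ, BlockThms.OrderP.Setup P e ∧ 2 ≤ e ∧ e ∣ p - 1 ∧
      Nat.card (Subgroup.centralizer (P : Set G)) = p * V ∧
      Nat.card (Sylow p G) * (p * (e * V)) = 443520 ∧
      Nat.card (Sylow p G) % p = 1 ∧ Nat.card (Sylow p G) ≠ 1 := by
  have hS : BlockThms.OrderP.Setup P ((Subgroup.centralizer (P : Set G)).relIndex
      (Subgroup.normalizer (P : Set G))) := ⟨card_sylow hG hp P, rfl⟩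
  obtain ⟨K, -, -, -, -, hCK, -⟩ := hS.exists_complement
  have hple : p < Nat.card G := by
    rw [hG]
    simp only [List.mem_cons, List.not_mem_nil, or_false] at hp; omega
  refine ⟨_, Nat.card K, hS, ?_, hS.exists_y.1, hCK, ?_, SmallOrder.card_sylow_mod p, ?_⟩
  · have h1 := S4429.e_ne_one hS hple
    have h2 := hS.e_pos
    omega
  · have h1 := hS.card_normalizer
    rw [hCK] at h1
    have h2 := Subgroup.card_mul_index (Subgroup.normalizer (P : Set G))
    rw [hG, show (Subgroup.normalizer (P : Set G)).index = Nat.card (Sylow p G) from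
      (Sylow.card_eq_index_normalizer P).symm, h1] at h2
    rw [← h2]
    ring
  · refine SmallOrder.card_sylow_ne_one (not_comm hG) ?_
    rw [hG]
    simp only [List.mem_cons, List.not_mem_nil, or_false] at hp
    rcases hp with rfl | rfl | rfl <;> norm_num

omit hG in
/-- An element of prime order `q` prime to `p - 1` normalising a group of order `p` centralises it. -/
theorem centralizes_of_normalizes {p q : ℕ} [Fact p.Prime] [Fact q.Prime] {H : Subgroup G}
    (hH : Nat.card H = p) (hpq : p % q ≠ 1) {y : G} (hy : orderOf y = q)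
    (hn : y ∈ Subgroup.normalizer (H : Set G)) : y ∈ Subgroup.centralizer (H : Set G) := by
  refine SmallOrder.mem_centralizer_of_order hn hy fun d hd hdm => ?_
  rw [hH] at hd hdm ⊢
  refine ((Nat.dvd_prime Fact.out).1 hd).resolve_left fun h1 => hpq ?_
  rw [h1, Nat.ModEq, Nat.one_mod_eq_one.2 (Fact.out : q.Prime).ne_one] at hdm
  exact hdm.symm

omit hG in
/-- A subgroup generated by an element of the order of a Sylow subgroup of order `p`. -/
theorem exists_sylow_zpowers {p : ℕ} [Fact p.Prime] (h1 : ∀ P : Sylow p G,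
    Nat.card (P : Subgroup G) = p) {x : G} (hx : orderOf x = p) :
    ∃ P : Sylow p G, (P : Subgroup G) = Subgroup.zpowers x := by
  obtain ⟨P, hP⟩ := (IsPGroup.of_card (p := p) (n := 1)
    (by rw [Nat.card_zpowers, hx, pow_one]) : IsPGroup p (Subgroup.zpowers x)).exists_le_sylow
  exact ⟨P, (Subgroup.eq_of_le_of_card_ge hP (by rw [h1, Nat.card_zpowers, hx])).symm⟩

/-- An element of order `p` commutes with `x` only inside the centraliser of a Sylow subgroup. -/
theorem exists_mem_centralizer {p : ℕ} [Fact p.Prime] (hp : p ∈ [5, 7, 11]) {x y : G}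
    (hx : orderOf x = p) (hxy : Commute x y) :
    ∃ P : Sylow p G, x ∈ (P : Subgroup G) ∧ y ∈ Subgroup.centralizer (P : Set G) := by
  obtain ⟨P, hP⟩ := exists_sylow_zpowers (card_sylow hG hp) hx
  refine ⟨P, hP ▸ Subgroup.mem_zpowers x, Subgroup.mem_centralizer_iff.2 fun u hu => ?_⟩
  obtain ⟨i, rfl⟩ := Subgroup.mem_zpowers_iff.1 (show u ∈ Subgroup.zpowers x from hP ▸ hu)
  exact (hxy.zpow_left i).eq

/-- The Sylow subgroups normalised by an element centralising one of them. -/
theorem exists_fixed {p q : ℕ} [Fact p.Prime] [Fact q.Prime] (hp : p ∈ [5, 7, 11])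
    (hpq : p % q ≠ 1) (P : Sylow p G) {y : G} (hy : orderOf y = q)
    (hyC : y ∈ Subgroup.centralizer (P : Set G)) :
    ∃ F : ℕ, F ∣ 443520 ∧ F ∣ Nat.card (Subgroup.centralizer ({y} : Set G)) ∧ F % p = 1 ∧
      F < Nat.card (Sylow p G) ∧ F % q = Nat.card (Sylow p G) % q := by
  classical
  set K := Subgroup.centralizer ({y} : Set G) with hK
  have hPK : (P : Subgroup G) ≤ K := fun u hu =>
    Subgroup.mem_centralizer_singleton_iff.2 (Subgroup.mem_centralizer_iff.1 hyC u hu)
  refine ⟨Nat.card (Sylow p K), ?_⟩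
  have hdvd : Nat.card (Sylow p K) ∣ Nat.card K :=
    (Sylow.card_dvd_index (P.subtype hPK)).trans (Subgroup.index_dvd_card _)
  have hfix : ∀ Q : Sylow p G, y • Q = Q → (Q : Subgroup G) ≤ K := by
    intro Q hQ u hu
    have h := centralizes_of_normalizes (card_sylow hG hp Q) hpq hy
      (Sylow.smul_eq_iff_mem_normalizer.1 hQ)
    exact Subgroup.mem_centralizer_singleton_iff.2 (Subgroup.mem_centralizer_iff.1 h u hu)
  let f : {Q : Sylow p G // y • Q = Q} → Sylow p K := fun Q => Q.1.subtype (hfix Q.1 Q.2)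
  have hbij : Function.Bijective f := by
    refine ⟨fun a b h => Subtype.ext (Sylow.subtype_injective h), fun R => ?_⟩
    obtain ⟨k, hk⟩ := MulAction.exists_smul_eq K (P.subtype hPK) R
    have hle : ((k : G) • P : Sylow p G).toSubgroup ≤ K := Sylow.smul_le hPK k
    have hy' : y • ((k : G) • P) = (k : G) • P := by
      rw [Sylow.smul_eq_iff_mem_normalizer]
      refine Subgroup.centralizer_le_normalizer _ (Subgroup.mem_centralizer_iff.2 fun u hu => ?_)
      exact Subgroup.mem_centralizer_singleton_iff.1 (hle hu)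
    exact ⟨⟨_, hy'⟩, by rw [← hk, Sylow.smul_subtype hPK k]; rfl⟩
  have hcard : Nat.card {Q : Sylow p G // y • Q = Q} = Nat.card (Sylow p K) :=
    Nat.card_eq_of_bijective f hbij
  refine ⟨?_, hdvd, SmallOrder.card_sylow_mod p, ?_, ?_⟩
  · exact hdvd.trans (hG ▸ Subgroup.card_subgroup_dvd_card K)
  · rw [← hcard]
    refine lt_of_le_of_ne (Finite.card_subtype_le _) fun h => ?_
    have hall : ∀ Q : Sylow p G, y • Q = Q := fun Q => by
      by_contra hQ
      exact (Finite.card_subtype_lt (p := fun R : Sylow p G => y • R = R) hQ).ne h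
    have hker : y ∈ (MulAction.toPermHom G (Sylow p G)).ker :=
      MonoidHom.mem_ker.2 (Equiv.ext hall)
    rcases ((inferInstance : (MulAction.toPermHom G (Sylow p G)).ker.Normal)).eq_bot_or_eq_top with
      hb | ht
    · rw [hb, Subgroup.mem_bot] at hker
      rw [hker, orderOf_one] at hy
      exact (Fact.out : q.Prime).ne_one hy.symm
    · refine SmallOrder.card_sylow_ne_one (p := p) (not_comm hG) ?_
        (Nat.card_eq_one_iff_unique.2 ⟨⟨fun Q R => ?_⟩, inferInstance⟩)
      · rw [hG]
        simp only [List.mem_cons, List.not_mem_nil, or_false] at hp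
        rcases hp with rfl | rfl | rfl <;> norm_num
      · obtain ⟨g, rfl⟩ := MulAction.exists_smul_eq G Q R
        have h1 : g ∈ (MulAction.toPermHom G (Sylow p G)).ker := ht ▸ Subgroup.mem_top g
        exact (congrFun (congrArg DFunLike.coe (MonoidHom.mem_ker.1 h1)) Q).symm
  · have hq : IsPGroup q (Subgroup.zpowers y) :=
      IsPGroup.of_card (n := 1) (by rw [Nat.card_zpowers, hy, pow_one])
    have h := hq.card_modEq_card_fixedPoints (Sylow p G)
    have he : Nat.card (MulAction.fixedPoints (Subgroup.zpowers y) (Sylow p G)) =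
        Nat.card (Sylow p K) := by
      rw [← hcard]
      refine Nat.card_congr (Equiv.subtypeEquivRight fun Q => ⟨fun h => ?_, fun h => ?_⟩)
      · exact h ⟨y, Subgroup.mem_zpowers y⟩
      · rintro ⟨a, ha⟩
        exact (Subgroup.zpowers_le.2 (show y ∈ MulAction.stabilizer G Q from h) :
          Subgroup.zpowers y ≤ MulAction.stabilizer G Q) ha
    rw [he] at h
    exact h.symm

/-- An involution of `C(P)` central in a Sylow 2-subgroup of `N(P)`. -/
theorem exists_inv {p : ℕ} [Fact p.Prime] (hp : p ∈ [5, 7, 11]) {P : Sylow p G} {e V : ℕ}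
    (hS : BlockThms.OrderP.Setup P e)
    (hV : Nat.card (Subgroup.centralizer (P : Set G)) = p * V) (h2 : 2 ∣ V) :
    ∃ t : G, orderOf t = 2 ∧ t ∈ Subgroup.centralizer (P : Set G) ∧
      ∃ m n : ℕ, Nat.card (Subgroup.centralizer ({t} : Set G)) = m * n ∧ n % p = 1 ∧
        m ∣ p * (e * V) ∧ p ∣ m ∧ 2 ^ (p * (e * V)).factorization 2 ∣ m := by
  classical
  have : Fact (Nat.Prime 2) := ⟨Nat.prime_two⟩
  set N := Subgroup.normalizer (P : Set G) with hN
  set C := (Subgroup.centralizer (P : Set G)).subgroupOf N with hCdef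
  have hNc : Nat.card N = p * (e * V) := by rw [hS.card_normalizer, hV]; ring
  have hCn : C.Normal := by
    refine ⟨fun c hc n => ?_⟩
    rw [hCdef, Subgroup.mem_subgroupOf, Subgroup.mem_centralizer_iff]
    intro u hu
    have h1 := Subgroup.mem_centralizer_iff.1 (Subgroup.mem_subgroupOf.1 hc)
      ((n : G)⁻¹ * u * (n : G))
      (by
        have := hS.conj_mem hu (inv_mem n.2)
        rwa [inv_inv] at this)
    push_cast
    calc u * ((n : G) * c * (n : G)⁻¹) = (n : G) * (((n : G)⁻¹ * u * (n : G)) * c) * (n : G)⁻¹ := by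
          group
      _ = (n : G) * (c : G) * (n : G)⁻¹ * u := by rw [h1]; group
  have h2C : 2 ∣ Nat.card C := by
    rw [Nat.card_congr (Subgroup.subgroupOfEquivOfLe (Subgroup.centralizer_le_normalizer _)).toEquiv,
      hV]
    exact h2.mul_left p
  obtain ⟨w, hw⟩ := exists_prime_orderOf_dvd_card' 2 h2C
  obtain ⟨T, hT⟩ := (IsPGroup.of_card (p := 2) (n := 1)
    (by rw [Nat.card_zpowers, hw, pow_one]) : IsPGroup 2 (Subgroup.zpowers w)).map C.subtype |>.exists_le_sylow
  have hne : C.subgroupOf (T : Subgroup N) ≠ ⊥ := by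
    intro hb
    have hwT : (w : N) ∈ (T : Subgroup N) :=
      hT (Subgroup.mem_map_of_mem _ (Subgroup.mem_zpowers w))
    have : (⟨(w : N), hwT⟩ : (T : Subgroup N)) ∈ C.subgroupOf (T : Subgroup N) :=
      Subgroup.mem_subgroupOf.2 w.2
    rw [hb, Subgroup.mem_bot, Subtype.ext_iff] at this
    have hw1 : w = 1 := Subtype.ext this
    rw [hw1, orderOf_one] at hw
    omega
  have hnorm : (C.subgroupOf (T : Subgroup N)).Normal := hCn.subgroupOf _
  obtain ⟨x, hx, hx1⟩ := (Subgroup.bot_or_exists_ne_one _).resolve_left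
    (Fusion.pGroup_inf_center_ne_bot T.isPGroup' (C.subgroupOf (T : Subgroup N)) hne)
  obtain ⟨k, hk⟩ := (IsPGroup.iff_orderOf.1 T.isPGroup') x
  have hk0 : k ≠ 0 := fun h => hx1 (orderOf_eq_one_iff.1 (by rw [hk, h, pow_zero]))
  set s := x ^ (2 ^ (k - 1)) with hs
  have hso : orderOf s = 2 := by
    rw [hs, orderOf_pow' _ (pow_ne_zero _ two_ne_zero), hk,
      Nat.gcd_eq_right (pow_dvd_pow 2 (Nat.sub_le k 1)), Nat.pow_div (Nat.sub_le k 1) two_pos,
      show k - (k - 1) = 1 by omega, pow_one]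
  have hsm : s ∈ C.subgroupOf (T : Subgroup N) ⊓ Subgroup.center (T : Subgroup N) :=
    pow_mem hx _
  obtain ⟨hsC, hsZ⟩ := Subgroup.mem_inf.1 hsm
  set t : G := ((s : N) : G) with ht
  have hto : orderOf t = 2 := by rw [ht, Subgroup.orderOf_coe, Subgroup.orderOf_coe, hso]
  have htC : t ∈ Subgroup.centralizer (P : Set G) :=
    Subgroup.mem_subgroupOf.1 (Subgroup.mem_subgroupOf.1 hsC)
  refine ⟨t, hto, htC, ?_⟩
  set K := Subgroup.centralizer ({t} : Set G) with hK
  have hPK : (P : Subgroup G) ≤ K := fun u hu =>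
    Subgroup.mem_centralizer_singleton_iff.2 (Subgroup.mem_centralizer_iff.1 htC u hu)
  set R := P.subtype hPK with hR
  set NR := Subgroup.normalizer ((R : Subgroup K) : Set K) with hNR
  refine ⟨Nat.card NR, Nat.card (Sylow p K), ?_, SmallOrder.card_sylow_mod p, ?_⟩
  · rw [Sylow.card_eq_index_normalizer R]
    exact (Subgroup.card_mul_index NR).symm
  have hmem : ∀ g : K, g ∈ NR ↔ (g : G) ∈ N := by
    intro g
    rw [hNR, hN, Subgroup.mem_normalizer_iff]
    refine Iff.trans ?_ (Subgroup.mem_normalizer_iff (H := (P : Subgroup G))).symm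
    constructor
    · intro h u
      constructor
      · intro hu
        have := (h ⟨u, hPK hu⟩).1 hu
        exact this
      · intro hu
        have hgu : g * ((g : K)⁻¹ * ⟨(g : G) * u * (g : G)⁻¹, hPK hu⟩ * g) * g⁻¹ ∈ (R : Subgroup K) := by
          have e : g * ((g : K)⁻¹ * ⟨(g : G) * u * (g : G)⁻¹, hPK hu⟩ * g) * g⁻¹ =
              ⟨(g : G) * u * (g : G)⁻¹, hPK hu⟩ := by group
          rw [e]
          exact hu
        have := (h _).2 hgu
        have e2 : (((g : K)⁻¹ * ⟨(g : G) * u * (g : G)⁻¹, hPK hu⟩ * g : K) : G) = u := by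
          push_cast; group
        exact e2 ▸ this
    · intro h u
      exact h (u : G)
  have hNle : NR.map K.subtype ≤ N := by
    rintro _ ⟨g, hg, rfl⟩
    exact (hmem g).1 hg
  have hmapc : Nat.card (NR.map K.subtype) = Nat.card NR :=
    Subgroup.card_map_of_injective K.subtype_injective
  refine ⟨?_, ?_, ?_⟩
  · rw [← hmapc, ← hNc]
    exact Subgroup.card_dvd_of_le hNle
  · rw [← hS.card, ← hmapc]
    refine Subgroup.card_dvd_of_le fun u hu => ⟨⟨u, hPK hu⟩, (hmem _).2 (Subgroup.le_normalizer hu), rfl⟩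
  · rw [← hNc, ← T.card_eq_multiplicity, ← hmapc,
      ← (Subgroup.card_map_of_injective N.subtype_injective :
        Nat.card ((T : Subgroup N).map N.subtype) = Nat.card (T : Subgroup N))]
    refine Subgroup.card_dvd_of_le ?_
    rintro _ ⟨g, hg, rfl⟩
    have hc := congrArg (fun a : (T : Subgroup N) => ((a : N) : G))
      (Subgroup.mem_center_iff.1 hsZ ⟨g, hg⟩)
    exact ⟨⟨(g : G), Subgroup.mem_centralizer_singleton_iff.2 hc⟩, (hmem _).2 g.2, rfl⟩

end Cfsg.Agent.M22Order
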