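import Cfsg.Agent.M22Order.Columns
import Cfsg.Agent.M22Order.Local

/-!
# The Sylow 11-subgroup is self-centralising with an automizer of order five
-/

set_option autoImplicit false
set_option linter.unusedSectionVars false

namespace Cfsg.Agent.M22Order

open Cfsg.Agent Cfsg.Agent.Blocks

theorem counts_eleven : ∀ a ∈ Nat.divisors 128, ∀ b ∈ Nat.divisors 315, a * b % 11 = 1 →
    a * b ≠ 1 → a * b ∈ [12, 45, 56, 144, 210, 320, 672, 2520, 8064] := by
  decide +kernel

theorem no_fixed_eleven : ∀ nq ∈ [(12, 7), (45, 7), (144, 7), (56, 3)], ∀ F : ℕ, F < (nq : ℕ × ℕ).1 →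
    F ∣ 443520 → F % 11 = 1 → F % nq.2 ≠ nq.1 % nq.2 := by
  decide +kernel

theorem fixed_320 : ∀ F : ℕ, F < 320 → F ∣ 443520 → F % 11 = 1 → F % 7 = 320 % 7 → F = 12 := by
  decide +kernel

theorem pair_eleven : ∀ d : ℕ, d < 666 → d ∣ 40320 → 23 ≤ d → (d % 11 = 1 ∨ d % 11 = 10) →
    ¬ (d + 1) ∣ 40320 ∧ ¬ (d - 1) ∣ 40320 := by
  decide +kernel

theorem cents_672_spec : ∀ a ∈ Nat.divisors 128, ∀ b ∈ Nat.divisors 3465, ∀ m ∈ Nat.divisors 660,
    44 ∣ m → m ∣ a * b → a * b / m % 11 = 1 → a * b < 443520 → a * b ∈ Search.cents672 := by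
  decide +kernel

universe u

variable {G : Type u} [Group G] [Fintype G] [IsSimpleGroup G] (hG : Nat.card G = 443520)
include hG

theorem dvd_block {p : ℕ} [hp : Fact p.Prime] {P : Sylow p G} {e : ℕ} {M : Ideal Cfsg.AlgInt}
    (B : Bl P M e) (hS : BlockThms.OrderP.Setup P e) (hM : Cfsg.IsPModular p M) {m : ℕ}
    (hm : 443520 = p * m) {χ : Cfsg.IrrCharacter G} (hχ : χ ∈ B.nt) : dg χ ∣ m :=
  ((hp.out.coprime_iff_not_dvd.2 (B.not_dvd hG hS hM hχ)).symm).dvd_of_dvd_mul_left
    (hm ▸ dg_dvd hG χ)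

theorem dg_lt (χ : Cfsg.IrrCharacter G) : dg χ < 666 := by
  by_cases h : χ = triv G
  · rw [h, dg_triv]; norm_num
  · by_contra hlt
    push Not at hlt
    have := Nat.mul_le_mul hlt hlt
    have := dg_sq_lt hG h
    omega

/-- An automizer of order two is impossible when an involution centralises the Sylow subgroup. -/
theorem not_two [Fact (Nat.Prime 11)] {P : Sylow 11 G} (hS : BlockThms.OrderP.Setup P 2) {t : G}
    (ht : orderOf t = 2) (htC : t ∈ Subgroup.centralizer (P : Set G)) : False := by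
  obtain ⟨M, hM⟩ := Blocks.exists_isPModular 11 (Fact.out : Nat.Prime 11)
  obtain ⟨B⟩ := exists_bl hG (by norm_num) hS le_rfl hM
  obtain ⟨v, hcol⟩ := exists_col hG ht rfl
  obtain ⟨χ, hχ⟩ := Finset.card_eq_one.1 (show B.X.card = 1 by have := B.card_X; omega)
  obtain ⟨θ, hθ⟩ := B.Y_nonempty (B.nexc_pos (by norm_num) hS)
  have hχX : χ ∈ B.X := hχ ▸ Finset.mem_singleton_self χ
  have hχn := B.mem_nt.2 (Or.inl hχX)
  have hθn := B.mem_nt.2 (Or.inr hθ)
  have hstep := B.step (by norm_num) hM hcol htC hχn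
  have hlt := hcol.lt χ (B.ne_triv hχn)
  have hrel := B.rel_int (g := 1) (v := fun χ => (dg χ : ℤ))
    (by rw [orderOf_one]; norm_num) (fun χ => by rw [value_one]; rfl) hθ
  rw [hχ, Finset.sum_singleton] at hrel
  have hdχ := dvd_block hG B hS hM (m := 40320) (by norm_num) hχn
  have hdθ := dvd_block hG B hS hM (m := 40320) (by norm_num) hθn
  have hcX := B.congX χ hχX
  have h23 : 23 ≤ dg χ := by
    push_cast at hstep
    by_contra h
    push Not at h
    omega
  have hmod : dg χ % 11 = 1 ∨ dg χ % 11 = 10 := by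
    rcases B.pm χ (Or.inl hχX) with h | h <;> rw [h] at hcX <;> omega
  obtain ⟨h1, h2⟩ := pair_eleven _ (dg_lt hG χ) hdχ h23 hmod
  have hθ0 := dg_pos θ
  have : dg θ = dg χ + 1 ∨ dg θ = dg χ - 1 := by
    rcases B.pm χ (Or.inl hχX) with h | h <;> rcases B.pm θ (Or.inr hθ) with h' | h' <;>
      rw [h, h'] at hrel <;> omega
  rcases this with h | h <;> rw [h] at hdθ
  · exact h1 hdθ
  · exact h2 hdθ

/-- The candidate 672. -/
theorem not_672 [Fact (Nat.Prime 11)] {P : Sylow 11 G} {e : ℕ} (he : e = 5 ∨ e = 10)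
    (hS : BlockThms.OrderP.Setup P e) {t : G} (ht : orderOf t = 2)
    (htC : t ∈ Subgroup.centralizer (P : Set G))
    (hc : Nat.card (Subgroup.centralizer ({t} : Set G)) ∈ Search.cents672) : False := by
  classical
  obtain ⟨M, hM⟩ := Blocks.exists_isPModular 11 (Fact.out : Nat.Prime 11)
  have hp : (11 : ℕ) ∈ [5, 7, 11] := by norm_num
  obtain ⟨B⟩ := exists_bl hG hp hS (by omega) hM
  obtain ⟨c, hcdef⟩ : ∃ c, c = Nat.card (Subgroup.centralizer ({t} : Set G)) := ⟨_, rfl⟩
  rw [← hcdef] at hc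
  obtain ⟨v, hcol⟩ := exists_col hG ht hcdef.symm
  have hn := B.nexc_pos hp hS
  have h11 : ∀ χ ∈ B.nt, dg χ % 11 ∈ [0, 1, 10, 5, 6] := by
    intro χ hχ
    simp only [List.mem_cons, List.not_mem_nil, or_false]
    rcases B.mem_nt.1 hχ with h | h
    · have h1 := B.congX χ h
      rcases B.pm χ (Or.inl h) with h' | h' <;> rw [h'] at h1 <;> omega
    · have h1 := B.congY χ h
      rcases B.pm χ (Or.inr h) with h' | h' <;> rcases he with rfl | rfl <;> rw [h'] at h1 <;> omega
  have hstep : ∀ χ ∈ B.nt, ((dg χ : ℤ) - v χ) % ((44 : ℕ) : ℤ) = 0 := fun χ hχ =>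
    B.step hp hM hcol htC hχ
  have hcand : ∀ χ ∈ B.nt, v χ ∈ Search.cand c 44 (dg χ) := fun χ hχ => by
    refine Search.mem_cand (by norm_num) (hstep χ hχ) (hcol.lt χ (B.ne_triv hχ)) ?_ (hcol.dvd χ)
    have h := hcol.sq_le_of_subset (T := {χ})
      (by rw [Finset.mem_singleton]; exact fun e => B.ne_triv hχ e.symm)
    rw [Finset.sum_singleton] at h
    linarith
  rcases he with rfl | rfl
  · obtain ⟨L, hL, hD⟩ := B.exists_list hG hp hS hM hn h11
    rw [Search.blockList_eleven] at hD
    have hpairs := B.pairs_eq hL (hcol.regular (by norm_num)) hcol.val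
    have hX : ∀ χ ∈ L, χ ∈ B.X := fun χ h => by
      rw [← Finset.mem_val, ← hL]; exact Multiset.mem_coe.2 h
    have hall := Search.no_672_five
    simp only [List.all_eq_true, List.isEmpty_iff] at hall
    have hempty := hall _ hD c hc
    refine (List.eq_nil_iff_forall_not_mem.1 hempty) (L.map v) (List.mem_filter.2 ⟨?_, ?_⟩)
    · rw [List.map_map]
      refine Search.mem_search (forall₂_map fun χ hχ => ?_) ?_
      · simp only [Function.comp_apply]
        rw [B.sd_natAbs (Or.inl (hX χ hχ))]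
        exact hcand χ (B.mem_nt.2 (Or.inl (hX χ hχ)))
      · rw [Search.wsum, List.zipWith_map, List.zipWith_self,
          List.map_congr_left (g := fun χ => v χ * v χ) fun χ _ => by simp,
          ← Multiset.sum_coe, ← Multiset.map_coe, hL]
        have := hcol.sq_le_of_subset B.triv_X
        simp only [Finset.sum] at this ⊢
        linarith
    · rw [Bool.and_eq_true, decide_eq_true_eq]
      refine ⟨B.excVal_ok hG (by norm_num) hn hcol hL hstep, ?_⟩
      have h := hcol.sq_le_of_subset B.triv_nt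
      rw [← sqSum_eq hcol hpairs] at h
      exact h
  · have hmem := B.mem_signedDegs hG hp hS hM h11
    obtain ⟨Lp, hLp, hLM⟩ := Search.mem_enum₂ 9 (Search.opts672 c) 443519 ((c : ℤ) - 1)
      (B.X.val.map fun χ => (B.sd χ, v χ))
      (fun x hx => by
        obtain ⟨χ, hχ, rfl⟩ := Multiset.mem_map.1 hx
        refine List.mem_flatMap.2 ⟨B.sd χ, hmem _ (Multiset.mem_map_of_mem _ hχ),
          List.mem_map.2 ⟨v χ, ?_, rfl⟩⟩
        rw [B.sd_natAbs (Or.inl hχ)]
        exact hcand χ (B.mem_nt.2 (Or.inl hχ)))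
      (by rw [Multiset.card_map]; have := B.card_X; show B.X.card = 9; omega)
      (by
        rw [Multiset.map_map]
        have h := Finset.sum_le_univ_sum_of_nonneg (s := insert (triv G) B.X)
          (f := fun χ : Cfsg.IrrCharacter G => (dg χ : ℤ) ^ 2) fun χ => sq_nonneg _
        rw [Finset.sum_insert B.triv_X, sum_sq hG, dg_triv] at h
        rw [Multiset.map_congr rfl (g := fun χ : Cfsg.IrrCharacter G => (dg χ : ℤ) ^ 2) fun χ hχ => by
          rcases B.pm χ (Or.inl hχ) with h' | h' <;> simp [Bl.sd, h', sq]]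
        have e1 : (B.X.val.map fun χ : Cfsg.IrrCharacter G => (dg χ : ℤ) ^ 2).sum =
            ∑ χ ∈ B.X, (dg χ : ℤ) ^ 2 := rfl
        rw [e1]
        norm_num at h
        linarith)
      (by
        rw [Multiset.map_map]
        have h := hcol.sq_le_of_subset B.triv_X
        show (B.X.val.map fun χ => v χ * v χ).sum ≤ _
        simp only [Finset.sum] at h
        linarith)
    obtain ⟨L, hL, hLD⟩ := Search.exists_list_of_map_eq (fun χ => (B.sd χ, v χ)) Lp B.X.val hLM.symm
    have hf : Lp.map Prod.fst = L.map B.sd := by rw [← hLD, List.map_map]; rfl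
    have hs : Lp.map Prod.snd = L.map v := by rw [← hLD, List.map_map]; rfl
    obtain ⟨θ, hθ⟩ := B.Y_nonempty hn
    have hθn := B.mem_nt.2 (Or.inr hθ)
    have hD : ((L.map B.sd : List ℤ) : Multiset ℤ) = B.X.val.map B.sd := by
      rw [← Multiset.map_coe, hL]
    have hall := Search.no_672_ten
    simp only [List.all_eq_true, Bool.not_eq_true', Bool.and_eq_false_iff, decide_eq_false_iff_not]
      at hall
    have hY : B.Y = {θ} := by
      obtain ⟨θ', h'⟩ := Finset.card_eq_one.1 (show B.Y.card = 1 from B.card_Y)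
      rw [h', Finset.mem_singleton] at hθ
      rw [h', hθ]
    have hnotinX : θ ∉ B.X := fun h => Finset.disjoint_left.1 B.disj h hθ
    have hexc := B.exc_eq hD hθ
    have hexv := B.excVal_eq hL (hcol.regular (by norm_num)) hcol.val hθ
    have key := hall c hc Lp hLp
    rw [hf, hs, hexc, hexv] at key
    have h1 : (Lp.map fun x => x.1 * x.1).sum = ∑ χ ∈ B.X, (dg χ : ℤ) ^ 2 := by
      rw [← Multiset.sum_coe, ← Multiset.map_coe, hLM, Multiset.map_map]
      refine congrArg Multiset.sum (Multiset.map_congr rfl fun χ hχ => ?_)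
      rcases B.pm χ (Or.inl hχ) with h' | h' <;> simp [Bl.sd, h', sq]
    have h2 : (Lp.map fun x => x.2 * x.2).sum = ∑ χ ∈ B.X, v χ * v χ := by
      rw [← Multiset.sum_coe, ← Multiset.map_coe, hLM, Multiset.map_map]
      rfl
    rw [h1, h2] at key
    rcases key with (((k | k) | k) | k) | k
    · rw [B.goodDeg_sd hG hp hS hM h11 θ hθn] at k; exact absurd k (by decide)
    · exact k (B.congY θ hθ)
    · refine k ?_
      have h := Finset.sum_le_univ_sum_of_nonneg (s := insert (triv G) B.nt)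
        (f := fun χ : Cfsg.IrrCharacter G => (dg χ : ℤ) ^ 2) fun χ => sq_nonneg _
      rw [Finset.sum_insert B.triv_nt, sum_sq hG, dg_triv, Bl.nt, Finset.sum_disjUnion, hY,
        Finset.sum_singleton, Nat.cast_one, one_pow] at h
      have hsd : B.sd θ * B.sd θ = (dg θ : ℤ) ^ 2 := by
        rcases B.pm θ (Or.inr hθ) with h' | h' <;> simp [Bl.sd, h', sq]
      linarith
    · refine k ?_
      have h := hcol.sq_le_of_subset B.triv_nt
      rw [Bl.nt, Finset.sum_disjUnion, hY, Finset.sum_singleton] at h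
      linarith
    · have := B.excVal_ok hG (by norm_num) hn hcol hL hstep
      rw [this] at k
      exact absurd k (by decide)

/-- The normaliser of a Sylow 11-subgroup is a Frobenius group of order 55. -/
theorem eleven [Fact (Nat.Prime 11)] (P : Sylow 11 G) :
    BlockThms.OrderP.Setup P 5 ∧ Subgroup.centralizer (P : Set G) = (P : Subgroup G) := by
  classical
  have hna := not_comm hG
  obtain ⟨e, V, hS, he2, he10, hV, hnum, hmod, hne1⟩ := local_data hG (by norm_num) P
  obtain ⟨n, hn⟩ : ∃ n, n = Nat.card (Sylow 11 G) := ⟨_, rfl⟩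
  rw [← hn] at hnum hmod hne1
  have hdn : n ∣ 128 * 315 := ⟨e * V, by
    rw [← Nat.mul_left_inj (show (11 : ℕ) ≠ 0 by norm_num)]
    calc 128 * 315 * 11 = 443520 := by norm_num
      _ = _ := by rw [← hnum]; ring⟩
  obtain ⟨a, b, ha, hb, rfl⟩ := Nat.dvd_mul.1 hdn
  have hcases := counts_eleven a (Nat.mem_divisors.2 ⟨ha, by norm_num⟩) b
    (Nat.mem_divisors.2 ⟨hb, by norm_num⟩) hmod hne1
  obtain ⟨n, hn'⟩ : ∃ n, n = a * b := ⟨_, rfl⟩
  rw [← hn'] at hnum hmod hne1 hn hcases
  have heq : n * (e * V) = 40320 := by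
    rw [← Nat.mul_left_inj (show (11 : ℕ) ≠ 0 by norm_num)]
    calc n * (e * V) * 11 = n * (11 * (e * V)) := by ring
      _ = _ := by rw [hnum]
  have he : e = 2 ∨ e = 5 ∨ e = 10 := by
    have : e ≤ 10 := Nat.le_of_dvd (by norm_num) he10
    interval_cases e <;> omega
  have kill : ∀ (q : ℕ) [Fact q.Prime], q ∣ V → ∃ y : G, orderOf y = q ∧
      y ∈ Subgroup.centralizer (P : Set G) := fun q _ hq => by
    obtain ⟨y, hy⟩ := exists_prime_orderOf_dvd_card' q
      (show q ∣ Nat.card (Subgroup.centralizer (P : Set G)) by rw [hV]; exact hq.mul_left 11)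
    exact ⟨(y : G), by rw [Subgroup.orderOf_coe, hy], y.2⟩
  have nofix : ∀ (q : ℕ) [Fact q.Prime], 11 % q ≠ 1 → q ∣ V → (n, q) ∈ [(12, 7), (45, 7), (144, 7), (56, 3)] →
      False := fun q _ hq1 hqV hmem => by
    obtain ⟨y, hy, hyC⟩ := kill q hqV
    obtain ⟨F, hF, -, hF1, hFn, hFq⟩ := exists_fixed hG (by norm_num) hq1 P hy hyC
    rw [← hn] at hFn hFq
    exact no_fixed_eleven (n, q) hmem F hFn hF hF1 hFq
  have two : e = 2 → 2 ∣ V → False := fun h h2 => by
    subst h
    have : Fact (Nat.Prime 2) := ⟨Nat.prime_two⟩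
    obtain ⟨t, ht, htC⟩ := kill 2 h2
    exact not_two hG hS ht htC
  simp only [List.mem_cons, List.not_mem_nil, or_false] at hcases
  rcases hcases with rfl | rfl | rfl | rfl | rfl | rfl | rfl | rfl | rfl
  · have : Fact (Nat.Prime 7) := ⟨by norm_num⟩
    exact (nofix 7 (by norm_num) (by rcases he with rfl | rfl | rfl <;> omega)
      (by norm_num)).elim
  · have : Fact (Nat.Prime 7) := ⟨by norm_num⟩
    exact (nofix 7 (by norm_num) (by rcases he with rfl | rfl | rfl <;> omega)
      (by norm_num)).elim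
  · have : Fact (Nat.Prime 3) := ⟨by norm_num⟩
    exact (nofix 3 (by norm_num) (by rcases he with rfl | rfl | rfl <;> omega)
      (by norm_num)).elim
  · have : Fact (Nat.Prime 7) := ⟨by norm_num⟩
    exact (nofix 7 (by norm_num) (by rcases he with rfl | rfl | rfl <;> omega)
      (by norm_num)).elim
  · exfalso
    rcases he with rfl | rfl | rfl
    · exact two rfl (by omega)
    · omega
    · omega
  · -- 320 Sylow subgroups
    exfalso
    obtain rfl : V = 63 := by rcases he with rfl | rfl | rfl <;> omega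
    have : Fact (Nat.Prime 7) := ⟨by norm_num⟩
    obtain ⟨K, hKC, -, -, -, hCK, -⟩ := hS.exists_complement
    have hK : Nat.card K = 63 := by omega
    obtain ⟨y, hy⟩ := exists_prime_orderOf_dvd_card' (G := K) 7 (by rw [hK]; norm_num)
    have hyo : orderOf (y : G) = 7 := by rw [Subgroup.orderOf_coe, hy]
    obtain ⟨F, hF, hFy, hF1, hFn, hFq⟩ := exists_fixed hG (p := 11) (by norm_num)
      (show 11 % 7 ≠ 1 by norm_num) P hyo (hKC y.2)
    rw [← hn] at hFn hFq
    obtain rfl := fixed_320 F hFn hF hF1 hFq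
    obtain ⟨Q, hQ⟩ := exists_sylow_zpowers (card_sylow hG (by norm_num)) hyo
    obtain ⟨e7, V7, hS7, -, -, -, hnum7, hmod7, hne7⟩ := local_data hG (by norm_num) Q
    have hy1 : (y : G) ≠ 1 := fun h => by rw [h, orderOf_one] at hyo; omega
    have hyQ : (y : G) ∈ (Q : Subgroup G) := hQ ▸ Subgroup.mem_zpowers _
    have hCN : Subgroup.centralizer ({(y : G)} : Set G) ≤ Subgroup.normalizer (Q : Set G) := by
      rw [hS7.centralizer_eq hyQ hy1]
      exact Subgroup.centralizer_le_normalizer _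
    have hsub : Subsingleton (Sylow 7 K) := by
      rw [← Finite.card_le_one_iff_subsingleton]
      have h1 : Nat.card (Sylow 7 K) ∣ 9 :=
        SmallOrder.card_sylow_dvd (G := K) (a := 1) (hK.trans (by norm_num)) (by norm_num)
      have h2 := SmallOrder.card_sylow_mod (G := K) 7
      have h3 : Nat.card (Sylow 7 K) ≤ 9 := Nat.le_of_dvd (by norm_num) h1
      interval_cases h : Nat.card (Sylow 7 K) <;> omega
    have hKN : K ≤ Subgroup.normalizer (Q : Set G) := by
      intro k hk
      refine hS7.mem_normalizer hyQ hy1 ?_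
      obtain ⟨R, hR⟩ := (IsPGroup.of_card (p := 7) (n := 1)
        (by rw [Nat.card_zpowers, hy, pow_one]) : IsPGroup 7 (Subgroup.zpowers y)).exists_le_sylow
      have hRc : Nat.card (R : Subgroup K) = 7 := by
        have := SmallOrder.card_sylow_eq_pow (G := K) (a := 1) (hK.trans (by norm_num : 63 = 7 ^ 1 * 9))
          (by norm_num) R
        simpa using this
      have hRz : (R : Subgroup K) = Subgroup.zpowers y :=
        (Subgroup.eq_of_le_of_card_ge hR (by rw [hRc, Nat.card_zpowers, hy])).symm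
      have hnR : (R : Subgroup K).Normal := R.normal_of_subsingleton
      have h1 := hnR.conj_mem y (hR (Subgroup.mem_zpowers y)) (⟨k, hk⟩⁻¹)
      rw [hRz, Subgroup.mem_zpowers_iff] at h1
      obtain ⟨i, hi⟩ := h1
      rw [hQ, Subgroup.mem_zpowers_iff]
      exact ⟨i, by simpa using congrArg Subtype.val hi⟩
    obtain ⟨x, hx, hx1, hxo⟩ := hS.exists_gen
    have h11 : 11 ∣ Nat.card (Subgroup.normalizer (Q : Set G)) := by
      have hxC : x ∈ Subgroup.centralizer ({(y : G)} : Set G) :=
        Subgroup.mem_centralizer_singleton_iff.2 (Subgroup.mem_centralizer_iff.1 (hKC y.2) x hx)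
      have h := Subgroup.orderOf_dvd_natCard _ (hCN hxC)
      rwa [hxo] at h
    have h2772 : 2772 ∣ Nat.card (Subgroup.normalizer (Q : Set G)) :=
      (show 2772 = Nat.lcm 12 (Nat.lcm 63 11) by norm_num [Nat.lcm]) ▸ Nat.lcm_dvd
        (hFy.trans (Subgroup.card_dvd_of_le hCN))
        (Nat.lcm_dvd (hK ▸ Subgroup.card_dvd_of_le hKN) h11)
    have hN7 : Nat.card (Sylow 7 G) * Nat.card (Subgroup.normalizer (Q : Set G)) = 443520 := by
      rw [Sylow.card_eq_index_normalizer Q, mul_comm]
      exact (Subgroup.card_mul_index _).trans hG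
    have h160 : Nat.card (Sylow 7 G) ∣ 160 := by
      obtain ⟨j, hj⟩ := h2772
      refine ⟨j, ?_⟩
      rw [hj] at hN7
      rw [← Nat.mul_left_inj (show (2772 : ℕ) ≠ 0 by norm_num)]
      calc 160 * 2772 = 443520 := by norm_num
        _ = _ := by rw [← hN7]; ring
    have h8 : Nat.card (Sylow 7 G) = 8 := by
      have hle : Nat.card (Sylow 7 G) ≤ 160 := Nat.le_of_dvd (by norm_num) h160
      have key : ∀ m : ℕ, m ≤ 160 → m ∣ 160 → m % 7 = 1 → m ≠ 1 → m = 8 := by decide +kernel
      exact key _ hle h160 hmod7 hne7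
    have h4 := (SmallOrder.sylow_data (G := G) (p := 7) (a := 1) (m := 63360)
      (hG.trans (by norm_num)) one_ne_zero (by norm_num) hna).2.2.2
    rw [hG, h8] at h4
    norm_num [Nat.factorial] at h4
  · -- 672 Sylow subgroups
    exfalso
    have h2 : 2 ∣ V := by rcases he with rfl | rfl | rfl <;> omega
    rcases he with rfl | he'
    · exact two rfl h2
    obtain ⟨t, ht, htC, m, j, hc, hj, hm, hp11, hm2⟩ := exists_inv hG (by norm_num) hS hV h2
    refine not_672 hG he' hS ht htC ?_
    have heV : e * V = 60 := by omega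
    rw [heV] at hm hm2
    have h4 : 4 ∣ m := by
      refine dvd_trans ?_ hm2
      rw [show 11 * 60 = 2 ^ 2 * 165 by norm_num, Nat.factorization_mul (by norm_num) (by norm_num),
        Finsupp.add_apply, Nat.Prime.factorization_pow Nat.prime_two, Finsupp.single_eq_same,
        Nat.factorization_eq_zero_of_not_dvd (by norm_num)]
      norm_num
    obtain ⟨c, hcdef⟩ : ∃ c, c = Nat.card (Subgroup.centralizer ({t} : Set G)) := ⟨_, rfl⟩
    have hcd : c ∣ 128 * 3465 := by
      rw [hcdef, show 128 * 3465 = Nat.card G by rw [hG]]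
      exact Subgroup.card_subgroup_dvd_card _
    have hlt : c < 443520 := hcdef ▸ card_centralizer_lt hG (fun h => by
      rw [h, orderOf_one] at ht; omega)
    rw [← hcdef] at hc ⊢
    obtain ⟨a', b', ha', hb', rfl⟩ := Nat.dvd_mul.1 hcd
    refine cents_672_spec a' (Nat.mem_divisors.2 ⟨ha', by norm_num⟩) b'
      (Nat.mem_divisors.2 ⟨hb', by norm_num⟩) m (Nat.mem_divisors.2 ⟨hm, by norm_num⟩)
      (Nat.Coprime.mul_dvd_of_dvd_of_dvd (by norm_num : Nat.Coprime 4 11) h4 hp11)
      ⟨j, hc⟩ ?_ hlt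
    have hm0 : 0 < m := Nat.pos_of_ne_zero fun h => by simp [h] at hm
    rw [hc, Nat.mul_div_cancel_left _ hm0]
    exact hj
  · exfalso
    rcases he with rfl | rfl | rfl
    · exact two rfl (by omega)
    · omega
    · omega
  · -- 8064 Sylow subgroups
    obtain rfl : e = 5 := by rcases he with rfl | rfl | rfl <;> omega
    refine ⟨hS, (Subgroup.eq_of_le_of_card_ge hS.le_centralizer ?_).symm⟩
    rw [hS.card, hV]
    omega

end Cfsg.Agent.M22Order
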