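import Cfsg.Agent.S4429
import Cfsg.Agent.SmallOrder.PrimeTest
import Cfsg.Agent.BlockThms.DefectZero

/-!
# Simple groups of order 443520: generalities
-/

set_option autoImplicit false
set_option linter.unusedSectionVars false

namespace Cfsg.Agent.M22Order

open scoped ComplexConjugate
open Cfsg.Agent Cfsg.Agent.Blocks

universe u

variable {G : Type u} [Group G] [Fintype G]

/-- The degree. -/
noncomputable abbrev dg (χ : Cfsg.IrrCharacter G) : ℕ := Cfsg.charDegree (χ : G → ℂ)

theorem value_one (χ : Cfsg.IrrCharacter G) : (χ : G → ℂ) 1 = (dg χ : ℂ) :=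
  (charDegree_cast (Char.IsIrr.isCharacter χ.2)).symm

theorem dg_pos (χ : Cfsg.IrrCharacter G) : 0 < dg χ := charDegree_pos χ.2

theorem dg_triv : dg (triv G : Cfsg.IrrCharacter G) = 1 :=
  charDegree_eq (by show (1 : ℂ) = _; simp)

theorem triv_value (g : G) : ((triv G : Cfsg.IrrCharacter G) : G → ℂ) g = 1 := rfl

theorem coe_ne_one {χ : Cfsg.IrrCharacter G} (h : χ ≠ triv G) : (χ : G → ℂ) ≠ fun _ => 1 :=
  fun e => h (Subtype.ext e)

/-- The second orthogonality relation between nonconjugate elements. -/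
theorem orth_ne {g h : G} (hgh : ¬ IsConj g h) :
    ∑ χ : Cfsg.IrrCharacter G, (χ : G → ℂ) g * conj ((χ : G → ℂ) h) = 0 := by
  rw [Char.second_orthogonality, if_neg hgh]

/-- The second orthogonality relation at one element. -/
theorem orth_self (g : G) :
    ∑ χ : Cfsg.IrrCharacter G, (χ : G → ℂ) g * conj ((χ : G → ℂ) g) =
      (Nat.card (Subgroup.centralizer ({g} : Set G)) : ℂ) := by
  rw [Char.second_orthogonality, if_pos (IsConj.refl g)]

variable [IsSimpleGroup G] (hG : Nat.card G = 443520)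
include hG

theorem not_comm : ¬ IsMulCommutative G := fun hc => by
  let : CommGroup G := { (inferInstance : Group G) with mul_comm := hc.is_comm.comm }
  have := IsSimpleGroup.prime_card (α := G)
  rw [hG] at this
  norm_num at this

theorem sum_sq : ∑ χ : Cfsg.IrrCharacter G, (dg χ : ℤ) ^ 2 = 443520 := by
  have h3 := Char.sum_sq_degree (G := G)
  simp only [value_one, hG] at h3
  exact_mod_cast h3

theorem dg_dvd (χ : Cfsg.IrrCharacter G) : dg χ ∣ 443520 :=
  hG ▸ Char.IsIrr.degree_dvd_card χ.2 (value_one χ)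

theorem dg_sq_lt {χ : Cfsg.IrrCharacter G} (h : χ ≠ triv G) : dg χ * dg χ < 443520 :=
  hG ▸ (SmallOrder.degree_facts (not_comm hG) χ (coe_ne_one h)).2.1

theorem one_lt_dg {χ : Cfsg.IrrCharacter G} (h : χ ≠ triv G) : 1 < dg χ :=
  (SmallOrder.degree_facts (not_comm hG) χ (coe_ne_one h)).1

theorem dg_one {χ : Cfsg.IrrCharacter G} (h : dg χ = 1) : χ = triv G := by
  by_contra hne
  exact (one_lt_dg hG hne).ne' h

theorem card_sylow {p : ℕ} [Fact p.Prime] (hp : p ∈ [5, 7, 11]) (P : Sylow p G) :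
    Nat.card (P : Subgroup G) = p := by
  obtain ⟨m, hm, hpm⟩ : ∃ m, (443520 : ℕ) = p ^ 1 * m ∧ ¬ p ∣ m := by
    simp only [List.mem_cons, List.not_mem_nil, or_false] at hp
    rcases hp with rfl | rfl | rfl
    exacts [⟨88704, by norm_num⟩, ⟨63360, by norm_num⟩, ⟨40320, by norm_num⟩]
  rw [SmallOrder.card_sylow_eq_pow (hG.trans hm) hpm P, pow_one]

theorem card_centralizer_mul_index (g : G) :
    Nat.card (Subgroup.centralizer ({g} : Set G)) *
      (Subgroup.centralizer ({g} : Set G)).index = 443520 := by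
  rw [Subgroup.card_mul_index, hG]

theorem index_eq (g : G) : (Subgroup.centralizer ({g} : Set G)).index =
    443520 / Nat.card (Subgroup.centralizer ({g} : Set G)) :=
  (Nat.div_eq_of_eq_mul_left Nat.card_pos (by
    rw [mul_comm, card_centralizer_mul_index hG g])).symm

theorem centralizer_ne_top {g : G} (hg : g ≠ 1) : Subgroup.centralizer ({g} : Set G) ≠ ⊤ := by
  intro h
  have hc : g ∈ Subgroup.center G := Subgroup.mem_center_iff.2 fun x =>
    Subgroup.mem_centralizer_singleton_iff.1 (h ▸ Subgroup.mem_top x)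
  rw [SmallOrder.center_eq_bot (not_comm hG), Subgroup.mem_bot] at hc
  exact hg hc

theorem card_centralizer_lt {g : G} (hg : g ≠ 1) :
    Nat.card (Subgroup.centralizer ({g} : Set G)) < 443520 := by
  have hd : Nat.card (Subgroup.centralizer ({g} : Set G)) ∣ 443520 :=
    hG ▸ Subgroup.card_subgroup_dvd_card _
  refine lt_of_le_of_ne (Nat.le_of_dvd (by norm_num) hd) fun h => centralizer_ne_top hG hg ?_
  exact Subgroup.eq_top_of_card_eq _ (h.trans hG.symm)

/-- The values at an involution. -/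
theorem exists_invVal {t : G} (ht : orderOf t = 2) :
    ∃ v : Cfsg.IrrCharacter G → ℤ,
      (∀ χ : Cfsg.IrrCharacter G, (χ : G → ℂ) t = v χ) ∧ v (triv G) = 1 ∧
      (∀ χ, ((dg χ : ℤ) - v χ) % 4 = 0) ∧
      (∀ χ, (((443520 / Nat.card (Subgroup.centralizer ({t} : Set G)) : ℕ) : ℤ) * v χ) %
        (dg χ : ℤ) = 0) ∧
      (∀ χ, χ ≠ triv G → (v χ).natAbs < dg χ) ∧
      (∑ χ : Cfsg.IrrCharacter G, v χ * v χ =
        (Nat.card (Subgroup.centralizer ({t} : Set G)) : ℤ)) ∧
      ∑ χ : Cfsg.IrrCharacter G, (dg χ : ℤ) * v χ = 0 := by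
  classical
  have hna := not_comm hG
  choose v hv _ hlo hhi hdvd hne using fun χ => S4429.inv_value hna χ ht
  refine ⟨v, hv, ?_, fun χ => ?_, fun χ => ?_, fun χ h => ?_, ?_, ?_⟩
  · have := hv (triv G); rw [triv_value] at this; exact_mod_cast this.symm
  · exact Int.emod_eq_zero_of_dvd (SmallOrder.four_dvd_degree_sub_apply hna
      (Char.IsIrr.isCharacter χ.2) ht (value_one χ) (hv χ))
  · rw [← index_eq hG]; exact Int.emod_eq_zero_of_dvd (hdvd χ)
  · obtain ⟨h1, h2⟩ := hne χ (coe_ne_one h)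
    have := hlo χ; have := hhi χ
    simp only [dg] at *
    omega
  · have h := orth_self t
    simp only [hv, map_intCast] at h
    exact_mod_cast h
  · have h1 : ¬ IsConj (1 : G) t := fun hc => by
      rw [isConj_one_right.1 hc, orderOf_one] at ht; omega
    have h := orth_ne h1
    simp only [hv, map_intCast, value_one] at h
    exact_mod_cast h

omit hG in
/-- Cauchy-Schwarz for the orthogonality with the first column. -/
theorem sq_sum_le {N : ℤ} (T : Finset (Cfsg.IrrCharacter G)) (v : Cfsg.IrrCharacter G → ℤ) {c : ℤ}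
    (hN : ∑ χ : Cfsg.IrrCharacter G, (dg χ : ℤ) ^ 2 = N)
    (hc : ∑ χ : Cfsg.IrrCharacter G, v χ * v χ = c)
    (h0 : ∑ χ : Cfsg.IrrCharacter G, (dg χ : ℤ) * v χ = 0) :
    (∑ χ ∈ T, (dg χ : ℤ) * v χ) * (∑ χ ∈ T, (dg χ : ℤ) * v χ) ≤
      (N - ∑ χ ∈ T, (dg χ : ℤ) ^ 2) * (c - ∑ χ ∈ T, v χ * v χ) := by
  classical
  have e : ∀ f : Cfsg.IrrCharacter G → ℤ, ∑ χ ∈ Finset.univ \ T, f χ =
      (∑ χ, f χ) - ∑ χ ∈ T, f χ := fun f => by
    rw [← Finset.sum_sdiff (Finset.subset_univ T) (f := f), add_sub_cancel_right]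
  have h := Finset.sum_mul_sq_le_sq_mul_sq (Finset.univ \ T) (fun χ => (dg χ : ℤ)) v
  rw [e, e, e, h0, hN, zero_sub, neg_sq, sq] at h
  simp only [sq] at h hc ⊢
  rwa [hc] at h

end Cfsg.Agent.M22Order
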