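import Cfsg.Agent.M22Order.Stab

/-!
# The normaliser of the subgroup of order sixteen has order 5760
-/

set_option autoImplicit false

namespace Cfsg.Agent.M22Order

open Subgroup

universe u

variable {G : Type u} [Group G] [Fintype G] (hF : Facts G) (K : Chars G) (c : Config G)
include hF K

/-- An element of `P` outside `⟨a⟩` cycles the involutions of the four group of `a`. -/
theorem Facts.four_cycle {P : Subgroup G} (hP : IsNine P) {a w : G} (ha : a ∈ P) (ha1 : a ≠ 1)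
    (hw : w ∈ P) (hwa : w ∉ zpowers a) {u v : G} (hu : u ∈ fourGroup a) (hu1 : u ≠ 1)
    (hv : v ∈ fourGroup a) (hv1 : v ≠ 1) : ∃ i : ℕ, w ^ i * u * (w ^ i)⁻¹ = v := by
  have ha3 := hP.orderOf_eq ha ha1
  have hw1 : w ≠ 1 := fun e => hwa (e ▸ one_mem _)
  have hwac : w * a * w⁻¹ = a := by rw [(hP.comm w hw a ha).eq, mul_inv_cancel_right]
  have hne : ∀ x ∈ fourGroup a, x ≠ 1 → w * x * w⁻¹ ≠ x := fun x hx hx1 e => by
    refine hx1 (hF.four_disjoint K hP ha ha1 hw hw1 hwa hx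
      ((hF.mem_four K (hP.orderOf_eq hw hw1) x).2 ⟨((hF.mem_four K ha3 x).1 hx).1, ?_⟩))
    exact (show Commute w x from mul_inv_eq_iff_eq_mul.1 e).symm
  by_cases h0 : u = v
  · exact ⟨0, by simp [h0]⟩
  by_cases h1 : w * u * w⁻¹ = v
  · exact ⟨1, by rwa [pow_one]⟩
  refine ⟨2, ?_⟩
  have e2 : w ^ 2 * u * (w ^ 2)⁻¹ = w * (w * u * w⁻¹) * w⁻¹ := by rw [sq]; group
  rw [e2]
  have g1 : w * u * w⁻¹ ∈ fourGroup a := hF.four_conj K ha3 (Or.inl hwac) hu
  have g11 : w * u * w⁻¹ ≠ 1 := fun e => hu1 (by rw [mul_inv_eq_one, mul_eq_left] at e; exact e)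
  have g2 : w * (w * u * w⁻¹) * w⁻¹ ∈ fourGroup a := hF.four_conj K ha3 (Or.inl hwac) g1
  rcases hF.four_triple K ha3 hu hv hu1 hv1 h0 g2 with e | e | e | e
  · exact absurd (by rw [mul_inv_eq_one, mul_eq_left] at e; exact e) g11
  · exfalso
    have e3 : w ^ 3 = 1 := hP.exp w hw
    refine hne u hu hu1 ?_
    have e4 : u = w * (w * (w * u * w⁻¹) * w⁻¹) * w⁻¹ := by
      calc u = w ^ 3 * u * (w ^ 3)⁻¹ := by rw [e3]; simp
        _ = _ := by rw [pow_succ, sq]; group
    rw [e] at e4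
    exact e4.symm
  · exact e
  · exfalso
    rcases hF.four_triple K ha3 hu hv hu1 hv1 h0 g1 with f | f | f | f
    · exact g11 f
    · exact hne u hu hu1 f
    · exact h1 f
    · exact hne _ g1 g11 (e.trans f.symm)

/-- An element of the product of the four groups which lies in neither. -/
def Config.Mixed (x : G) : Prop :=
  ∃ u ∈ fourGroup c.y, ∃ v ∈ fourGroup c.b, u ≠ 1 ∧ v ≠ 1 ∧ x = u * v

omit hF K in
theorem Config.cases_E {x : G} (hx : x ∈ c.E) :
    x ∈ fourGroup c.y ∨ x ∈ fourGroup c.b ∨ c.Mixed x := by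
  obtain ⟨u, hu, v, hv, rfl⟩ := (c.mem_E x).1 hx
  by_cases hu1 : u = 1
  · exact Or.inr (Or.inl (by rw [hu1, one_mul]; exact hv))
  by_cases hv1 : v = 1
  · exact Or.inl (by rw [hv1, mul_one]; exact hu)
  exact Or.inr (Or.inr ⟨u, hu, v, hv, hu1, hv1, rfl⟩)

theorem Config.Mixed.not_mem {x : G} (h : c.Mixed x) :
    x ∉ fourGroup c.y ∧ x ∉ fourGroup c.b := by
  obtain ⟨u, hu, v, hv, hu1, hv1, rfl⟩ := h
  exact ⟨fun h => hv1 (c.disjoint hF K (by simpa using mul_mem (inv_mem hu) h) hv),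
    fun h => hu1 (c.disjoint hF K hu (by simpa using mul_mem h (inv_mem hv)))⟩

omit hF K in
theorem conjSet_mem_of_mem {H : Subgroup G} {x u g : G} (hu : u ∈ conjSet H x) (hg : g ∈ H) :
    g * u * g⁻¹ ∈ conjSet H x := by
  obtain ⟨h, hh, rfl⟩ := hu
  exact ⟨g * h, mul_mem hg hh, by group⟩

theorem Config.four_subset {u : G} (hu : u ∈ fourGroup c.y) (hu1 : u ≠ 1) :
    u ∈ conjSet c.N c.t := by
  obtain ⟨w, hw, e⟩ := hF.four_transitive K c.hP c.hy c.hy1 c.ht hu c.t_ne hu1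
  exact ⟨w, c.P_le_N hF K hw, e⟩

theorem Config.orbit_subset {u : G} (hu : u ∈ conjSet c.N c.t) : u ∈ c.E ∧ u ≠ 1 := by
  obtain ⟨n, hn, rfl⟩ := hu
  refine ⟨conj_mem_of_mem_normalizer hn (c.four_le_E.1 c.ht), fun e => c.t_ne ?_⟩
  rw [mul_inv_eq_one, mul_eq_left] at e
  exact e

/-- If the orbit of `t` meets the mixed elements it is all fifteen involutions. -/
theorem Config.orbit_of_mixed {x : G} (hx : c.Mixed x) (hxO : x ∈ conjSet c.N c.t) :
    ∀ z ∈ c.E, z ≠ 1 → z ∈ conjSet c.N c.t := by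
  have hmix : ∀ z, c.Mixed z → z ∈ conjSet c.N c.t := by
    rintro z ⟨u', hu', v', hv', hu1', hv1', rfl⟩
    obtain ⟨u, hu, v, hv, hu1, hv1, rfl⟩ := hx
    obtain ⟨i, hi⟩ := hF.four_cycle K c.hP c.hy c.hy1 c.hb c.hby hu hu1 hu' hu1'
    obtain ⟨j, hj⟩ := hF.four_cycle K c.hP c.hb c.hb1 c.hy c.hyb hv hv1 hv' hv1'
    have hyu : ∀ z ∈ fourGroup c.y, c.y ^ j * z * (c.y ^ j)⁻¹ = z := fun z hz => by
      rw [← (((hF.mem_four K c.y3 z).1 hz).2.pow_right j).eq, mul_inv_cancel_right]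
    have hbv : ∀ z ∈ fourGroup c.b, c.b ^ i * z * (c.b ^ i)⁻¹ = z := fun z hz => by
      rw [← (((hF.mem_four K c.b3 z).1 hz).2.pow_right i).eq, mul_inv_cancel_right]
    have hm := conjSet_mem_of_mem hxO (c.P_le_N hF K
      (mul_mem (pow_mem c.hy j) (pow_mem c.hb i)))
    have e : c.y ^ j * c.b ^ i * (u * v) * (c.y ^ j * c.b ^ i)⁻¹ = u' * v' := by
      calc c.y ^ j * c.b ^ i * (u * v) * (c.y ^ j * c.b ^ i)⁻¹
          = (c.y ^ j * (c.b ^ i * u * (c.b ^ i)⁻¹) * (c.y ^ j)⁻¹) *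
            (c.y ^ j * (c.b ^ i * v * (c.b ^ i)⁻¹) * (c.y ^ j)⁻¹) := by group
        _ = u' * v' := by rw [hi, hbv v hv, hyu u' hu', hj]
    rwa [e] at hm
  by_contra hcon
  push Not at hcon
  obtain ⟨z, hzE, hz1, hzO⟩ := hcon
  have hzb : z ∈ fourGroup c.b := by
    rcases c.cases_E hzE with h | h | h
    · exact absurd (c.four_subset hF K h hz1) hzO
    · exact h
    · exact absurd (hmix z h) hzO
  have hO : conjSet c.N c.t = (c.E : Set G) \ (fourGroup c.b : Set G) := by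
    ext u
    constructor
    · intro hu
      refine ⟨(c.orbit_subset hF K hu).1, fun hub => hzO ?_⟩
      obtain ⟨w, hw, e⟩ := hF.four_transitive K c.hP c.hb c.hb1 hub hzb (c.orbit_subset hF K hu).2 hz1
      rw [← e]
      exact conjSet_mem_of_mem hu (c.P_le_N hF K hw)
    · rintro ⟨huE, hub⟩
      rcases c.cases_E huE with h | h | h
      · exact c.four_subset hF K h fun e => hub (e ▸ one_mem _)
      · exact absurd h hub
      · exact hmix u h
  have h12 : (conjSet c.N c.t).ncard = 12 := by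
    rw [hO, Set.ncard_sdiff (fun z hz => c.four_le_E.2 hz), ← Nat.card_coe_set_eq,
      ← Nat.card_coe_set_eq]
    show Nat.card c.E - Nat.card (fourGroup c.b) = 12
    rw [c.card_E hF K, (hF.fourGroup_spec K c.b3).1]
  have h := card_conjSet_mul c.N c.t
  rw [h12] at h
  have hd := c.N.card_subgroup_dvd_card
  rw [hF.card, ← h] at hd
  rcases c.card_N_inf hF K with e | e <;> rw [e] at hd <;> norm_num at hd

/-- Some mixed element is conjugate to `t` in the normaliser. -/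
theorem Config.exists_mixed : ∃ x, c.Mixed x ∧ x ∈ conjSet c.N c.t := by
  classical
  by_contra hcon
  push Not at hcon
  -- the union of the two four groups is then invariant
  have hU : ∀ n ∈ c.N, ∀ x, x ∈ fourGroup c.y ∨ x ∈ fourGroup c.b →
      n * x * n⁻¹ ∈ fourGroup c.y ∨ n * x * n⁻¹ ∈ fourGroup c.b := by
    intro n hn x hx
    by_cases hx1 : x = 1
    · exact Or.inl (by rw [hx1, mul_one, mul_inv_cancel]; exact one_mem _)
    rcases hx with hx | hx
    · have hO := conjSet_mem_of_mem (c.four_subset hF K hx hx1) hn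
      rcases c.cases_E (c.orbit_subset hF K hO).1 with h | h | h
      · exact Or.inl h
      · exact Or.inr h
      · exact absurd hO (hcon _ h)
    · obtain ⟨c', -, hy', hb', ht', hE'⟩ := c.exists_swap hF K hx hx1
      have hN' : c'.N = c.N := by simp only [Config.N, hE']
      have hO : n * x * n⁻¹ ∈ conjSet c'.N c'.t := ⟨n, hN' ▸ hn, by rw [ht']⟩
      rcases c'.cases_E (c'.orbit_subset hF K hO).1 with h | h | h
      · exact Or.inr (hy' ▸ h)
      · exact Or.inl (hb' ▸ h)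
      · exfalso
        have hall := c'.orbit_of_mixed hF K h hO
        obtain ⟨m, hm, hme⟩ := hall c.t (hE' ▸ c.four_le_E.1 c.ht) c.t_ne
        obtain ⟨u, hu, v, hv, hu1, hv1, e⟩ := h
        refine hcon (n * x * n⁻¹) ⟨v, hb' ▸ hv, u, hy' ▸ hu, hv1, hu1, ?_⟩ ?_
        · rw [e]; exact (c'.hcomm u hu v hv).eq
        · refine ⟨n * m⁻¹, mul_mem hn (inv_mem (hN' ▸ hm)), ?_⟩
          rw [← hme, ht']; group
  set M := c.N ⊓ centralizer ({c.t} : Set G) with hM
  -- the stabiliser of `t` preserves both four groups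
  have hMy : ∀ m ∈ M, ∀ x ∈ fourGroup c.y, m * x * m⁻¹ ∈ fourGroup c.y := by
    intro m hm x hx
    obtain ⟨hmN, hmC⟩ := mem_inf.1 hm
    have hmt : m * c.t * m⁻¹ = c.t := by
      rw [mem_centralizer_singleton_iff.1 hmC, mul_inv_cancel_right]
    rcases hU m hmN x (Or.inl hx) with h | h
    · exact h
    by_cases hx1 : m * x * m⁻¹ = 1
    · rw [hx1]; exact one_mem _
    exfalso
    have hmix : c.Mixed (c.t * (m * x * m⁻¹)) := ⟨_, c.ht, _, h, c.t_ne, hx1, rfl⟩
    obtain ⟨n1, n2⟩ := hmix.not_mem hF K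
    have e : c.t * (m * x * m⁻¹) = m * (c.t * x) * m⁻¹ := by
      calc c.t * (m * x * m⁻¹) = m * c.t * m⁻¹ * (m * x * m⁻¹) := by rw [hmt]
        _ = m * (c.t * x) * m⁻¹ := by group
    rw [e] at n1 n2
    exact (hU m hmN _ (Or.inl (mul_mem c.ht hx))).elim n1 n2
  have hMb : ∀ m ∈ M, ∀ x ∈ fourGroup c.b, m * x * m⁻¹ ∈ fourGroup c.b := by
    intro m hm x hx
    rcases hU m (mem_inf.1 hm).1 x (Or.inr hx) with h | h
    · have h1 := hMy m⁻¹ (inv_mem hm) _ h
      rw [show m⁻¹ * (m * x * m⁻¹) * m⁻¹⁻¹ = x by group] at h1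
      rw [c.disjoint hF K h1 hx, mul_one, mul_inv_cancel]
      exact one_mem _
    · exact h
  obtain ⟨u, hu, hu1, hut⟩ : ∃ u ∈ fourGroup c.y, u ≠ 1 ∧ u ≠ c.t := by
    obtain ⟨w, hw, hwy⟩ : ∃ w ∈ c.P, w ∉ zpowers c.y := ⟨c.b, c.hb, c.hby⟩
    have hwy' : w * c.y * w⁻¹ = c.y := by rw [(c.hP.comm _ hw _ c.hy).eq, mul_inv_cancel_right]
    have hw1 : w ≠ 1 := fun e => hwy (e ▸ one_mem _)
    refine ⟨w * c.t * w⁻¹, hF.four_conj K c.y3 (Or.inl hwy') c.ht, fun e => c.t_ne (by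
      rw [mul_inv_eq_one, mul_eq_left] at e; exact e), fun e => c.t_ne ?_⟩
    exact hF.four_disjoint K c.hP c.hy c.hy1 hw hw1 hwy c.ht
      ((hF.mem_four K (c.hP.orderOf_eq hw hw1) _).2 ⟨((hF.mem_four K c.y3 _).1 c.ht).1,
        (show Commute w c.t from mul_inv_eq_iff_eq_mul.1 e).symm⟩)
  obtain ⟨v₁, hv₁, hv₁o⟩ := hF.exists_involution_four K c.b3
  have hv₁1 : v₁ ≠ 1 := fun e => by rw [e, orderOf_one] at hv₁o; norm_num at hv₁o
  set v₂ := c.y * v₁ * c.y⁻¹ with hv₂
  have hyb' : c.y * c.b * c.y⁻¹ = c.b := by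
    rw [(c.hP.comm _ c.hy _ c.hb).eq, mul_inv_cancel_right]
  have hv₂m : v₂ ∈ fourGroup c.b := hF.four_conj K c.b3 (Or.inl hyb') hv₁
  have hv₂1 : v₂ ≠ 1 := fun e => hv₁1 (by rw [hv₂, mul_inv_eq_one, mul_eq_left] at e; exact e)
  have hv12 : v₁ ≠ v₂ := fun e => hv₁1 (c.disjoint hF K
    ((hF.mem_four K c.y3 _).2 ⟨((hF.mem_four K c.b3 _).1 hv₁).1,
      (show Commute c.y v₁ from mul_inv_eq_iff_eq_mul.1 e.symm).symm⟩) hv₁)
  -- the elements of `M` fixing everything lie in `E`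
  have hfix : M ⊓ centralizer ({u} : Set G) ⊓ centralizer ({v₁} : Set G) ⊓
      centralizer ({v₂} : Set G) ≤ c.E := by
    intro g hg
    simp only [mem_inf] at hg
    obtain ⟨⟨⟨⟨-, hgt⟩, hgu⟩, hg1⟩, hg2⟩ := hg
    rw [← c.centralizer_E hF K]
    refine mem_centralizer_iff.2 fun x hx => ?_
    have hc : ∀ {z : G}, g ∈ centralizer ({z} : Set G) → Commute z g := fun h =>
      (mem_centralizer_singleton_iff.1 h).symm
    obtain ⟨p, hp, q, hq, rfl⟩ := (c.mem_E x).1 hx
    have hpg : Commute p g := by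
      rcases hF.four_triple K c.y3 c.ht hu c.t_ne hu1 (Ne.symm hut) hp with f | f | f | f <;> rw [f]
      · exact Commute.one_left g
      · exact hc hgt
      · exact hc hgu
      · exact (hc hgt).mul_left (hc hgu)
    have hqg : Commute q g := by
      rcases hF.four_triple K c.b3 hv₁ hv₂m hv₁1 hv₂1 hv12 hq with f | f | f | f <;> rw [f]
      · exact Commute.one_left g
      · exact hc hg1
      · exact hc hg2
      · exact (hc hg1).mul_left (hc hg2)
    exact (hpg.mul_left hqg).eq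
  have horb : ∀ {a : G} (ha : orderOf a = 3) (H : Subgroup G),
      (∀ m ∈ H, ∀ x ∈ fourGroup a, m * x * m⁻¹ ∈ fourGroup a) → ∀ {x z : G}, x ∈ fourGroup a →
      (z = 1 ∨ (z ∈ fourGroup a ∧ z ≠ 1 ∧ x ≠ z ∧ ∀ m ∈ H, m * z * m⁻¹ = z)) → x ≠ 1 →
      Nat.card H ≤ (if z = 1 then 3 else 2) *
        Nat.card (H ⊓ centralizer ({x} : Set G) : Subgroup G) := by
    intro a ha H hH x z hx hz hx1
    rw [← card_conjSet_mul H x]
    refine Nat.mul_le_mul_right _ ?_
    have hsub : conjSet H x ⊆ ((fourGroup a : Set G) \ {1, z}) := by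
      rintro _ ⟨m, hm, rfl⟩
      refine ⟨hH m hm x hx, ?_⟩
      have h1 : m * x * m⁻¹ ≠ 1 := fun e => hx1 (by rw [mul_inv_eq_one, mul_eq_left] at e; exact e)
      rintro (e | e)
      · exact h1 e
      · rcases hz with hz | ⟨-, -, hxz, hfixz⟩
        · exact h1 (e.trans hz)
        · exact hxz (mul_left_cancel (mul_right_cancel (e.trans (hfixz m hm).symm)))
    refine (Set.ncard_le_ncard hsub).trans ?_
    have h4 : (fourGroup a : Set G).ncard = 4 := by
      rw [← Nat.card_coe_set_eq]; exact (hF.fourGroup_spec K ha).1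
    split_ifs with h
    · rw [h, Set.pair_eq_singleton, Set.ncard_sdiff (by simp [one_mem]), h4, Set.ncard_singleton]
    · have hz' := hz.resolve_left h
      rw [Set.ncard_sdiff (Set.insert_subset (one_mem _) (Set.singleton_subset_iff.2 hz'.1)), h4,
        Set.ncard_pair (Ne.symm h)]
  have hMt : ∀ m ∈ M, m * c.t * m⁻¹ = c.t := fun m hm => by
    rw [mem_centralizer_singleton_iff.1 (mem_inf.1 hm).2, mul_inv_cancel_right]
  have hbound : Nat.card M ≤ 192 := by
    set M1 := M ⊓ centralizer ({u} : Set G)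
    set M2 := M1 ⊓ centralizer ({v₁} : Set G)
    have b1 := horb c.y3 M hMy hu (Or.inr ⟨c.ht, c.t_ne, hut, hMt⟩) hu1
    have b2 := horb c.b3 M1 (fun m hm => hMb m (mem_inf.1 hm).1) (z := 1) hv₁ (Or.inl rfl) hv₁1
    have b3 := horb c.b3 M2 (fun m hm => hMb m (mem_inf.1 (mem_inf.1 hm).1).1) hv₂m
      (Or.inr ⟨hv₁, hv₁1, hv12.symm, fun m hm => by
        rw [mem_centralizer_singleton_iff.1 (mem_inf.1 hm).2, mul_inv_cancel_right]⟩) hv₂1
    rw [if_neg c.t_ne] at b1
    rw [if_pos rfl] at b2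
    rw [if_neg hv₁1] at b3
    replace b1 : Nat.card M ≤ 2 * Nat.card M1 := b1
    replace b2 : Nat.card M1 ≤ 3 * Nat.card M2 := b2
    have b4 := Nat.le_of_dvd Nat.card_pos (card_dvd_of_le hfix)
    rw [c.card_E hF K] at b4
    omega
  have h192 : Nat.card M = 192 := by
    rcases c.card_N_inf hF K with e | e
    · exact e
    · rw [← hM] at e; omega
  -- an element inverting `y` moves the subgroup of order sixteen
  obtain ⟨g, hgt, hgy⟩ := hF.exists_inverter K c.hto c.y3 (c.t_commute_y hF K)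
  have hyC : c.y ∈ centralizer ({c.t} : Set G) :=
    mem_centralizer_singleton_iff.2 (c.t_commute_y hF K).symm.eq
  have hgC : g ∈ centralizer ({c.t} : Set G) := mem_centralizer_singleton_iff.2 hgt.eq
  have hgN : g ∉ c.N := by
    intro hgN
    have hgM : g ∈ M := mem_inf.2 ⟨hgN, hgC⟩
    have hyM : c.y ∈ M := mem_inf.2 ⟨c.P_le_N hF K c.hy, hyC⟩
    have hQM : c.Q ≤ M := le_inf (c.Q_le_N hF K) c.hQle
    have : (c.Q.subgroupOf M).Normal :=
      normal_subgroupOf_of_le_normalizer (inf_le_right.trans c.hQn)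
    have hidx : (c.Q.subgroupOf M).index = 3 := by
      have h := (c.Q.subgroupOf M).card_mul_index
      rw [Nat.card_congr (subgroupOfEquivOfLe hQM).toEquiv, c.hQcard, h192] at h
      omega
    have : Fact (Nat.Prime 3) := ⟨Nat.prime_three⟩
    have := isCyclic_of_prime_card (α := M ⧸ c.Q.subgroupOf M) (p := 3)
      (by rw [← Subgroup.index_eq_card, hidx])
    let g' : M := ⟨g, hgM⟩
    let y' : M := ⟨c.y, hyM⟩
    have h1 : ((g' * y' * g'⁻¹ : M) : M ⧸ c.Q.subgroupOf M) = (y' : M ⧸ c.Q.subgroupOf M) := by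
      rw [QuotientGroup.mk_mul, QuotientGroup.mk_mul,
        IsCyclic.isMulCommutative.is_comm.comm (g' : M ⧸ c.Q.subgroupOf M), QuotientGroup.mk_inv,
        mul_inv_cancel_right]
    have h2 : ((g' * y' * g'⁻¹ : M))⁻¹ * y' ∈ c.Q.subgroupOf M := QuotientGroup.eq.1 h1
    rw [mem_subgroupOf] at h2
    have h3 : (g * c.y * g⁻¹)⁻¹ * c.y ∈ c.Q := h2
    rw [hgy, inv_inv] at h3
    refine c.hQy ?_
    have hy3 : c.y ^ 3 = 1 := c.y3 ▸ pow_orderOf_eq_one c.y
    have h4 := inv_mem h3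
    rwa [show (c.y * c.y)⁻¹ = c.y from inv_eq_of_mul_eq_one_right (by rw [← sq, ← pow_succ, hy3])]
      at h4
  set E' := c.E.map (MulAut.conj g).toMonoidHom with hE'
  have hE'Q : E' ≤ c.Q := by
    rintro _ ⟨x, hx, rfl⟩
    exact conj_mem_of_mem_normalizer (c.hQn hgC) (c.E_le_Q hF K hx)
  have hnE : ¬ E' ≤ c.E := fun h => hgN (mem_normalizer_of_conj fun x hx => h (mem_map_of_mem _ hx))
  set S := c.E ⊔ E' with hS
  have hSQ : S ≤ c.Q := sup_le (c.E_le_Q hF K) hE'Q
  have hSK : S ≤ centralizer (fourGroup c.y : Set G) := by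
    refine sup_le (fun x hx => mem_centralizer_iff.2 fun z hz =>
      (c.E_commute hF K (c.four_le_E.1 hz) hx).eq) ?_
    rintro _ ⟨x, hx, rfl⟩
    refine mem_centralizer_iff.2 fun z hz => ?_
    have hy' : g⁻¹ * c.y * g⁻¹⁻¹ = c.y⁻¹ := by
      have h : c.y = g⁻¹ * c.y⁻¹ * g := by rw [← hgy]; group
      rw [inv_inv]
      calc g⁻¹ * c.y * g = (g⁻¹ * c.y⁻¹ * g)⁻¹ := by group
        _ = c.y⁻¹ := by rw [← h]
    have hz' : g⁻¹ * z * g⁻¹⁻¹ ∈ fourGroup c.y := hF.four_conj K c.y3 (Or.inr hy') hz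
    have h := (c.E_commute hF K (c.four_le_E.1 hz') hx).eq
    rw [inv_inv] at h
    show z * (g * x * g⁻¹) = g * x * g⁻¹ * z
    calc z * (g * x * g⁻¹) = g * (g⁻¹ * z * g * x) * g⁻¹ := by group
      _ = g * (x * (g⁻¹ * z * g)) * g⁻¹ := by rw [h]
      _ = g * x * g⁻¹ * z := by group
  have hSy : ∀ w ∈ S, c.y * w * c.y⁻¹ ∈ S := by
    have hle : S ≤ S.comap (MulAut.conj c.y).toMonoidHom := by
      refine sup_le (fun x hx => (le_sup_left : c.E ≤ S)
        (conj_mem_of_mem_normalizer (c.P_le_N hF K c.hy) hx)) ?_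
      rintro _ ⟨x, hx, rfl⟩
      refine (le_sup_right : E' ≤ S) ⟨c.y⁻¹ * x * c.y, ?_, ?_⟩
      · have := conj_mem_of_mem_normalizer (c.P_le_N hF K (inv_mem c.hy)) hx
        rwa [inv_inv] at this
      · show g * (c.y⁻¹ * x * c.y) * g⁻¹ = c.y * (g * x * g⁻¹) * c.y⁻¹
        have e : g * c.y⁻¹ = c.y * g := by
          have h := congrArg (·⁻¹) hgy
          simp only [mul_inv_rev, inv_inv] at h
          calc g * c.y⁻¹ = g * (c.y⁻¹ * g⁻¹) * g := by group
            _ = c.y * g := by rw [h]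
        calc g * (c.y⁻¹ * x * c.y) * g⁻¹ = g * c.y⁻¹ * x * (g * c.y⁻¹)⁻¹ := by group
          _ = c.y * g * x * (c.y * g)⁻¹ := by rw [e]
          _ = c.y * (g * x * g⁻¹) * c.y⁻¹ := by group
    exact fun w hw => hle hw
  have h31 : Nat.card S % 3 = 1 := by
    rw [hF.card_mod_three K c.y3 hSy, show S ⊓ centralizer ({c.y} : Set G) = fourGroup c.y from
      le_antisymm (c.hQfix ▸ inf_le_inf_right _ hSQ)
        (le_inf (c.four_le_E.1.trans le_sup_left) (hF.four_le_centralizer K c.y3)),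
      (hF.fourGroup_spec K c.y3).1]
  have hgt' : 16 < Nat.card S := by
    rw [← c.card_E hF K]
    refine lt_of_le_of_ne (Nat.le_of_dvd Nat.card_pos (card_dvd_of_le le_sup_left)) fun e => hnE ?_
    rw [Subgroup.eq_of_le_of_card_ge (le_sup_left : c.E ≤ S) e.ge]
    exact le_sup_right
  have hS64 : Nat.card S = 64 := by
    have hd : Nat.card S ∣ 2 ^ 6 := by
      rw [show (2 : ℕ) ^ 6 = 64 from rfl, ← c.hQcard]; exact card_dvd_of_le hSQ
    rcases two_pow_of_dvd hd (by omega) h31 (by norm_num) with e | e | e <;> omega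
  have hQK : c.Q ≤ centralizer (fourGroup c.y : Set G) :=
    Subgroup.eq_of_le_of_card_ge hSQ (by rw [hS64, c.hQcard]) ▸ hSK
  have hQM : c.Q ≤ M := le_inf (c.Q_le_N hF K) c.hQle
  -- `Q` fixes one of the three involutions of the second four group
  set v₃ := v₁ * v₂ with hv₃
  have hfixv : ∃ v ∈ fourGroup c.b, v ≠ 1 ∧ ∀ q ∈ c.Q, q * v * q⁻¹ = v := by
    by_contra hcon'
    push Not at hcon'
    have hcase : ∀ v ∈ fourGroup c.b, v ≠ 1 → (conjSet c.Q v).ncard = 2 := by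
      intro v hv hv1
      obtain ⟨q, hq, hqv⟩ := hcon' v hv hv1
      have h1 : 2 ≤ (conjSet c.Q v).ncard := by
        refine le_trans (le_of_eq (Set.ncard_pair hqv).symm) (Set.ncard_le_ncard ?_)
        rintro z (rfl | rfl)
        · exact ⟨q, hq, rfl⟩
        · exact ⟨1, one_mem _, by simp⟩
      have h2 : (conjSet c.Q v).ncard ≤ 3 := by
        have hsub : conjSet c.Q v ⊆ (fourGroup c.b : Set G) \ {1} := by
          rintro _ ⟨m, hm, rfl⟩
          refine ⟨hMb m (hQM hm) v hv, fun e => hv1 ?_⟩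
          rw [Set.mem_singleton_iff, mul_inv_eq_one, mul_eq_left] at e
          exact e
        refine (Set.ncard_le_ncard hsub).trans ?_
        rw [Set.ncard_sdiff (by simp [one_mem]), Set.ncard_singleton, ← Nat.card_coe_set_eq]
        exact le_of_eq (by
          show Nat.card (fourGroup c.b) - 1 = 3
          rw [(hF.fourGroup_spec K c.b3).1])
      have h3 : (conjSet c.Q v).ncard ∣ 64 := Dvd.intro _ (c.hQcard ▸ card_conjSet_mul c.Q v)
      interval_cases h : (conjSet c.Q v).ncard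
      · rfl
      · norm_num at h3
    have hmem : ∀ {v z}, z ∈ conjSet c.Q v → conjSet c.Q z = conjSet c.Q v := by
      intro v z hz
      ext w
      obtain ⟨h, hh, rfl⟩ := hz
      constructor
      · rintro ⟨k, hk, rfl⟩
        exact ⟨k * h, mul_mem hk hh, by group⟩
      · rintro ⟨k, hk, rfl⟩
        exact ⟨k * h⁻¹, mul_mem hk (inv_mem hh), by group⟩
    have hself : ∀ v : G, v ∈ conjSet c.Q v := fun v => ⟨1, one_mem _, by simp⟩
    have hthree : ∀ {v z}, v ∈ fourGroup c.b → v ≠ 1 → z ∈ conjSet c.Q v →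
        z = v₁ ∨ z = v₂ ∨ z = v₃ := by
      rintro v _ hv hv1 ⟨m, hm, rfl⟩
      rcases hF.four_triple K c.b3 hv₁ hv₂m hv₁1 hv₂1 hv12 (hMb m (hQM hm) v hv) with f | f | f | f
      · exact absurd (by rw [mul_inv_eq_one, mul_eq_left] at f; exact f) hv1
      · exact Or.inl f
      · exact Or.inr (Or.inl f)
      · exact Or.inr (Or.inr f)
    have hv₃m : v₃ ∈ fourGroup c.b := mul_mem hv₁ hv₂m
    have hv₃1 : v₃ ≠ 1 := fun e => hv12 (mul_left_cancel
      (((hF.mem_four K c.b3 _).1 hv₁).1.trans e.symm))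
    have n13 : v₁ ≠ v₃ := fun e => hv₂1 (mul_left_cancel (a := v₁) (by rw [mul_one]; exact e.symm))
    have n23 : v₂ ≠ v₃ := fun e => hv₁1 (mul_right_cancel (b := v₂) (by rw [one_mul]; exact e.symm))
    obtain ⟨a, b, hab, hset⟩ := Set.ncard_eq_two.1 (hcase v₁ hv₁ hv₁1)
    have hsame : ∀ z, z = v₁ ∨ z = v₂ ∨ z = v₃ → z ∈ conjSet c.Q v₁ := by
      intro z hz
      by_contra hzn
      have hzm : z ∈ fourGroup c.b ∧ z ≠ 1 := by
        rcases hz with rfl | rfl | rfl <;> exact ⟨by assumption, by assumption⟩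
      obtain ⟨p, q, hpq, hsetz⟩ := Set.ncard_eq_two.1 (hcase z hzm.1 hzm.2)
      have hd : ∀ w ∈ conjSet c.Q z, w ∉ conjSet c.Q v₁ := fun w hw hw' =>
        hzn (hmem hw' ▸ (hmem hw).symm ▸ hself z)
      have ha := hthree hv₁ hv₁1 (show a ∈ conjSet c.Q v₁ by rw [hset]; simp)
      have hb := hthree hv₁ hv₁1 (show b ∈ conjSet c.Q v₁ by rw [hset]; simp)
      have hp := hthree hzm.1 hzm.2 (show p ∈ conjSet c.Q z by rw [hsetz]; simp)
      have hq := hthree hzm.1 hzm.2 (show q ∈ conjSet c.Q z by rw [hsetz]; simp)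
      have hp' : p ≠ a ∧ p ≠ b := by
        constructor <;> intro e <;>
          exact hd p (by rw [hsetz]; simp) (by rw [hset, e]; simp)
      have hq' : q ≠ a ∧ q ≠ b := by
        constructor <;> intro e <;>
          exact hd q (by rw [hsetz]; simp) (by rw [hset, e]; simp)
      obtain ⟨pa, pb⟩ := hp'
      obtain ⟨qa, qb⟩ := hq'
      rcases ha with rfl | rfl | rfl <;> rcases hb with rfl | rfl | rfl <;>
        rcases hp with rfl | rfl | rfl <;> rcases hq with rfl | rfl | rfl <;>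
        first | exact hab rfl | exact hpq rfl | exact pa rfl | exact pb rfl | exact qa rfl | exact qb rfl
    have h3 : ({v₁, v₂, v₃} : Set G).ncard = 3 := by
      rw [Set.ncard_insert_of_notMem (by simp [hv12, n13]), Set.ncard_pair n23]
    have h4 := Set.ncard_le_ncard (show ({v₁, v₂, v₃} : Set G) ⊆ conjSet c.Q v₁ from fun z hz =>
      hsame z hz)
    rw [h3, hcase v₁ hv₁ hv₁1] at h4
    omega
  obtain ⟨v, hv, hv1, hvQ⟩ := hfixv
  obtain ⟨w, hw, hw1, hwv⟩ : ∃ w ∈ fourGroup c.b, w ≠ 1 ∧ w ≠ v := by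
    by_cases h : v₁ = v
    · exact ⟨v₂, hv₂m, hv₂1, h ▸ hv12.symm⟩
    · exact ⟨v₁, hv₁, hv₁1, h⟩
  have b1 := horb c.b3 c.Q (fun m hm => hMb m (hQM hm)) hw (Or.inr ⟨hv, hv1, hwv, hvQ⟩) hw1
  rw [if_neg hv1, c.hQcard] at b1
  have b2 : c.Q ⊓ centralizer ({w} : Set G) ≤ c.E := by
    intro g hg
    obtain ⟨hgQ, hgw⟩ := mem_inf.1 hg
    rw [← c.centralizer_E hF K]
    refine mem_centralizer_iff.2 fun x hx => ?_
    obtain ⟨p, hp, q, hq, rfl⟩ := (c.mem_E x).1 hx
    have hpg : Commute p g := commute_of_mem_centralizer (hQK hgQ) hp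
    have hvg : Commute v g := (mul_inv_eq_iff_eq_mul.1 (hvQ g hgQ) : g * v = v * g).symm
    have hwg : Commute w g := (mem_centralizer_singleton_iff.1 hgw).symm
    have hqg : Commute q g := by
      rcases hF.four_triple K c.b3 hv hw hv1 hw1 hwv.symm hq with f | f | f | f <;> rw [f]
      · exact Commute.one_left g
      · exact hvg
      · exact hwg
      · exact hvg.mul_left hwg
    exact (hpg.mul_left hqg).eq
  have b3 := Nat.le_of_dvd Nat.card_pos (card_dvd_of_le b2)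
  rw [c.card_E hF K] at b3
  omega

/-- The normaliser of the product of the four groups has index 77. -/
theorem Config.card_N : Nat.card c.N = 5760 := by
  classical
  obtain ⟨x, hx, hxO⟩ := c.exists_mixed hF K
  have hall := c.orbit_of_mixed hF K hx hxO
  have hO : conjSet c.N c.t = (c.E : Set G) \ {1} := Set.ext fun u =>
    ⟨fun hu => ⟨(c.orbit_subset hF K hu).1, fun e => (c.orbit_subset hF K hu).2 e⟩,
      fun hu => hall u hu.1 fun e => hu.2 e⟩
  have h15 : (conjSet c.N c.t).ncard = 15 := by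
    rw [hO, Set.ncard_sdiff (by simp [one_mem]), Set.ncard_singleton, ← Nat.card_coe_set_eq]
    show Nat.card c.E - 1 = 15
    rw [c.card_E hF K]
  have hN := card_conjSet_mul c.N c.t
  rw [h15] at hN
  rcases c.card_N_inf hF K with e | e
  swap
  · rw [← hN, e]
  exfalso
  rw [e] at hN
  -- a normal complement to a Sylow subgroup of order five
  have : Fact (Nat.Prime 5) := ⟨Nat.prime_five⟩
  obtain ⟨R⟩ : Nonempty (Sylow 5 c.N) := Sylow.nonempty
  have hR : Nat.card (R : Subgroup c.N) = 5 := by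
    rw [Sylow.card_eq_multiplicity, ← hN, show 15 * 192 = 5 ^ 1 * 576 from rfl,
      Nat.factorization_mul (by norm_num) (by norm_num), Finsupp.add_apply,
      Nat.factorization_eq_zero_of_not_dvd (by norm_num : ¬ 5 ∣ 576),
      Nat.Prime.factorization_pow Nat.prime_five, Finsupp.single_eq_same]
    norm_num
  set R' := (R : Subgroup c.N).map c.N.subtype with hR'def
  have hR' : Nat.card R' = 5 := by
    rw [hR'def, Subgroup.card_map_of_injective c.N.subtype_injective, hR]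
  obtain ⟨T, hT⟩ := (IsPGroup.of_card (p := 5) (n := 1) (by rw [hR', pow_one])).exists_le_sylow
  obtain ⟨hS, hC⟩ := hF.setup 5 4 (by simp) T
  have hTR : R' = (T : Subgroup G) := Subgroup.eq_of_le_of_card_ge hT (by rw [hS.card, hR'])
  have hNT : Nat.card (normalizer (T : Set G)) = 20 := by
    rw [hS.card_normalizer, show Nat.card (centralizer (T : Set G)) = 5 from
      (congrArg (fun H : Subgroup G => Nat.card H) hC).trans hS.card]
  set NR := normalizer ((R : Subgroup c.N) : Set c.N) with hNR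
  have hd20 : Nat.card NR ∣ 20 := by
    rw [← hNT, ← Subgroup.card_map_of_injective c.N.subtype_injective]
    refine card_dvd_of_le ?_
    rintro _ ⟨n, hn, rfl⟩
    refine mem_normalizer_of_conj fun z hz => ?_
    obtain ⟨r, hr, rfl⟩ : z ∈ R' := hTR.symm ▸ hz
    exact hTR ▸ ⟨n * r * n⁻¹, conj_mem_of_mem_normalizer hn hr, rfl⟩
  have h5 : 5 ∣ Nat.card NR := hR ▸ card_dvd_of_le Subgroup.le_normalizer
  have hn5 : Nat.card (Sylow 5 c.N) ≡ 1 [MOD 5] := card_sylow_modEq_one 5 c.N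
  rw [Sylow.card_eq_index_normalizer R] at hn5
  have hn5' : NR.index % 5 = 1 := hn5
  have hmul := NR.card_mul_index
  rw [← hN] at hmul
  have hNR5 : Nat.card NR = 5 := by
    have hle : Nat.card NR ≤ 20 := Nat.le_of_dvd (by norm_num) hd20
    have hp : 0 < Nat.card NR := Nat.card_pos
    obtain ⟨k, hk⟩ := h5
    have : k ≤ 4 := by omega
    interval_cases k
    · omega
    · omega
    · rw [hk] at hmul; omega
    · rw [hk] at hd20; norm_num at hd20
    · rw [hk] at hmul; omega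
  have hle : NR ≤ centralizer ((R : Subgroup c.N) : Set c.N) := by
    have heq : (R : Subgroup c.N) = NR :=
      Subgroup.eq_of_le_of_card_ge Subgroup.le_normalizer (by rw [hNR5, hR])
    have := isCyclic_of_prime_card (α := (R : Subgroup c.N)) (p := 5) hR
    intro g hg
    refine mem_centralizer_iff.2 fun r hr => ?_
    exact congrArg Subtype.val
      (IsCyclic.isMulCommutative.is_comm.comm (⟨r, hr⟩ : (R : Subgroup c.N)) ⟨g, heq.symm ▸ hg⟩)
  set L := (MonoidHom.transferSylow R hle).ker with hL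
  have hcomp := MonoidHom.ker_transferSylow_isComplement' R hle
  have hLidx : L.index = 5 := hcomp.symm.index_eq_card.trans hR
  have hLcard : Nat.card L = 576 := by
    have h := L.card_mul_index
    rw [hLidx, ← hN] at h
    omega
  have hin : ∀ g : c.N, ¬ 5 ∣ orderOf g → g ∈ L := by
    intro g hg
    have h1 : orderOf (g : c.N ⧸ L) ∣ 5 := by
      exact (_root_.orderOf_dvd_natCard _).trans
        (dvd_of_eq ((Subgroup.index_eq_card L).symm.trans hLidx))
    have h2 : orderOf (g : c.N ⧸ L) ∣ orderOf g :=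
      orderOf_map_dvd (QuotientGroup.mk' L) g
    refine (QuotientGroup.eq_one_iff g).1 (orderOf_eq_one_iff.1 ?_)
    rcases (Nat.dvd_prime Nat.prime_five).1 h1 with h | h
    · exact h
    · exact absurd (h ▸ h2) hg
  obtain ⟨u, hu, v, hv, hu1, hv1, hxe⟩ := hx
  obtain ⟨n, hn, hne⟩ := hxO
  let n' : c.N := ⟨n, hn⟩
  set D := c.N ⊓ centralizer ({c.t} : Set G) with hD
  let f : c.P × D → L := fun p => ⟨⟨(p.1 : G), c.P_le_N hF K p.1.2⟩ *
      (n' * ⟨(p.2 : G), (mem_inf.1 p.2.2).1⟩ * n'⁻¹), by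
    refine mul_mem (hin _ ?_) ((inferInstance : L.Normal).conj_mem _ (hin _ ?_) _)
    · rw [← Subgroup.orderOf_coe]
      intro h5'
      have := h5'.trans (orderOf_dvd_of_pow_eq_one (c.hP.exp _ p.1.2))
      norm_num at this
    · rw [← Subgroup.orderOf_coe]
      intro h5'
      have h := h5'.trans (D.orderOf_dvd_natCard p.2.2)
      rw [e] at h
      norm_num at h⟩
  have hf : Function.Injective f := by
    rintro ⟨a, d⟩ ⟨a', d'⟩ h
    have h' : (a : G) * (n * d * n⁻¹) = a' * (n * d' * n⁻¹) :=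
      congrArg (fun z : L => ((z : c.N) : G)) h
    have hzP : (a' : G)⁻¹ * a ∈ c.P := mul_mem (inv_mem a'.2) a.2
    have hze : (a' : G)⁻¹ * a = n * (d' * (d : G)⁻¹) * n⁻¹ := by
      calc (a' : G)⁻¹ * a = (a' : G)⁻¹ * (a * (n * d * n⁻¹)) * (n * (d : G)⁻¹ * n⁻¹) := by group
        _ = n * (d' * (d : G)⁻¹) * n⁻¹ := by rw [h']; group
    have hzc : Commute ((a' : G)⁻¹ * a) x := by
      rw [hze, ← hne]
      have hdt : Commute ((d' : G) * (d : G)⁻¹) c.t :=
        mem_centralizer_singleton_iff.1 (mem_inf.1 (mul_mem d'.2 (inv_mem d.2))).2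
      show n * ((d' : G) * (d : G)⁻¹) * n⁻¹ * (n * c.t * n⁻¹) =
        n * c.t * n⁻¹ * (n * ((d' : G) * (d : G)⁻¹) * n⁻¹)
      rw [show n * ((d' : G) * (d : G)⁻¹) * n⁻¹ * (n * c.t * n⁻¹) =
        n * ((d' : G) * (d : G)⁻¹ * c.t) * n⁻¹ by group, hdt.eq]
      group
    set z := (a' : G)⁻¹ * a with hz
    have hzy : z * c.y * z⁻¹ = c.y := by rw [(c.hP.comm _ hzP _ c.hy).eq, mul_inv_cancel_right]
    have hzb : z * c.b * z⁻¹ = c.b := by rw [(c.hP.comm _ hzP _ c.hb).eq, mul_inv_cancel_right]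
    have hfx : z * u * z⁻¹ = u ∧ z * v * z⁻¹ = v := c.unique hF K
      (hF.four_conj K c.y3 (Or.inl hzy) hu) hu (hF.four_conj K c.b3 (Or.inl hzb) hv) hv
      (by rw [show z * u * z⁻¹ * (z * v * z⁻¹) = z * (u * v) * z⁻¹ by group, ← hxe, hzc.eq,
        mul_inv_cancel_right, hxe])
    have hz1 : z = 1 := by
      have h1 : z ∈ zpowers c.y := hF.not_commute_both K
        (orderOf_two_of_sq ((hF.mem_four K c.y3 u).1 hu).1 hu1) c.y3
        ((hF.mem_four K c.y3 u).1 hu).2 (mul_inv_eq_iff_eq_mul.1 hfx.1 : z * u = u * z).symm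
        (c.hP.comm _ c.hy _ hzP) (c.hP.exp _ hzP)
      have h2 : z ∈ zpowers c.b := hF.not_commute_both K
        (orderOf_two_of_sq ((hF.mem_four K c.b3 v).1 hv).1 hv1) c.b3
        ((hF.mem_four K c.b3 v).1 hv).2 (mul_inv_eq_iff_eq_mul.1 hfx.2 : z * v = v * z).symm
        (c.hP.comm _ c.hb _ hzP) (c.hP.exp _ hzP)
      by_contra hne1
      exact c.hby (zpowers_eq_of_mem c.y3 h1 hne1 ▸ (zpowers_eq_of_mem c.b3 h2 hne1).symm ▸
        mem_zpowers c.b)
    have hae : a = a' := Subtype.ext (inv_mul_eq_one.1 hz1).symm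
    subst hae
    exact Prod.ext rfl (Subtype.ext (by
      have := mul_left_cancel h'
      exact mul_left_cancel (mul_right_cancel this)))
  have h9 := Nat.card_le_card_of_injective f hf
  rw [Nat.card_prod, c.hP.card, e, hLcard] at h9
  omega

end Cfsg.Agent.M22Order
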