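import Cfsg.Agent.M22Order.Pairs
import Cfsg.Agent.Coprime.Generation

/-!
# Two-subgroups invariant under a Sylow 3-subgroup
-/

set_option autoImplicit false

namespace Cfsg.Agent.M22Order

open Subgroup

universe u

variable {G : Type u} [Group G] [Fintype G]

/-- A commutative subgroup of order nine and exponent three. -/
structure IsNine (P : Subgroup G) : Prop where
  card : Nat.card P = 9
  comm : ∀ a ∈ P, ∀ b ∈ P, Commute a b
  exp : ∀ a ∈ P, a ^ 3 = 1

theorem IsNine.orderOf_eq {P : Subgroup G} (hP : IsNine P) {a : G} (ha : a ∈ P) (h1 : a ≠ 1) :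
    orderOf a = 3 :=
  orderOf_eq_prime (hp := ⟨Nat.prime_three⟩) (hP.exp a ha) h1

theorem mem_zpowers_three {y x : G} (hy : orderOf y = 3) (hx : x ∈ zpowers y) :
    x = 1 ∨ x = y ∨ x = y⁻¹ := by
  obtain ⟨n, rfl⟩ := Subgroup.mem_zpowers_iff.1 hx
  rw [← zpow_mod_orderOf, hy]
  have h : n % ((3 : ℕ) : ℤ) = 0 ∨ n % ((3 : ℕ) : ℤ) = 1 ∨ n % ((3 : ℕ) : ℤ) = 2 := by omega
  rcases h with e | e | e <;> rw [e]
  · exact Or.inl (zpow_zero y)
  · exact Or.inr (Or.inl (zpow_one y))
  · refine Or.inr (Or.inr (eq_inv_of_mul_eq_one_left ?_))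
    rw [← zpow_add_one, show (2 : ℤ) + 1 = ((3 : ℕ) : ℤ) by norm_num, zpow_natCast, ← hy,
      pow_orderOf_eq_one]

theorem zpowers_eq_of_mem {y x : G} (hy : orderOf y = 3) (hx : x ∈ zpowers y) (h1 : x ≠ 1) :
    zpowers x = zpowers y := by
  refine Subgroup.eq_of_le_of_card_ge (zpowers_le.2 hx) ?_
  rcases mem_zpowers_three hy hx with e | e | e
  · exact absurd e h1
  · rw [e]
  · rw [e, zpowers_inv]

theorem commute_of_sq {a b : G} (ha : a * a = 1) (hb : b * b = 1) (hab : a * b * (a * b) = 1) :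
    Commute a b := by
  have h1 : (a * b)⁻¹ = a * b := inv_eq_of_mul_eq_one_right hab
  rw [mul_inv_rev, inv_eq_of_mul_eq_one_right hb, inv_eq_of_mul_eq_one_right ha] at h1
  exact h1.symm

theorem commute_of_mem_centralizer {H : Subgroup G} {x u : G}
    (hx : x ∈ centralizer (H : Set G)) (hu : u ∈ H) : Commute u x :=
  mem_centralizer_iff.1 hx u hu

theorem conj_mem_of_mem_normalizer {H : Subgroup G} {g x : G}
    (hg : g ∈ normalizer (H : Set G)) (hx : x ∈ H) : g * x * g⁻¹ ∈ H :=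
  (mem_normalizer_iff.1 hg x).1 hx

theorem mem_normalizer_of_conj {H : Subgroup G} {g : G} (h : ∀ x ∈ H, g * x * g⁻¹ ∈ H) :
    g ∈ normalizer (H : Set G) := by
  have hle : H.map (MulAut.conj g).toMonoidHom ≤ H := by
    rintro _ ⟨x, hx, rfl⟩
    exact h x hx
  have heq := Subgroup.eq_of_le_of_card_ge hle
    (Nat.card_congr (H.equivMapOfInjective _ (MulAut.conj g).injective).toEquiv).le
  refine mem_normalizer_iff.2 fun u => ⟨h u, fun hu => ?_⟩
  have hu' : g * u * g⁻¹ ∈ H.map (MulAut.conj g).toMonoidHom := heq.symm ▸ hu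
  obtain ⟨w, hw, hwe⟩ := hu'
  exact (MulAut.conj g).injective hwe ▸ hw

/-- The elements of a group of order four and exponent two, apart from the identity. -/
theorem Facts.four_triple (hF : Facts G) (K : Chars G) {y : G} (hy : orderOf y = 3) {u v : G}
    (hu : u ∈ fourGroup y) (hv : v ∈ fourGroup y) (hu1 : u ≠ 1) (hv1 : v ≠ 1) (huv : u ≠ v)
    {x : G} (hx : x ∈ fourGroup y) : x = 1 ∨ x = u ∨ x = v ∨ x = u * v := by
  classical
  by_contra h
  simp only [not_or] at h
  obtain ⟨h1, h2, h3, h4⟩ := h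
  have huu : u * u = 1 := ((hF.fourGroup_spec K hy).2 u).1 hu |>.1
  have huv1 : u * v ≠ 1 := fun e => huv (mul_left_cancel (huu.trans e.symm))
  have hsub : ({1, u, v, u * v, x} : Finset G) ⊆ Finset.univ.filter fun z => z ∈ fourGroup y := by
    intro z hz
    simp only [Finset.mem_insert, Finset.mem_singleton] at hz
    rcases hz with rfl | rfl | rfl | rfl | rfl <;> simp [one_mem, hu, hv, hx, mul_mem hu hv]
  have hc := Finset.card_le_card hsub
  have h5 := (hF.fourGroup_spec K hy).1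
  rw [Nat.card_eq_fintype_card, Fintype.card_subtype] at h5
  rw [h5] at hc
  have : ({1, u, v, u * v, x} : Finset G).card = 5 := by
    simp [Finset.card_insert_of_notMem, Ne.symm hu1, Ne.symm hv1, Ne.symm huv1, huv, hu1, hv1,
      Ne.symm h1, Ne.symm h2, Ne.symm h3, Ne.symm h4]
  omega

variable (hF : Facts G) (K : Chars G)
include hF K

theorem Facts.mem_four {y : G} (hy : orderOf y = 3) (x : G) :
    x ∈ fourGroup y ↔ x * x = 1 ∧ Commute x y :=
  (hF.fourGroup_spec K hy).2 x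

theorem Facts.four_commute {y : G} (hy : orderOf y = 3) {u v : G} (hu : u ∈ fourGroup y)
    (hv : v ∈ fourGroup y) : Commute u v :=
  commute_of_sq ((hF.mem_four K hy u).1 hu).1 ((hF.mem_four K hy v).1 hv).1
    ((hF.mem_four K hy _).1 (mul_mem hu hv)).1

theorem Facts.four_eq_of_zpowers {y a : G} (hy : orderOf y = 3) (ha : orderOf a = 3)
    (h : zpowers a = zpowers y) : fourGroup a = fourGroup y := by
  ext x
  rw [hF.mem_four K ha, hF.mem_four K hy]
  constructor <;> rintro ⟨h1, h2⟩ <;> refine ⟨h1, ?_⟩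
  · obtain ⟨j, hj⟩ := Subgroup.mem_zpowers_iff.1 (h ▸ mem_zpowers y : y ∈ zpowers a)
    rw [← hj]; exact h2.zpow_right j
  · obtain ⟨j, hj⟩ := Subgroup.mem_zpowers_iff.1 (h ▸ mem_zpowers a : a ∈ zpowers y)
    rw [← hj]; exact h2.zpow_right j

theorem Facts.four_conj {y g x : G} (hy : orderOf y = 3) (hg : g * y * g⁻¹ = y ∨ g * y * g⁻¹ = y⁻¹)
    (hx : x ∈ fourGroup y) : g * x * g⁻¹ ∈ fourGroup y := by
  obtain ⟨h1, h2⟩ := (hF.mem_four K hy x).1 hx
  refine (hF.mem_four K hy _).2 ⟨?_, ?_⟩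
  · rw [show g * x * g⁻¹ * (g * x * g⁻¹) = g * (x * x) * g⁻¹ by group, h1]; group
  · have h3 : Commute (g * x * g⁻¹) (g * y * g⁻¹) := by
      show g * x * g⁻¹ * (g * y * g⁻¹) = g * y * g⁻¹ * (g * x * g⁻¹)
      rw [show g * x * g⁻¹ * (g * y * g⁻¹) = g * (x * y) * g⁻¹ by group, h2.eq]; group
    rcases hg with e | e <;> rw [e] at h3
    · exact h3
    · simpa using h3.inv_right

theorem Facts.four_le_centralizer {y : G} (hy : orderOf y = 3) :
    fourGroup y ≤ centralizer ({y} : Set G) := fun x hx =>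
  mem_centralizer_singleton_iff.2 ((hF.mem_four K hy x).1 hx).2.eq

theorem Facts.exists_involution_four {y : G} (hy : orderOf y = 3) :
    ∃ t ∈ fourGroup y, orderOf t = 2 := by
  have : Nontrivial (fourGroup y) := Finite.one_lt_card_iff_nontrivial.1
    (by rw [(hF.fourGroup_spec K hy).1]; norm_num)
  obtain ⟨⟨t, ht⟩, hne⟩ := exists_ne (1 : fourGroup y)
  exact ⟨t, ht, orderOf_two_of_sq ((hF.mem_four K hy t).1 ht).1 fun e => hne (Subtype.ext e)⟩

variable {P : Subgroup G} (hP : IsNine P)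
include hP

theorem Facts.four_disjoint {y w u : G} (hy : y ∈ P) (hy1 : y ≠ 1) (hw : w ∈ P) (hw1 : w ≠ 1)
    (hwy : w ∉ zpowers y) (hu : u ∈ fourGroup y) (hu' : u ∈ fourGroup w) : u = 1 := by
  by_contra hu1
  obtain ⟨h1, h2⟩ := (hF.mem_four K (hP.orderOf_eq hy hy1) u).1 hu
  obtain ⟨-, h3⟩ := (hF.mem_four K (hP.orderOf_eq hw hw1) u).1 hu'
  exact hwy (hF.not_commute_both K (orderOf_two_of_sq h1 hu1) (hP.orderOf_eq hy hy1) h2 h3
    (hP.comm y hy w hw) (hP.exp w hw))

/-- `P` is transitive on the involutions of each of the four groups. -/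
theorem Facts.four_transitive {y : G} (hy : y ∈ P) (hy1 : y ≠ 1) {u v : G}
    (hu : u ∈ fourGroup y) (hv : v ∈ fourGroup y) (hu1 : u ≠ 1) (hv1 : v ≠ 1) :
    ∃ w ∈ P, w * u * w⁻¹ = v := by
  classical
  by_cases huv : u = v
  · exact ⟨1, one_mem P, by simp [huv]⟩
  have hy3 := hP.orderOf_eq hy hy1
  obtain ⟨w, hw, hwy⟩ : ∃ w ∈ P, w ∉ zpowers y := by
    by_contra! h
    have := card_dvd_of_le (show P ≤ zpowers y from h)
    rw [hP.card, Nat.card_zpowers, hy3] at this
    norm_num at this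
  have hw1 : w ≠ 1 := fun e => hwy (e ▸ one_mem _)
  have hwyc : w * y * w⁻¹ = y := by rw [(hP.comm w hw y hy).eq, mul_inv_cancel_right]
  have hne : ∀ x ∈ fourGroup y, x ≠ 1 → w * x * w⁻¹ ≠ x := fun x hx hx1 e => by
    refine hx1 (hF.four_disjoint K hP hy hy1 hw hw1 hwy hx
      ((hF.mem_four K (hP.orderOf_eq hw hw1) x).2 ⟨((hF.mem_four K hy3 x).1 hx).1, ?_⟩))
    exact (show Commute w x from mul_inv_eq_iff_eq_mul.1 e).symm
  have h1 : w * u * w⁻¹ ∈ fourGroup y := hF.four_conj K hy3 (Or.inl hwyc) hu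
  have h11 : w * u * w⁻¹ ≠ 1 := fun e => hu1 (by
    rw [mul_inv_eq_one, mul_eq_left] at e; exact e)
  by_cases hv' : w * u * w⁻¹ = v
  · exact ⟨w, hw, hv'⟩
  refine ⟨w * w, mul_mem hw hw, ?_⟩
  have e2 : w * w * u * (w * w)⁻¹ = w * (w * u * w⁻¹) * w⁻¹ := by group
  rw [e2]
  have h2 : w * (w * u * w⁻¹) * w⁻¹ ∈ fourGroup y := hF.four_conj K hy3 (Or.inl hwyc) h1
  have h21 : w * (w * u * w⁻¹) * w⁻¹ ≠ 1 := fun e => h11 (by
    rw [mul_inv_eq_one, mul_eq_left] at e; exact e)
  have h2u : w * (w * u * w⁻¹) * w⁻¹ ≠ u := by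
    intro e
    have e3 : w ^ 3 = 1 := hP.exp w hw
    have : w * u * w⁻¹ = u := by
      have e4 : u = w * (w * (w * u * w⁻¹) * w⁻¹) * w⁻¹ := by
        calc u = w ^ 3 * u * (w ^ 3)⁻¹ := by rw [e3]; simp
          _ = _ := by rw [pow_succ, sq]; group
      rw [e] at e4
      exact e4.symm
    exact hne u hu hu1 this
  rcases hF.four_triple K hy3 hu hv hu1 hv1 huv h2 with e | e | e | e
  · exact absurd e h21
  · exact absurd e h2u
  · exact e
  · exfalso
    rcases hF.four_triple K hy3 hu hv hu1 hv1 huv h1 with f | f | f | f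
    · exact h11 f
    · exact hne u hu hu1 f
    · exact hv' f
    · exact hne _ h1 h11 (e.trans f.symm)

omit hP in
/-- An element of two-power order commuting with `a` lies in the four group of `a`. -/
theorem Facts.two_mem_four {a x : G} (ha : orderOf a = 3) (hxa : Commute x a)
    (hx : ∃ k : ℕ, x ^ (2 ^ k) = 1) : x ∈ fourGroup a := by
  have : Fact (Nat.Prime 2) := ⟨Nat.prime_two⟩
  set C := centralizer ({a} : Set G)
  have hle : fourGroup a ≤ C := hF.four_le_centralizer K ha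
  have hcardC := hF.card_centralizer_three K ha
  have hfac : (Nat.card C).factorization 2 = 2 := by
    rw [hcardC, show (36 : ℕ) = 2 ^ 2 * 9 from rfl, Nat.factorization_mul (by norm_num)
      (by norm_num), Finsupp.add_apply, Nat.factorization_eq_zero_of_not_dvd
      (by norm_num : ¬ 2 ∣ 9), Nat.Prime.factorization_pow Nat.prime_two, Finsupp.single_eq_same]
  let S : Sylow 2 C := Sylow.ofCard ((fourGroup a).subgroupOf C) (by
    rw [Nat.card_congr (subgroupOfEquivOfLe hle).toEquiv, (hF.fourGroup_spec K ha).1, hfac]; rfl)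
  have hn : (S : Subgroup C).Normal := by
    show ((fourGroup a).subgroupOf C).Normal
    refine ⟨fun n hn c => ?_⟩
    rw [mem_subgroupOf] at hn ⊢
    exact hF.four_conj K ha (Or.inl (by
      rw [mem_centralizer_singleton_iff.1 c.2, mul_inv_cancel_right])) hn
  let x' : C := ⟨x, mem_centralizer_singleton_iff.2 hxa.eq⟩
  obtain ⟨k, hk⟩ := hx
  have hp : IsPGroup 2 (zpowers x') := by
    intro g
    obtain ⟨n, hn⟩ := Subgroup.mem_zpowers_iff.1 g.2
    refine ⟨k, Subtype.ext ?_⟩
    push_cast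
    rw [← hn, ← zpow_natCast, ← zpow_mul, mul_comm, zpow_mul, zpow_natCast,
      show x' ^ 2 ^ k = 1 from Subtype.ext hk, one_zpow]
  obtain ⟨T, hT⟩ := hp.exists_le_sylow
  let _ := Sylow.unique_of_normal S hn
  have : x' ∈ (S : Subgroup C) := by rw [Subsingleton.elim S T]; exact hT (mem_zpowers x')
  exact this

/-- A `P`-invariant 2-subgroup is generated by its four groups. -/
theorem Facts.two_invariant {W H : Subgroup G} (hW : IsPGroup 2 W)
    (hPW : P ≤ normalizer (W : Set G)) (hnle : ¬ W ≤ H) :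
    ∃ a ∈ P, a ≠ 1 ∧ fourGroup a ≤ W ∧ ¬ fourGroup a ≤ H := by
  have : IsMulCommutative P := ⟨⟨fun a b => Subtype.ext (hP.comm a a.2 b b.2)⟩⟩
  have hcyc : ¬ IsCyclic P := by
    intro hc
    obtain ⟨g, hg⟩ := hc.exists_generator
    have h1 : Nat.card (zpowers g) = 9 := by
      rw [show zpowers g = ⊤ from (Subgroup.eq_top_iff' _).2 hg, Subgroup.card_top, hP.card]
    have h2 : orderOf g ∣ 3 :=
      orderOf_dvd_of_pow_eq_one (Subtype.ext (by push_cast; exact hP.exp _ g.2))
    rw [Nat.card_zpowers] at h1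
    rw [h1] at h2
    norm_num at h2
  have hcop : (Nat.card P).Coprime (Nat.card W) := by
    have : Fact (Nat.Prime 2) := ⟨Nat.prime_two⟩
    obtain ⟨n, hn⟩ := hW.exists_card_eq
    rw [hP.card, hn]
    exact Nat.Coprime.pow_right n (by norm_num)
  have hgen := Coprime.iSup_centralizer_eq hcyc hPW hcop
  by_contra hcon
  push Not at hcon
  refine hnle ?_
  rw [← hgen]
  refine iSup₂_le fun a ha => ?_
  obtain ⟨haP, ha1⟩ := ha
  have ha3 := hP.orderOf_eq haP ha1
  intro x hx
  obtain ⟨hxW, hxC⟩ := mem_inf.1 hx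
  by_cases hx1 : x = 1
  · rw [hx1]; exact one_mem H
  obtain ⟨k, hk⟩ := hW ⟨x, hxW⟩
  have hxF : x ∈ fourGroup a := hF.two_mem_four K ha3 (mem_centralizer_singleton_iff.1 hxC)
    ⟨k, by simpa using congrArg Subtype.val hk⟩
  refine hcon a haP ha1 (fun z hz => ?_) hxF
  by_cases hz1 : z = 1
  · rw [hz1]; exact one_mem W
  obtain ⟨w, hw, hwz⟩ := hF.four_transitive K hP haP ha1 hxF hz hx1 hz1
  rw [← hwz]
  exact conj_mem_of_mem_normalizer (hPW hw) hxW

omit hP

/-- A subgroup normalised by `y` has order congruent to that of its part centralised by `y`. -/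
theorem Facts.card_mod_three {y : G} (hy : orderOf y = 3) {H : Subgroup G}
    (hH : ∀ x ∈ H, y * x * y⁻¹ ∈ H) :
    Nat.card H % 3 = Nat.card (H ⊓ centralizer ({y} : Set G) : Subgroup G) % 3 := by
  classical
  have : Fact (Nat.Prime 3) := ⟨Nat.prime_three⟩
  let f : Function.End H := fun x => ⟨y * x * y⁻¹, hH _ x.2⟩
  have hf : f ^ 3 ^ 1 = 1 := by
    funext x
    refine Subtype.ext ?_
    show y * (y * (y * (x : G) * y⁻¹) * y⁻¹) * y⁻¹ = x
    have hy3 : y * y * y = 1 := by have h := pow_orderOf_eq_one y; rw [hy, pow_succ, sq] at h; exact h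
    calc y * (y * (y * (x : G) * y⁻¹) * y⁻¹) * y⁻¹ = y * y * y * x * (y * y * y)⁻¹ := by group
      _ = x := by rw [hy3]; simp
  have h := Equiv.Perm.card_fixedPoints_modEq hf
  rw [Nat.card_eq_fintype_card]
  refine h.trans ?_
  rw [← Nat.card_eq_fintype_card]
  refine congrArg (· % 3) (Nat.card_congr ?_)
  exact
    { toFun := fun x => ⟨(x.1 : G), mem_inf.2 ⟨x.1.2, mem_centralizer_singleton_iff.2 (by
        have : y * (x.1 : G) * y⁻¹ = x.1 := congrArg Subtype.val x.2
        exact (mul_inv_eq_iff_eq_mul.1 this).symm)⟩⟩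
      invFun := fun x => ⟨⟨x.1, (mem_inf.1 x.2).1⟩, Subtype.ext (by
        show y * x.1 * y⁻¹ = x.1
        rw [← mem_centralizer_singleton_iff.1 (mem_inf.1 x.2).2, mul_inv_cancel_right])⟩
      left_inv := fun x => rfl
      right_inv := fun x => rfl }

/-- There is no elementary abelian subgroup of order 64. -/
theorem Facts.no_elementary_64 {W : Subgroup G} (hW : Nat.card W = 64) :
    ¬ ∀ w ∈ W, w * w = 1 := by
  classical
  intro hexp
  have hdeg := char_one K.c21
  rw [K.d21] at hdeg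
  obtain ⟨n, ρ, hρ, hρe⟩ := K.c21.2
  have : Invertible (Nat.card W : ℂ) := invertibleOfNonzero (by rw [hW]; norm_num)
  have h := Representation.card_inv_mul_sum_char_eq_finrank (ρ.comp W.subtype)
  have hval : ∀ w : W, Representation.character (ρ.comp W.subtype) w =
      5 + if w = 1 then (16 : ℂ) else 0 := by
    intro w
    have hw' : Representation.character (ρ.comp W.subtype) w = (K.c21 : G → ℂ) w := by
      rw [← hρe]; rfl
    rw [hw']
    split_ifs with h1
    · rw [h1, OneMemClass.coe_one, hdeg]; norm_num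
    · have ht : orderOf (w : G) = 2 :=
        orderOf_two_of_sq (hexp w w.2) fun e => h1 (Subtype.ext e)
      rw [(hF.involution K ht).2.ha]
      norm_num [colTwo]
  rw [Finset.sum_congr rfl fun w _ => hval w, Finset.sum_add_distrib, Finset.sum_const,
    Finset.sum_ite_eq' Finset.univ (1 : W), if_pos (Finset.mem_univ _), Finset.card_univ,
    ← Nat.card_eq_fintype_card, hW, nsmul_eq_mul] at h
  set m := Module.finrank ℂ (Representation.invariants (ρ.comp W.subtype))
  have h2 : ((336 : ℕ) : ℂ) = ((64 * m : ℕ) : ℂ) := by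
    push_cast at h ⊢
    linear_combination 64 * h
  have h3 : 336 = 64 * m := by exact_mod_cast h2
  omega

end Cfsg.Agent.M22Order
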