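import Mathlib

/-!
# The finite searches for a simple group of order 443520

Signed degrees: a member of the principal `p`-block with automizer of order `e` is recorded by
`a * χ 1`, where `a` is its sign, so that it is `1` modulo `p`, and `-e` for the exceptional ones.
-/

set_option autoImplicit false

namespace Cfsg.Agent.M22Order.Search

/-- The exceptional signed degree forced by the others. -/
def exc (D : List ℤ) : ℤ := -(1 + D.sum)

/-- A possible signed degree in the principal block at `p`. -/
def goodDeg (p : ℕ) (D : ℤ) : Bool :=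
  decide (1 < D.natAbs) && decide (D.natAbs * D.natAbs < 443520) &&
    decide (443520 / p % D.natAbs = 0) && [0, 1, 10, 5, 6].contains (D.natAbs % 11)

/-- The signed degrees congruent to one. -/
def signedDegs (p : ℕ) : List ℤ :=
  ((List.range 666).flatMap fun d : ℕ => [(d : ℤ), -(d : ℤ)]).filter fun D =>
    goodDeg p D && decide ((D - 1) % (p : ℤ) = 0)

/-- Nondecreasing tuples from a list, with bounded weight. -/
def enum : ℕ → List ℤ → ℤ → List (List ℤ)
  | 0, _, _ => [[]]
  | k + 1, l, b => l.tails.flatMap fun t => match t with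
    | [] => []
    | o :: _ => if o * o ≤ b then (enum k t (b - o * o)).map (o :: ·) else []

/-- The conditions on the exceptional degree. -/
def okExcDeg (p e : ℕ) (D : List ℤ) : Bool :=
  goodDeg p (exc D) && decide ((exc D + (e : ℤ)) % (p : ℤ) = 0) &&
    (decide ((p - 1) / e ≠ 1) || D.all fun x => decide (x ≤ exc D)) &&
    decide (1 + (D.map fun x => x * x).sum + ((p - 1) / e : ℕ) * (exc D * exc D) ≤ 443520)

/-- The signed degree lists of a principal block. -/
def blockList (p e : ℕ) : List (List ℤ) :=
  (enum (e - 1) (signedDegs p) 443519).filter (okExcDeg p e)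

set_option maxHeartbeats 4000000 in
/-- The signed degree lists of a principal 11-block with automizer of order 5. -/
def blocks11_5 : List (List ℤ) :=
  [[-10, -10, -10, 45], [-10, -10, 12, 12], [-10, -10, 12, -21], [-10, -10, -21, -32], [-10, -10,
  -21, 45], [-10, -10, -21, 56], [-10, -10, -21, -120], [-10, -10, -21, 320], [-10, -10, -32, 45],
  [-10, -10, -32, 56], [-10, -10, -120, 144], [-10, 12, 12, -21], [-10, 12, 12, 45], [-10, 12, 12,
  -120], [-10, 12, -21, 144], [-10, 12, -21, 210], [-10, 12, -32, 45], [-10, 12, 45, -120], [-10,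
  12, 45, 144], [-10, 12, 45, -384], [-10, 12, 144, -252], [-10, -21, -21, -21], [-10, -21, -21,
  45], [-10, -21, -21, 56], [-10, -21, -32, 56], [-10, -21, 45, 45], [-10, -21, 45, -120], [-10,
  -21, -120, 144], [-10, -21, -120, 210], [-10, -21, 210, -252], [-10, -32, -32, -32], [-10, -32,
  -32, 45], [-10, -32, 45, 56], [-10, -32, 56, -120], [-10, -32, 320, -384], [-10, 45, 45, 45],
  [-10, 45, 56, -120], [-10, 45, 56, -252], [-10, 45, -120, 144], [-10, 45, -120, 210], [-10, 45,
  -120, -252], [-10, 45, 144, -252], [-10, 45, 210, -252], [-10, 45, 320, -384], [-10, 56, 210,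
  -252], [-10, -120, -120, 144], [-10, 144, 144, -384], [12, 12, 12, -21], [12, 12, 12, -32], [12,
  12, -21, -32], [12, 12, -21, 56], [12, 12, 45, 56], [12, 12, 45, 210], [12, -21, -21, 45], [12,
  -21, -32, -32], [12, -21, -32, 45], [12, -21, -32, 56], [12, -21, -32, -120], [12, -21, -32,
  320], [12, -21, 56, -120], [12, -21, 56, 144], [12, -21, 56, -384], [12, -21, -120, 144], [12,
  -21, -120, 320], [12, -21, 144, 144], [12, -21, -252, 320], [12, -21, 320, -384], [12, -32, -32,
  45], [12, -32, -32, 56], [12, -32, -120, 144], [12, 45, 56, -120], [12, 45, 210, -252], [12, 45,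
  -252, 320], [12, 45, 320, -384], [12, 56, 56, -120], [12, 56, 210, -384], [12, 56, 320, -384],
  [-21, -21, -21, 56], [-21, -21, -32, -32], [-21, -21, -32, 45], [-21, -21, 45, 56], [-21, -21,
  56, -120], [-21, -21, 320, -384], [-21, -32, -32, 56], [-21, -32, -32, 144], [-21, -32, -32,
  210], [-21, -32, -32, -252], [-21, -32, 56, 56], [-21, -32, -120, 144], [-21, -32, 144, -252],
  [-21, -32, -252, 320], [-21, 45, 45, 56], [-21, 45, 45, 210], [-21, 56, 56, -120], [-21, 56, 56,
  -252], [-21, 56, -120, 144], [-21, 56, -120, 210], [-21, 56, -120, -252], [-21, 56, 144, -252],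
  [-21, 56, 210, -252], [-21, 56, 320, -384], [-21, -120, -120, 320], [-21, -120, 210, 210], [-21,
  -120, -252, 320], [-21, 144, 144, -252], [-21, 144, -252, 320], [-21, 144, 320, -384], [-21,
  210, 210, -384], [-21, 210, 320, -384], [-32, -32, 45, 144], [-32, -32, 45, 210], [-32, -32,
  210, -252], [-32, -32, -252, 320], [-32, 45, 56, 56], [-32, 45, 56, 210], [-32, 45, 210, -252],
  [-32, 45, 210, -384], [-32, 144, 144, -252], [-32, 210, 210, -384], [45, 45, 45, 56], [45, 45,
  45, -120], [45, 45, 45, 144], [45, 45, 56, -252], [45, 56, -120, 144], [45, 56, -120, 210], [45,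
  56, 144, -252], [45, 56, 210, -252], [45, 56, 210, -384], [45, -120, -120, 210], [45, -120,
  -120, 320], [45, -120, 144, 210], [45, -120, -252, 320], [45, 144, 210, -384], [45, 144, 210,
  -560], [45, 144, 320, -384], [45, 210, 320, -384], [56, 56, 144, -252], [56, -120, 210, -252],
  [56, -120, -252, 320], [144, 210, 210, -560], [210, -252, 320, -384], [-252, 320, 320, -384]]

/-- The signed degree lists of a principal 7-block with automizer of order 2. -/
def blocks7_2 : List (List ℤ) :=
  [[-6]]

/-- The signed degree lists of a principal 7-block with automizer of order 3. -/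
def blocks7_3 : List (List ℤ) :=
  [[-6, -6], [-6, -55], [-6, -160], [22, 22], [22, -55], [-55, 99], [-55, 120], [99, 120], [99,
  -132], [99, -160], [120, -132], [-132, 176]]

/-- The signed degree lists of a principal 7-block with automizer of order 6. -/
def blocks7_6 : List (List ℤ) :=
  [[-6, -6, 22, 22, -55], [-6, -6, 22, 22, -132], [-6, -6, 22, -55, -55], [-6, -6, 22, -55, -132],
  [-6, -6, 22, 99, -440], [-6, -6, -55, -55, -55], [-6, -6, -55, 99, -132], [-6, -6, -55, 120,
  -384], [-6, -6, -55, -132, -132], [-6, -6, -55, 176, -440], [-6, -6, 99, 120, -384], [-6, -6,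
  99, -132, -132], [-6, -6, 99, 176, -440], [-6, 22, 22, 22, -160], [-6, 22, 22, -55, -160], [-6,
  22, -55, 99, -160], [-6, 22, -55, -132, -160], [-6, 22, 99, -132, -160], [-6, -55, -55, -55,
  -160], [-6, -55, -55, 99, -160], [-6, -55, -132, -160, 176], [-6, -55, -160, 330, -440], [-6,
  99, 99, -132, -160], [-6, 99, 120, -160, -384], [-6, 99, -132, -132, -160], [-6, 99, -160, 176,
  -440], [22, 22, 22, -55, -132], [22, 22, -55, -55, -55], [22, 22, -55, 120, -440], [22, 22, -55,
  -160, -160], [22, 22, 99, 120, -384], [22, 22, 99, 120, -440], [22, 22, 99, -132, -132], [22,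
  22, 99, -160, -160], [22, -55, -55, 99, -132], [22, -55, 120, 120, -384], [22, -55, 120, -132,
  -132], [22, -55, 120, 176, -440], [22, -55, -160, -160, 176], [22, 99, 99, 99, -440], [22, 99,
  99, -160, -160], [22, 99, 120, -132, -440], [22, 99, -132, -160, -160], [-55, -55, -55, -55,
  99], [-55, -55, -55, 120, -132], [-55, -55, 99, 120, -440], [-55, -55, 99, -160, -160], [-55,
  99, 99, 120, -384], [-55, 99, 99, 120, -440], [-55, 99, 99, -132, -132], [-55, 99, 99, -160,
  -160], [-55, 120, 120, -132, -384], [-55, 120, -132, -132, -132], [-55, 120, -132, 176, -440],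
  [-55, -132, -160, -160, 176], [99, 120, 120, -132, -384], [99, 120, -132, -132, -132], [99, 120,
  -132, 176, -440], [99, -132, -160, -160, 176]]

/-- The signed degree lists of a principal 5-block with automizer of order 2. -/
def blocks5_2 : List (List ℤ) :=
  [[11], [21]]

/-- The signed degree lists of a principal 5-block with automizer of order 4. -/
def blocks5_4 : List (List ℤ) :=
  [[6, 11, -144], [6, 16, -44], [6, 21, -154], [11, 11, -44], [11, 16, -44], [11, 16, -154], [11,
  21, -99], [11, 21, -264], [11, -44, -144], [11, 66, -144], [11, -99, -144], [11, 126, -264],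
  [11, -144, -264], [16, 16, -99], [16, 16, -264], [16, -44, -99], [21, 21, -99], [21, -44, -44],
  [21, -44, -154], [21, 56, -144], [21, 66, -154], [21, 66, -264], [21, -99, -99], [21, -99,
  -154], [21, -154, -264], [-44, -44, -144], [56, -144, -144], [66, -99, -144], [66, -144, -154],
  [-99, 126, -154], [-99, -144, -154], [-144, 176, -264]]

set_option synthInstance.maxSize 4000 in
theorem blockList_eleven : blockList 11 5 = blocks11_5 := by decide +kernel

theorem blockList_seven_two : blockList 7 2 = blocks7_2 := by decide +kernel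

theorem blockList_seven_three : blockList 7 3 = blocks7_3 := by decide +kernel

theorem blockList_seven_six : blockList 7 6 = blocks7_6 := by decide +kernel

theorem blockList_five_two : blockList 5 2 = blocks5_2 := by decide +kernel

theorem blockList_five_four : blockList 5 4 = blocks5_4 := by decide +kernel

end Cfsg.Agent.M22Order.Search
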