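import Cfsg.Agent.M22Order.Three

/-!
# Commuting pairs of an involution and an element of order three; the four group of such an element
-/

set_option autoImplicit false

namespace Cfsg.Agent.M22Order

open Subgroup

universe u

variable {G : Type u} [Group G] [Fintype G]

theorem orderOf_two_of_sq {x : G} (h : x * x = 1) (h1 : x ≠ 1) : orderOf x = 2 :=
  orderOf_eq_prime (hp := ⟨Nat.prime_two⟩) (by rw [sq, h]) h1

theorem sq_of_orderOf_two {x : G} (h : orderOf x = 2) : x * x = 1 := by
  have := pow_orderOf_eq_one x; rwa [h, sq] at this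

/-- An element of order three is inverted in the centraliser of a commuting involution. -/
theorem Facts.exists_inverter (hF : Facts G) (K : Chars G) {t y : G} (ht : orderOf t = 2)
    (hy : orderOf y = 3) (hty : Commute t y) : ∃ c : G, Commute c t ∧ c * y * c⁻¹ = y⁻¹ := by
  have ho : orderOf (t * y) = 6 := by
    rw [hty.orderOf_mul_eq_mul_orderOf_of_coprime (by rw [ht, hy]; norm_num), ht, hy]
  have hk : Nat.Coprime 17 (Nat.card G) := by rw [hF.card]; norm_num
  obtain ⟨c, hc⟩ := isConj_iff.1
    (K.isConj_pow (g := t * y) (by rw [ho]; norm_num) (by rw [ho]; norm_num) hk).symm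
  have ht2 : t ^ 2 = 1 := ht ▸ pow_orderOf_eq_one t
  have hy3 : y ^ 3 = 1 := hy ▸ pow_orderOf_eq_one y
  have hpow : (t * y) ^ 17 = t * y ^ 2 := by
    rw [hty.mul_pow, show t ^ 17 = t by rw [show 17 = 2 * 8 + 1 from rfl, pow_succ, pow_mul, ht2,
      one_pow, one_mul], show y ^ 17 = y ^ 2 by rw [show 17 = 3 * 5 + 2 from rfl, pow_add, pow_mul,
      hy3, one_pow, one_mul]]
  rw [hpow] at hc
  have h3 : c * t * c⁻¹ = t := by
    have h := congrArg (· ^ 3) hc
    simp only [conj_pow] at h
    rw [hty.mul_pow, (hty.pow_right 2).mul_pow, hy3, ← pow_mul y 2 3,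
      show 2 * 3 = 3 * 2 from rfl, pow_mul, hy3, one_pow, mul_one,
      show t ^ 3 = t by rw [pow_succ, ht2, one_mul]] at h
    exact h
  refine ⟨c, mul_inv_eq_iff_eq_mul.1 h3, ?_⟩
  have h4 : c * y * c⁻¹ = y ^ 2 := by
    have h5 : c * t * c⁻¹ * (c * y * c⁻¹) = t * y ^ 2 := by rw [← hc]; group
    rw [h3] at h5
    exact mul_left_cancel h5
  rw [h4]
  exact eq_inv_of_mul_eq_one_left (by rw [← pow_succ, hy3])

/-- An involution and an element of order three which commute have a common centraliser of order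
twelve. -/
theorem Facts.card_inf_centralizer (hF : Facts G) (K : Chars G) {t y : G} (ht : orderOf t = 2)
    (hy : orderOf y = 3) (hty : Commute t y) :
    Nat.card (centralizer ({t} : Set G) ⊓ centralizer ({y} : Set G) : Subgroup G) = 12 := by
  set D := centralizer ({t} : Set G) ⊓ centralizer ({y} : Set G)
  have h36 := hF.card_centralizer_three K hy
  have h1 : Nat.card D ∣ 12 := by
    have a := card_dvd_of_le (inf_le_left : D ≤ centralizer ({t} : Set G))
    have b := card_dvd_of_le (inf_le_right : D ≤ centralizer ({y} : Set G))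
    rw [(hF.involution K ht).1] at a
    rw [h36] at b
    exact (Nat.dvd_gcd a b).trans (by decide)
  have h2 : 3 ∣ Nat.card D := hy ▸ Subgroup.orderOf_dvd_natCard D
    (mem_inf.2 ⟨mem_centralizer_singleton_iff.2 hty.symm.eq, mem_centralizer_singleton_iff.2 rfl⟩)
  have h3 : 4 ∣ Nat.card D := by
    have : Fact (Nat.Prime 2) := ⟨Nat.prime_two⟩
    set C := centralizer ({y} : Set G)
    let t' : C := ⟨t, mem_centralizer_singleton_iff.2 hty.eq⟩
    have hp : IsPGroup 2 (zpowers t') := IsPGroup.of_card (n := 1)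
      (by rw [Nat.card_zpowers, pow_one, ← Subgroup.orderOf_coe, ht])
    obtain ⟨S, hS⟩ := hp.exists_le_sylow
    have hS4 : Nat.card (S : Subgroup C) = 2 ^ 2 := by
      rw [Sylow.card_eq_multiplicity, h36]
      have : (36 : ℕ).factorization 2 = 2 := by
        rw [show (36 : ℕ) = 2 ^ 2 * 9 from rfl, Nat.factorization_mul (by norm_num) (by norm_num),
          Finsupp.add_apply, Nat.factorization_eq_zero_of_not_dvd (by norm_num : ¬ 2 ∣ 9),
          Nat.Prime.factorization_pow Nat.prime_two, Finsupp.single_eq_same]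
      rw [this]
    have hcomm := IsPGroup.commutative_of_card_eq_prime_sq hS4
    have hle : (S : Subgroup C).map C.subtype ≤ D := by
      rintro _ ⟨s, hs, rfl⟩
      exact mem_inf.2 ⟨mem_centralizer_singleton_iff.2 (congrArg (fun z : (S : Subgroup C) => ((z : C) : G))
        (hcomm ⟨s, hs⟩ ⟨t', hS (mem_zpowers _)⟩)), s.2⟩
    have := card_dvd_of_le hle
    rwa [Subgroup.card_map_of_injective C.subtype_injective, hS4] at this
  exact Nat.dvd_antisymm h1 ((by norm_num : Nat.Coprime 3 4).mul_dvd_of_dvd_of_dvd h2 h3)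

theorem exists_three_commute (hF : Facts G) (K : Chars G) {t : G} (ht : orderOf t = 2) :
    ∃ y : G, orderOf y = 3 ∧ Commute t y := by
  have : Fact (Nat.Prime 3) := ⟨Nat.prime_three⟩
  obtain ⟨y, hy⟩ := exists_prime_orderOf_dvd_card' (G := centralizer ({t} : Set G)) 3
    (by rw [(hF.involution K ht).1]; norm_num)
  exact ⟨y, by rw [Subgroup.orderOf_coe]; exact hy, (mem_centralizer_singleton_iff.1 y.2).symm⟩

/-- An involution commutes with 32 elements of order three. -/
theorem Facts.card_three_commute (hF : Facts G) (K : Chars G) {t : G} (ht : orderOf t = 2) :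
    Nat.card {x : G // orderOf x = 3 ∧ Commute t x} = 32 := by
  classical
  have : Fact (Nat.Prime 3) := ⟨Nat.prime_three⟩
  obtain ⟨y, hy, hty⟩ := exists_three_commute hF K ht
  set C := centralizer ({t} : Set G) with hC
  have hmem : ∀ {x : G}, Commute t x → x ∈ C := fun h => mem_centralizer_singleton_iff.2 h.symm.eq
  let y' : C := ⟨y, hmem hty⟩
  have hy' : orderOf y' = 3 := by rw [← Subgroup.orderOf_coe]; exact hy
  have hfac : (Nat.card C).factorization 3 = 1 := by
    rw [(hF.involution K ht).1, show 384 = 3 ^ 1 * 128 from rfl,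
      Nat.factorization_mul (by norm_num) (by norm_num), Finsupp.add_apply,
      Nat.factorization_eq_zero_of_not_dvd (by norm_num : ¬ 3 ∣ 128),
      Nat.Prime.factorization_pow Nat.prime_three, Finsupp.single_eq_same]
  have hconj : ∀ x : C, orderOf x = 3 → IsConj y' x := by
    intro x hx
    let S : Sylow 3 C := Sylow.ofCard (zpowers y') (by rw [Nat.card_zpowers, hy', hfac, pow_one])
    let T : Sylow 3 C := Sylow.ofCard (zpowers x) (by rw [Nat.card_zpowers, hx, hfac, pow_one])
    obtain ⟨g, hg⟩ := MulAction.exists_smul_eq C S T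
    have hgy : g * y' * g⁻¹ ∈ (T : Subgroup C) := by
      rw [← hg]
      exact Subgroup.smul_mem_pointwise_smul y' (MulAut.conj g) _ (mem_zpowers y')
    obtain ⟨n, hn⟩ := Subgroup.mem_zpowers_iff.1 (show g * y' * g⁻¹ ∈ zpowers x from hgy)
    have hx3 : x ^ 3 = 1 := hx ▸ pow_orderOf_eq_one x
    obtain ⟨m, hm, hmn⟩ : ∃ m : ℕ, m < 3 ∧ x ^ m = g * y' * g⁻¹ :=
      ⟨(n % 3).toNat, by omega, by
        rw [← hn, ← zpow_natCast, Int.toNat_of_nonneg (Int.emod_nonneg _ (by norm_num))]
        rw [← zpow_mod_orderOf x n, hx]; norm_num⟩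
    interval_cases m
    · exfalso
      rw [pow_zero] at hmn
      have : y' = 1 := by
        calc y' = g⁻¹ * (g * y' * g⁻¹) * g := by group
          _ = 1 := by rw [← hmn]; group
      rw [this, orderOf_one] at hy'
      norm_num at hy'
    · rw [pow_one] at hmn
      exact isConj_iff.2 ⟨g, hmn.symm⟩
    · obtain ⟨c, hct, hcy⟩ := hF.exists_inverter K ht hy hty
      let c' : C := ⟨c, hmem hct.symm⟩
      have hcy' : c' * y' * c'⁻¹ = y'⁻¹ := Subtype.ext hcy
      refine isConj_iff.2 ⟨g * c', ?_⟩
      rw [show g * c' * y' * (g * c')⁻¹ = g * (c' * y' * c'⁻¹) * g⁻¹ by group, hcy',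
        show g * y'⁻¹ * g⁻¹ = (g * y' * g⁻¹)⁻¹ by group, ← hmn]
      exact inv_eq_of_mul_eq_one_right (by rw [← pow_succ, hx3])
  have e : {x : G // orderOf x = 3 ∧ Commute t x} ≃ {x : C // IsConj y' x} :=
    { toFun := fun x => ⟨⟨x.1, hmem x.2.2⟩, hconj _ (by rw [← Subgroup.orderOf_coe]; exact x.2.1)⟩
      invFun := fun x => ⟨x.1.1, by
        obtain ⟨g, hg⟩ := isConj_iff.1 x.2
        refine ⟨?_, (mem_centralizer_singleton_iff.1 x.1.2).symm⟩
        rw [Subgroup.orderOf_coe, ← hg, ← MulAut.conj_apply, (MulAut.conj g).orderOf_eq, hy']⟩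
      left_inv := fun x => rfl
      right_inv := fun x => rfl }
  rw [Nat.card_congr e, Char.card_isConj_eq_index]
  have h12 : Nat.card (centralizer ({y'} : Set C)) = 12 := by
    rw [← hF.card_inf_centralizer K ht hy hty]
    exact Nat.card_congr
      { toFun := fun x => ⟨x.1.1, mem_inf.2 ⟨x.1.2, mem_centralizer_singleton_iff.2
          (congrArg Subtype.val (mem_centralizer_singleton_iff.1 x.2))⟩⟩
        invFun := fun x => ⟨⟨x.1, (mem_inf.1 x.2).1⟩, mem_centralizer_singleton_iff.2
          (Subtype.ext (mem_centralizer_singleton_iff.1 (mem_inf.1 x.2).2))⟩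
        left_inv := fun x => rfl
        right_inv := fun x => rfl }
  have h := (centralizer ({y'} : Set C)).card_mul_index
  rw [h12, (hF.involution K ht).1] at h
  omega

/-- An element of order three commutes with three involutions. -/
theorem Facts.card_involution_commute (hF : Facts G) (K : Chars G) {y : G} (hy : orderOf y = 3) :
    Nat.card {x : G // orderOf x = 2 ∧ Commute x y} = 3 := by
  classical
  have e1 : {p : G × G // orderOf p.1 = 2 ∧ orderOf p.2 = 3 ∧ Commute p.1 p.2} ≃
      Σ t : {g : G // orderOf g = 2}, {x : G // orderOf x = 3 ∧ Commute t.1 x} :=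
    { toFun := fun p => ⟨⟨p.1.1, p.2.1⟩, ⟨p.1.2, p.2.2⟩⟩
      invFun := fun q => ⟨(q.1.1, q.2.1), q.1.2, q.2.2⟩
      left_inv := fun p => rfl
      right_inv := fun q => rfl }
  have e2 : {p : G × G // orderOf p.1 = 2 ∧ orderOf p.2 = 3 ∧ Commute p.1 p.2} ≃
      Σ x : {g : G // orderOf g = 3}, {t : G // orderOf t = 2 ∧ Commute t x.1} :=
    { toFun := fun p => ⟨⟨p.1.2, p.2.2.1⟩, ⟨p.1.1, p.2.1, p.2.2.2⟩⟩
      invFun := fun q => ⟨(q.2.1, q.1.1), q.2.2.1, q.1.2, q.2.2.2⟩
      left_inv := fun p => rfl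
      right_inv := fun q => rfl }
  have hconst : ∀ x : {g : G // orderOf g = 3}, Nat.card {t : G // orderOf t = 2 ∧ Commute t x.1} =
      Nat.card {t : G // orderOf t = 2 ∧ Commute t y} := by
    intro x
    obtain ⟨c, hc⟩ := isConj_iff.1 (hF.isConj_three K hy x.2)
    refine (Nat.card_congr (Equiv.subtypeEquiv (MulAut.conj c).toEquiv fun t => ?_)).symm
    show _ ↔ orderOf (MulAut.conj c t) = 2 ∧ Commute (MulAut.conj c t) x.1
    rw [(MulAut.conj c).orderOf_eq, ← hc, ← MulAut.conj_apply, commute_iff_eq, commute_iff_eq,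
      ← map_mul, ← map_mul, (MulAut.conj c).injective.eq_iff]
  have h1 := Nat.card_congr (e1.symm.trans e2)
  rw [Nat.card_sigma, Nat.card_sigma, Finset.sum_congr rfl fun t _ => hF.card_three_commute K t.2,
    Finset.sum_congr rfl fun x _ => hconst x, Finset.sum_const, Finset.sum_const, Finset.card_univ,
    Finset.card_univ, ← Nat.card_eq_fintype_card, ← Nat.card_eq_fintype_card,
    hF.card_involutions K, hF.card_three K, smul_eq_mul, smul_eq_mul] at h1
  omega

/-- The subgroup generated by the involutions commuting with `y`. -/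
def fourGroup (y : G) : Subgroup G := closure {x | x * x = 1 ∧ Commute x y}

theorem Facts.fourGroup_spec (hF : Facts G) (K : Chars G) {y : G} (hy : orderOf y = 3) :
    Nat.card (fourGroup y) = 4 ∧ ∀ x, x ∈ fourGroup y ↔ x * x = 1 ∧ Commute x y := by
  classical
  have : Fact (Nat.Prime 2) := ⟨Nat.prime_two⟩
  obtain ⟨⟨⟨t, ht, hty⟩⟩, -⟩ := Nat.card_ne_zero.1
    (show Nat.card {x : G // orderOf x = 2 ∧ Commute x y} ≠ 0 by
      rw [hF.card_involution_commute K hy]; norm_num)
  set D := centralizer ({t} : Set G) ⊓ centralizer ({y} : Set G) with hD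
  have h12 := hF.card_inf_centralizer K ht hy hty
  have ht1 : t ≠ 1 := fun e => by rw [e, orderOf_one] at ht; norm_num at ht
  have hyD : y ∈ D := mem_inf.2
    ⟨mem_centralizer_singleton_iff.2 hty.symm.eq, mem_centralizer_singleton_iff.2 rfl⟩
  have htD : t ∈ D := mem_inf.2
    ⟨mem_centralizer_singleton_iff.2 rfl, mem_centralizer_singleton_iff.2 hty.eq⟩
  obtain ⟨S₀⟩ : Nonempty (Sylow 2 D) := Sylow.nonempty
  have hS₀ : Nat.card (S₀ : Subgroup D) = 4 := by
    rw [Sylow.card_eq_multiplicity, h12]
    rw [show (12 : ℕ) = 2 ^ 2 * 3 from rfl, Nat.factorization_mul (by norm_num) (by norm_num),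
      Finsupp.add_apply, Nat.factorization_eq_zero_of_not_dvd (by norm_num : ¬ 2 ∣ 3),
      Nat.Prime.factorization_pow Nat.prime_two, Finsupp.single_eq_same]
    norm_num
  set S : Subgroup G := (S₀ : Subgroup D).map D.subtype with hSdef
  have hS4 : Nat.card S = 4 := by
    rw [hSdef, Subgroup.card_map_of_injective D.subtype_injective, hS₀]
  have hSD : S ≤ D := Subgroup.map_subtype_le _
  have hSy : ∀ s ∈ S, Commute s y := fun s hs =>
    mem_centralizer_singleton_iff.1 (mem_inf.1 (hSD hs)).2
  have hdisj : ∀ s ∈ S, ∀ j : ℤ, s = y ^ j → s = 1 := by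
    intro s hs j e
    have h1 := S.orderOf_dvd_natCard hs
    rw [hS4] at h1
    have h2 : orderOf s ∣ 3 := by
      rw [← hy, ← Nat.card_zpowers y]
      exact (zpowers y).orderOf_dvd_natCard (e ▸ zpow_mem (mem_zpowers y) j)
    exact orderOf_eq_one_iff.1 (Nat.eq_one_of_dvd_coprimes (by norm_num : Nat.Coprime 4 3) h1 h2)
  have hall : ∀ u ∈ D, u * u = 1 → u ∈ S := by
    intro u hu huu
    let m : S × zpowers y → D := fun p => ⟨p.1 * p.2, mul_mem (hSD p.1.2) (zpowers_le.2 hyD p.2.2)⟩
    have hinj : Function.Injective m := by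
      rintro ⟨s, a⟩ ⟨s', a'⟩ h
      have h' : (s : G) * a = s' * a' := congrArg Subtype.val h
      obtain ⟨j, hj⟩ := Subgroup.mem_zpowers_iff.1 (mul_mem a'.2 (inv_mem a.2))
      have e : (s' : G)⁻¹ * s = y ^ j := by
        rw [hj]
        calc (s' : G)⁻¹ * s = (s' : G)⁻¹ * (s * a) * (a : G)⁻¹ := by group
          _ = (a' : G) * (a : G)⁻¹ := by rw [h']; group
      have hs : s' = s := Subtype.ext (inv_mul_eq_one.1 (hdisj _ (mul_mem (inv_mem s'.2) s.2) j e))
      subst hs
      exact Prod.ext rfl (Subtype.ext (mul_left_cancel h'))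
    obtain ⟨⟨s, a⟩, hsa⟩ := (hinj.bijective_of_nat_card_le (le_of_eq (by
      rw [Nat.card_prod, hS4, Nat.card_zpowers, hy, h12]))).2 ⟨u, hu⟩
    have e : u = (s : G) * a := (congrArg Subtype.val hsa).symm
    obtain ⟨j, hj⟩ := Subgroup.mem_zpowers_iff.1 a.2
    have hc : Commute (s : G) a := by rw [← hj]; exact (hSy _ s.2).zpow_right j
    have h1 : (s : G) ^ 2 = y ^ (-(2 * j)) := by
      rw [zpow_neg, show 2 * j = j + j by ring, zpow_add, hj]
      refine eq_inv_of_mul_eq_one_left ?_
      rw [e] at huu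
      rw [sq, ← huu, hc.mul_mul_mul_comm]
    have h2 := hdisj _ (pow_mem s.2 2) _ h1
    rw [h2] at h1
    have hy2 : y ^ (2 * j) = 1 := by rw [← inv_eq_one, ← zpow_neg, ← h1]
    have h3 : (3 : ℤ) ∣ j := by
      have h5 := orderOf_dvd_iff_zpow_eq_one.2 hy2
      rw [hy] at h5
      omega
    have ha1 : (a : G) = 1 := by
      rw [← hj]; exact orderOf_dvd_iff_zpow_eq_one.1 (by rw [hy]; exact_mod_cast h3)
    rw [e, ha1, mul_one]
    exact s.2
  have hcomm := IsPGroup.commutative_of_card_eq_prime_sq (p := 2) (by rw [hS4]; norm_num : Nat.card S = 2 ^ 2)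
  have hexp : ∀ s ∈ S, s * s = 1 := by
    by_contra hne
    push Not at hne
    obtain ⟨g, hgS, hg⟩ := hne
    have htS : t ∈ S := hall t htD (sq_of_orderOf_two ht)
    have hord : orderOf g = 4 := by
      have h1 := S.orderOf_dvd_natCard hgS
      rw [hS4] at h1
      obtain ⟨k, hk, e⟩ := (Nat.dvd_prime_pow Nat.prime_two (m := 2)).1 (by simpa using h1)
      interval_cases k
      · exact absurd (by rw [orderOf_eq_one_iff.1 (show orderOf g = 1 by simpa using e), one_mul]) hg
      · exact absurd (sq_of_orderOf_two (by simpa using e)) hg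
      · simpa using e
    have hgen : zpowers g = S := Subgroup.eq_of_le_of_card_ge (zpowers_le.2 hgS)
      (by rw [Nat.card_zpowers, hord, hS4])
    have honly : ∀ u ∈ S, u * u = 1 → u ≠ 1 → u = g ^ 2 := by
      intro u hu huu hu1
      have hg4 : g ^ 4 = 1 := hord ▸ pow_orderOf_eq_one g
      obtain ⟨k, rfl⟩ := Subgroup.mem_zpowers_iff.1 (hgen ▸ hu : u ∈ zpowers g)
      have h4 := orderOf_dvd_iff_zpow_eq_one.2 (show g ^ (k + k) = 1 by rw [zpow_add]; exact huu)
      rw [hord] at h4
      have h5 : k % 4 ≠ 0 := fun h => hu1 (orderOf_dvd_iff_zpow_eq_one.1 (by rw [hord]; omega))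
      rw [← zpow_mod_orderOf, hord, show k % ((4 : ℕ) : ℤ) = ((2 : ℕ) : ℤ) by push_cast; omega,
        zpow_natCast]
    have ht2 : g ^ 2 = t := (honly t htS (sq_of_orderOf_two ht) ht1).symm
    have hgt : g * t = t * g := mem_centralizer_singleton_iff.1 (mem_inf.1 (hSD hgS)).1
    have hperm : ∀ u : G, orderOf u = 2 ∧ Commute u y → u = t ∨
        g * (g * u * g⁻¹) * g⁻¹ = u := by
      intro u hu
      set f : G → G := fun x => g * x * g⁻¹ with hf
      have hfinj : Function.Injective f := fun a b h => mul_left_cancel (mul_right_cancel h)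
      have hfmem : ∀ x : G, orderOf x = 2 ∧ Commute x y → orderOf (f x) = 2 ∧ Commute (f x) y := by
        intro x hx
        refine ⟨by rw [hf]; show orderOf (MulAut.conj g x) = 2; rw [(MulAut.conj g).orderOf_eq, hx.1], ?_⟩
        have hgy : g * y * g⁻¹ = y := by rw [(hSy g hgS).eq, mul_inv_cancel_right]
        rw [hf]
        show Commute (g * x * g⁻¹) y
        rw [← hgy, commute_iff_eq, show g * x * g⁻¹ * (g * y * g⁻¹) = g * (x * y) * g⁻¹ by group,
          hx.2.eq]
        group
      have hft : f t = t := by rw [hf]; show g * t * g⁻¹ = t; rw [hgt, mul_inv_cancel_right]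
      by_cases hut : u = t
      · exact Or.inl hut
      refine Or.inr ?_
      show f (f u) = u
      by_contra hne
      have h1 := hfmem u hu
      have h2 := hfmem _ h1
      have hn1 : f u ≠ t := fun e => hut (hfinj (e.trans hft.symm))
      have hn2 : f (f u) ≠ t := fun e => hn1 (hfinj (e.trans hft.symm))
      have hn3 : f u ≠ u := fun e => hne (by rw [e, e])
      have hn4 : f (f u) ≠ f u := fun e => hn3 (hfinj e)
      have h4 : ({t, u, f u, f (f u)} : Finset G).card = 4 := by
        simp [Finset.card_insert_of_notMem, Ne.symm hn1, Ne.symm hn2, Ne.symm hut, Ne.symm hn3,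
          Ne.symm hne, Ne.symm hn4]
      have h5 := hF.card_involution_commute K hy
      rw [Nat.card_eq_fintype_card, Fintype.card_subtype] at h5
      have hsub : ({t, u, f u, f (f u)} : Finset G) ⊆
          Finset.univ.filter fun x => orderOf x = 2 ∧ Commute x y := fun x hx => by
        simp only [Finset.mem_insert, Finset.mem_singleton] at hx
        rcases hx with rfl | rfl | rfl | rfl <;> simp [ht, hty, hu, h1, h2]
      have := Finset.card_le_card hsub
      omega
    have hcard := hF.card_involution_commute K hy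
    obtain ⟨⟨u, hu⟩, hne⟩ : ∃ u : {x : G // orderOf x = 2 ∧ Commute x y}, u.1 ≠ t := by
      by_contra! h
      have : Subsingleton {x : G // orderOf x = 2 ∧ Commute x y} :=
        ⟨fun a b => Subtype.ext ((h a).trans (h b).symm)⟩
      have := Finite.card_le_one_iff_subsingleton.2 this
      omega
    have hfix : t * u * t⁻¹ = u := by
      rw [← ht2]
      calc g ^ 2 * u * (g ^ 2)⁻¹ = g * (g * u * g⁻¹) * g⁻¹ := by rw [sq, mul_inv_rev]; group
        _ = u := (hperm u hu).resolve_left hne
    have huD : u ∈ D := mem_inf.2 ⟨mem_centralizer_singleton_iff.2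
      (show u * t = t * u by rw [← mul_inv_eq_iff_eq_mul.1 hfix]),
      mem_centralizer_singleton_iff.2 hu.2.eq⟩
    have huS := hall u huD (sq_of_orderOf_two hu.1)
    exact hne ((honly u huS (sq_of_orderOf_two hu.1)
      (fun e => by rw [e, orderOf_one] at hu; norm_num at hu)).trans ht2)
  have hmemS : ∀ x, x ∈ S ↔ x * x = 1 ∧ Commute x y := by
    intro x
    refine ⟨fun hx => ⟨hexp x hx, hSy x hx⟩, fun ⟨hxx, hxy⟩ => ?_⟩
    by_contra hxS
    have hx1 : x ≠ 1 := fun e => hxS (e ▸ one_mem S)
    have hsub : insert x ((Finset.univ.filter fun z => z ∈ S).erase 1) ⊆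
        Finset.univ.filter fun z : G => orderOf z = 2 ∧ Commute z y := by
      intro z hz
      simp only [Finset.mem_insert, Finset.mem_erase, Finset.mem_filter, Finset.mem_univ,
        true_and] at hz ⊢
      rcases hz with rfl | ⟨hz1, hzS⟩
      · exact ⟨orderOf_two_of_sq hxx hx1, hxy⟩
      · exact ⟨orderOf_two_of_sq (hexp z hzS) hz1, hSy z hzS⟩
    have h := Finset.card_le_card hsub
    have h3 := hF.card_involution_commute K hy
    have h4 := hS4
    rw [Nat.card_eq_fintype_card, Fintype.card_subtype] at h3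
    rw [Nat.card_eq_fintype_card, Fintype.card_subtype] at h4
    rw [Finset.card_insert_of_notMem (by simp [hxS]), Finset.card_erase_of_mem (by simp [one_mem]),
      h4, h3] at h
    omega
  have heq : fourGroup y = S := by
    rw [fourGroup, show {x | x * x = 1 ∧ Commute x y} = (S : Set G) from
      Set.ext fun x => (hmemS x).symm, closure_eq]
  exact ⟨heq ▸ hS4, fun x => heq ▸ hmemS x⟩

/-- No involution commutes with two independent commuting elements of order three. -/
theorem Facts.not_commute_both (hF : Facts G) (K : Chars G) {t y w : G} (ht : orderOf t = 2)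
    (hy : orderOf y = 3) (hty : Commute t y) (htw : Commute t w) (hyw : Commute y w)
    (hw : w ^ 3 = 1) : w ∈ zpowers y := by
  by_contra h
  have : Fact (Nat.Prime 3) := ⟨Nat.prime_three⟩
  set A := closure ({y, w} : Set G) with hA
  have hAC : A ≤ centralizer ({t} : Set G) := (closure_le _).2 (by
    rintro x (rfl | rfl)
    · exact mem_centralizer_singleton_iff.2 hty.symm.eq
    · exact mem_centralizer_singleton_iff.2 htw.symm.eq)
  have hAp : IsPGroup 3 A := by
    have hAA : ∀ a ∈ A, ∀ b ∈ A, Commute a b := by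
      have hle : A ≤ centralizer (A : Set G) := by
        rw [hA, centralizer_closure, closure_le]
        rintro x (rfl | rfl) <;> refine mem_centralizer_iff.2 ?_ <;> rintro z (rfl | rfl) <;>
          first | rfl | exact hyw.eq | exact hyw.symm.eq
      exact fun a ha b hb => mem_centralizer_iff.1 (hle hb) a ha
    intro g
    refine ⟨1, ?_⟩
    rw [pow_one]
    refine Subtype.ext ?_
    suffices hall : ∀ x ∈ A, x ^ 3 = 1 by simpa using hall g g.2
    intro x hx
    induction hx using closure_induction with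
    | mem x hx => rcases hx with rfl | rfl <;> [exact hy ▸ pow_orderOf_eq_one x; exact hw]
    | one => simp
    | mul a b ha hb iha ihb => rw [(hAA a ha b hb).mul_pow, iha, ihb, one_mul]
    | inv a ha iha => rw [inv_pow, iha, inv_one]
  obtain ⟨n, hn⟩ := hAp.exists_card_eq
  have h1 : Nat.card A ∣ 384 := (hF.involution K ht).1 ▸ card_dvd_of_le hAC
  have hn1 : n ≤ 1 := by
    by_contra hn2
    have : 3 ^ 2 ∣ 384 := ((pow_dvd_pow 3 (by omega : 2 ≤ n)).trans (hn ▸ dvd_refl _)).trans h1
    norm_num at this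
  have hle : zpowers y ≤ A := zpowers_le.2 (subset_closure (by simp))
  have heq : zpowers y = A := Subgroup.eq_of_le_of_card_ge hle (by
    rw [Nat.card_zpowers, hy, hn]
    calc 3 ^ n ≤ 3 ^ 1 := Nat.pow_le_pow_right (by norm_num) hn1
      _ = 3 := pow_one 3)
  exact h (heq ▸ subset_closure (by simp))

/-- An elementary abelian Sylow 3-subgroup through `y`. -/
theorem Facts.exists_nine (hF : Facts G) (K : Chars G) {y : G} (hy : orderOf y = 3) :
    ∃ P : Subgroup G, Nat.card P = 9 ∧ y ∈ P ∧ (∀ a ∈ P, ∀ b ∈ P, Commute a b) ∧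
      ∀ a ∈ P, a ^ 3 = 1 := by
  have : Fact (Nat.Prime 3) := ⟨Nat.prime_three⟩
  obtain ⟨P, hP⟩ := (IsPGroup.of_card (p := 3) (n := 1)
    (by rw [Nat.card_zpowers, hy, pow_one] : Nat.card (zpowers y) = 3 ^ 1)).exists_le_sylow
  have hc : Nat.card (P : Subgroup G) = 3 ^ 2 := by
    rw [Sylow.card_eq_multiplicity, hF.card, show 443520 = 3 ^ 2 * 49280 from rfl,
      Nat.factorization_mul (by norm_num) (by norm_num), Finsupp.add_apply,
      Nat.factorization_eq_zero_of_not_dvd (by norm_num : ¬ 3 ∣ 49280),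
      Nat.Prime.factorization_pow Nat.prime_three, Finsupp.single_eq_same, add_zero]
  refine ⟨P, by rw [hc]; norm_num, hP (mem_zpowers y), fun a ha b hb =>
    congrArg Subtype.val (IsPGroup.commutative_of_card_eq_prime_sq hc ⟨a, ha⟩ ⟨b, hb⟩), ?_⟩
  intro a ha
  have h := (P : Subgroup G).orderOf_dvd_natCard ha
  rw [hc] at h
  obtain ⟨k, hk, e⟩ := (Nat.dvd_prime_pow Nat.prime_three).1 h
  interval_cases k
  · rw [orderOf_eq_one_iff.1 (show orderOf a = 1 by simpa using e)]; simp
  · exact orderOf_dvd_iff_pow_eq_one.1 (by rw [e]; norm_num)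
  · exact absurd (by simpa using e) (hF.no_order_nine K a)

end Cfsg.Agent.M22Order
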