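import Mathlib

/-!
# Parameters of a rank three graph on 77 vertices of valency 16 or 36
-/

set_option autoImplicit false

namespace Cfsg.Agent.M22Order

variable {V : Type*} [Fintype V] {Γ : SimpleGraph V} [DecidableRel Γ.Adj]

theorem exists_trace_field {F : Type*} [Field F] [DecidableEq V] (E : Matrix V V F)
    (h : E * E = E) : ∃ f : ℕ, f ≤ Fintype.card V ∧ E.trace = f := by
  have hid : IsIdempotentElem (Matrix.toLin' E) := by
    show Matrix.toLin' E ∘ₗ Matrix.toLin' E = Matrix.toLin' E
    rw [← Matrix.toLin'_mul, h]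
  refine ⟨Module.finrank F (LinearMap.range (Matrix.toLin' E)), ?_, ?_⟩
  · exact (Submodule.finrank_le _).trans (by simp)
  · have h1 := LinearMap.IsProj.trace (LinearMap.IsIdempotentElem.isProj_range _ hid)
    rwa [Matrix.trace_toLin'_eq] at h1

/-- Modulo a prime, the trace of the projection to an eigenspace is a natural number at most 77. -/
theorem false_of_eigen {F : Type*} [Field F] {k l μ : ℕ} (h : Γ.IsSRGWith 77 k l μ) {r s : F}
    (h77 : (77 : F) ≠ 0) (hrs : r - s ≠ 0) (hsum : r + s = (l : F) - μ)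
    (hprod : r * s = (μ : F) - k) (hpar : (k : F) * ((k : F) - l - 1) = (76 - (k : F)) * μ)
    (hno : ∀ f : ℕ, f ≤ 77 → (f : F) * (r - s) ≠ -(76 * s) - k) : False := by
  classical
  set A := Γ.adjMatrix F with hA
  let J : Matrix V V F := Matrix.of fun _ _ => 1
  set t : F := ((k : F) - s) / 77 with ht
  set M : Matrix V V F := A - s • 1 - t • J with hM
  have hsq : A * A = (k : F) • 1 + (l : F) • A + (μ : F) • (J - 1 - A) := by
    have := h.matrix_eq (α := F)
    rw [pow_two, ← hA] at this
    rw [this]
    simp only [← Nat.cast_smul_eq_nsmul F]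
    ext i j
    by_cases hij : i = j
    · subst hij; simp [J, hA]
    · by_cases ha : Γ.Adj i j <;> simp [J, hA, hij, ha]
  have hAJ : A * J = (k : F) • J := by
    ext i j
    simp [J, hA, Matrix.smul_apply, h.regular i]
  have hJA : J * A = (k : F) • J := by
    ext i j
    simp [J, hA, Matrix.smul_apply, h.regular j]
  have hJJ : J * J = (77 : F) • J := by
    ext i j
    simp [J, Matrix.mul_apply, h.card]
  have ht77 : t * 77 = (k : F) - s := by rw [ht, div_mul_cancel₀ _ h77]
  have hJc : (μ : F) + t * (r + s - 2 * k + t * 77) = 0 := by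
    refine (mul_eq_zero.1 (?_ : (77 : F) * _ = 0)).resolve_left h77
    linear_combination (r + s - 2 * k + t * 77 + (k - s)) * ht77 - hpar + (k : F) * hsum - hprod
  have hMM : M * M = (r - s) • M := by
    simp only [hM, sub_mul, mul_sub, Matrix.smul_mul, Matrix.mul_smul, Matrix.one_mul,
      Matrix.mul_one, hsq, hAJ, hJA, hJJ]
    ext i j
    simp only [Matrix.sub_apply, Matrix.add_apply, Matrix.smul_apply, smul_eq_mul]
    linear_combination (-(A i j)) * hsum + ((1 : Matrix V V F) i j) * hprod + (J i j) * hJc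
  set E : Matrix V V F := (r - s)⁻¹ • M with hE
  have hEE : E * E = E := by
    rw [hE, Matrix.smul_mul, Matrix.mul_smul, hMM, smul_smul, smul_smul, mul_comm ((r - s)⁻¹ * _),
      ← mul_assoc, mul_inv_cancel₀ hrs, one_mul]
  obtain ⟨f, hf, htr⟩ := exists_trace_field E hEE
  have htrM : M.trace = -(76 * s) - k := by
    rw [hM, Matrix.trace_sub, Matrix.trace_sub, Matrix.trace_smul, Matrix.trace_smul,
      Matrix.trace_one, show A.trace = 0 by rw [hA]; exact Γ.trace_adjMatrix F,
      show J.trace = (77 : F) by simp [J, Matrix.trace, h.card], h.card, smul_eq_mul, smul_eq_mul,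
      ht77]
    push_cast
    ring
  refine hno f (by rwa [h.card] at hf) ?_
  rw [← htr, hE, Matrix.trace_smul, smul_eq_mul, htrM]
  field_simp

theorem no_residue (p : ℕ) [Fact p.Prime] (a b : ZMod p)
    (h : ∀ f : ℕ, f < 78 → (f : ZMod p) * a ≠ b) : ∀ f : ℕ, f ≤ 77 → (f : ZMod p) * a ≠ b :=
  fun f hf => h f (by omega)

theorem fact97 : Fact (Nat.Prime 97) := ⟨by norm_num⟩

theorem fact103 : Fact (Nat.Prime 103) := ⟨by norm_num⟩

theorem fact109 : Fact (Nat.Prime 109) := ⟨by norm_num⟩

theorem fact131 : Fact (Nat.Prime 131) := ⟨by norm_num⟩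

attribute [local instance] fact97 fact103 fact109 fact131

/-- The parameters are `(77, 16, 0, 4)`. -/
theorem params {k l μ : ℕ} (h : Γ.IsSRGWith 77 k l μ) (hk : k = 16 ∨ k = 36) (v₀ : V) :
    k = 16 ∧ l = 0 ∧ μ = 4 := by
  classical
  have hl : l + 1 ≤ k := by
    obtain ⟨w, hw⟩ : (Γ.neighborFinset v₀).Nonempty := Finset.card_pos.1 (by
      rw [Γ.card_neighborFinset_eq_degree, h.regular v₀]; omega)
    rw [SimpleGraph.mem_neighborFinset] at hw
    rw [← h.of_adj v₀ w hw, ← Set.toFinset_card, ← h.regular v₀,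
      ← Γ.card_neighborFinset_eq_degree]
    refine le_trans (Nat.succ_le_succ (Finset.card_le_card
      (t := (Γ.neighborFinset v₀).erase w) fun x hx => ?_)) ?_
    · rw [Set.mem_toFinset, SimpleGraph.mem_commonNeighbors] at hx
      rw [Finset.mem_erase, SimpleGraph.mem_neighborFinset]
      exact ⟨fun e => Γ.irrefl (e ▸ hx.2), hx.1⟩
    · rw [Finset.card_erase_of_mem (by simpa using hw)]
      have : 0 < (Γ.neighborFinset v₀).card := by
        rw [Γ.card_neighborFinset_eq_degree, h.regular v₀]; omega
      omega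
  have hp := SimpleGraph.IsSRGWith.param_eq Γ h (by norm_num)
  rcases hk with rfl | rfl
  · have hcases : (l = 0 ∧ μ = 4) ∨ (l = 15 ∧ μ = 0) := by omega
    rcases hcases with h0 | ⟨rfl, rfl⟩
    · exact ⟨rfl, h0⟩
    · exfalso
      exact false_of_eigen (F := ZMod 131) (r := 130) (s := 16) h (by decide) (by decide) (by decide)
        (by decide) (by decide) (no_residue 131 _ _ (by decide +kernel))
  · exfalso
    have hcases : (l = 35 ∧ μ = 0) ∨ (l = 25 ∧ μ = 9) ∨ (l = 15 ∧ μ = 18) ∨ (l = 5 ∧ μ = 27) := by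
      omega
    rcases hcases with ⟨rfl, rfl⟩ | ⟨rfl, rfl⟩ | ⟨rfl, rfl⟩ | ⟨rfl, rfl⟩
    · exact false_of_eigen (F := ZMod 131) (r := 130) (s := 36) h (by decide) (by decide) (by decide)
        (by decide) (by decide) (no_residue 131 _ _ (by decide +kernel))
    · exact false_of_eigen (F := ZMod 103) (r := 91) (s := 28) h (by decide) (by decide) (by decide)
        (by decide) (by decide) (no_residue 103 _ _ (by decide +kernel))
    · exact false_of_eigen (F := ZMod 97) (r := 91) (s := 3) h (by decide) (by decide) (by decide)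
        (by decide) (by decide) (no_residue 97 _ _ (by decide +kernel))
    · exact false_of_eigen (F := ZMod 109) (r := 70) (s := 17) h (by decide) (by decide) (by decide)
        (by decide) (by decide) (no_residue 109 _ _ (by decide +kernel))

end Cfsg.Agent.M22Order
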