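import Cfsg.Agent.M22Order.Index
import Cfsg.Agent.Char.Suborbit

/-!
# The action on the cosets of the subgroup of index 77 has rank three
-/

set_option autoImplicit false
set_option maxRecDepth 4000
set_option synthInstance.maxSize 2000

namespace Cfsg.Agent.M22Order

open Subgroup
open scoped ComplexConjugate

universe u

variable {G : Type u} [Group G] [Fintype G]

theorem subdegree_check : ∀ k < 77, k ∣ 5760 → (76 - k) ∣ 5760 →
    ((k % 5 = 1 ∧ (76 - k) % 5 = 0) ∨ (k % 5 = 0 ∧ (76 - k) % 5 = 1)) →
    k = 16 ∨ k = 60 ∨ k = 36 ∨ k = 40 := by decide +kernel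

theorem Facts.rank_three (hF : Facts G) (K : Chars G) (N : Subgroup G) (hN : Nat.card N = 5760) :
    Nat.card (G ⧸ N) = 77 ∧ ∃ b c : G ⧸ N,
      (((MulAction.orbit (MulAction.stabilizer G ((1 : G) : G ⧸ N)) b).ncard = 16 ∧
        (MulAction.orbit (MulAction.stabilizer G ((1 : G) : G ⧸ N)) c).ncard = 60) ∨
      ((MulAction.orbit (MulAction.stabilizer G ((1 : G) : G ⧸ N)) b).ncard = 36 ∧
        (MulAction.orbit (MulAction.stabilizer G ((1 : G) : G ⧸ N)) c).ncard = 40)) := by
  classical
  have : Fintype (G ⧸ N) := Fintype.ofFinite _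
  have : Fact (Nat.Prime 5) := ⟨Nat.prime_five⟩
  have hΩ : Nat.card (G ⧸ N) = 77 := by
    have h := N.card_mul_index
    rw [hN, hF.card, Subgroup.index_eq_card] at h
    omega
  refine ⟨hΩ, ?_⟩
  set a : G ⧸ N := ((1 : G) : G ⧸ N) with ha
  set St := MulAction.stabilizer G a with hSt
  have hStc : Nat.card St = 5760 := by
    rw [hSt, MulAction.stabilizer_quotient, hN]
  -- multiplicities
  let πf : G → ℂ := fun g => (Nat.card (MulAction.fixedBy (G ⧸ N) g) : ℂ)
  have hπc : IsCharacter G πf := Char.pi_isCharacter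
  choose m hm using fun χ : IrrCharacter G =>
    Char.classInner_isCharacter_eq_natCast hπc (Char.IsIrr.isCharacter χ.2)
  have hm1 : m K.c1 = 1 := by
    have h := hm K.c1
    rw [show ((K.c1 : IrrCharacter G) : G → ℂ) = fun _ => 1 from funext K.one_apply,
      Char.pi_inner_one] at h
    exact_mod_cast h.symm
  have hexp : ∀ g, πf g = ∑ χ : IrrCharacter G, (m χ : ℂ) * (χ : G → ℂ) g := by
    intro g
    conv_lhs => rw [Char.classFun_expansion (Char.isClassFunction_of_isCharacter hπc)]
    simp only [Finset.sum_apply, Pi.smul_apply, smul_eq_mul, hm]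
  have hdeg : m K.c1 + 21 * m K.c21 + 45 * m K.c45 + 45 * m K.c45' + 55 * m K.c55 + 99 * m K.c99 +
      154 * m K.c154 + 210 * m K.c210 + 231 * m K.c231 + 280 * m K.c280 + 280 * m K.c280' +
      385 * m K.c385 = 77 := by
    have h := hexp 1
    rw [K.sum_eq] at h
    simp only [char_one, K.degOf_c1, K.d21, K.d45, K.d45', K.d55, K.d99, K.d154, K.d210, K.d231,
      K.d280, K.d280', K.d385] at h
    have h1 : πf 1 = ((77 : ℕ) : ℂ) := by
      show ((Nat.card (MulAction.fixedBy (G ⧸ N) (1 : G)) : ℕ) : ℂ) = _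
      rw [← hΩ, MulAction.fixedBy_one_eq_univ, Nat.card_coe_set_eq, Set.ncard_univ]
    rw [h1] at h
    have h2 : ((77 : ℕ) : ℂ) = ((m K.c1 + 21 * m K.c21 + 45 * m K.c45 + 45 * m K.c45' +
        55 * m K.c55 + 99 * m K.c99 + 154 * m K.c154 + 210 * m K.c210 + 231 * m K.c231 +
        280 * m K.c280 + 280 * m K.c280' + 385 * m K.c385 : ℕ) : ℂ) := by
      push_cast at h ⊢
      linear_combination h
    exact_mod_cast h2.symm
  have hms : m K.c21 = 1 ∧ m K.c45 = 0 ∧ m K.c45' = 0 ∧ m K.c55 = 1 ∧ m K.c99 = 0 ∧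
      m K.c154 = 0 ∧ m K.c210 = 0 ∧ m K.c231 = 0 ∧ m K.c280 = 0 ∧ m K.c280' = 0 ∧ m K.c385 = 0 := by
    have z : 99 * m K.c99 + 154 * m K.c154 + 210 * m K.c210 + 231 * m K.c231 + 280 * m K.c280 +
        280 * m K.c280' + 385 * m K.c385 ≤ 76 := by
      rw [hm1] at hdeg
      linarith [Nat.zero_le (m K.c21), Nat.zero_le (m K.c45), Nat.zero_le (m K.c45'),
        Nat.zero_le (m K.c55)]
    have z99 : m K.c99 = 0 := by
      rcases Nat.eq_zero_or_pos (m K.c99) with h | h
      · exact h
      · linarith
    have z154 : m K.c154 = 0 := by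
      rcases Nat.eq_zero_or_pos (m K.c154) with h | h
      · exact h
      · linarith
    have z210 : m K.c210 = 0 := by
      rcases Nat.eq_zero_or_pos (m K.c210) with h | h
      · exact h
      · linarith
    have z231 : m K.c231 = 0 := by
      rcases Nat.eq_zero_or_pos (m K.c231) with h | h
      · exact h
      · linarith
    have z280 : m K.c280 = 0 := by
      rcases Nat.eq_zero_or_pos (m K.c280) with h | h
      · exact h
      · linarith
    have z280' : m K.c280' = 0 := by
      rcases Nat.eq_zero_or_pos (m K.c280') with h | h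
      · exact h
      · linarith
    have z385 : m K.c385 = 0 := by
      rcases Nat.eq_zero_or_pos (m K.c385) with h | h
      · exact h
      · linarith
    rw [hm1, z99, z154, z210, z231, z280, z280', z385] at hdeg
    have e1 : m K.c55 ≤ 1 := by omega
    have e2 : m K.c45 ≤ 1 := by omega
    have e3 : m K.c45' ≤ 1 := by omega
    interval_cases h55 : m K.c55 <;> interval_cases h45 : m K.c45 <;>
      interval_cases h45' : m K.c45' <;> omega
  obtain ⟨m21, m45, m45', m55, m99, m154, m210, m231, m280, m280', m385⟩ := hms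
  have hrank : Nat.card (MulAction.orbitRel.Quotient St (G ⧸ N)) = 3 := by
    have h1 := Char.pi_inner_self (G := G) (Ω := G ⧸ N) a
    have h2 := Char.classInner_eq_sum (f' := πf) (Char.isClassFunction_of_isCharacter hπc) (f := πf)
    replace h1 : classInner πf πf =
        ((Nat.card (MulAction.orbitRel.Quotient St (G ⧸ N)) : ℕ) : ℂ) := h1
    rw [h1] at h2
    have h3 : ((Nat.card (MulAction.orbitRel.Quotient St (G ⧸ N)) : ℕ) : ℂ) =
        ((∑ χ : IrrCharacter G, m χ * m χ : ℕ) : ℂ) := by
      rw [h2, Nat.cast_sum]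
      refine Finset.sum_congr rfl fun χ _ => ?_
      rw [← Char.classInner_conj_symm πf (χ : G → ℂ), hm, map_natCast]
      push_cast
      ring
    have h4 : (∑ χ : IrrCharacter G, ((m χ * m χ : ℕ) : ℂ)) = ((3 : ℕ) : ℂ) := by
      rw [K.sum_eq]
      norm_num [hm1, m21, m45, m45', m55, m99, m154, m210, m231, m280, m280', m385]
    rw [Nat.cast_sum, h4] at h3
    exact_mod_cast h3
  -- an element of order five with two fixed points
  have hfix5 : Nat.card (MulAction.fixedBy (G ⧸ N) K.z5) = 2 := by
    have h := hexp K.z5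
    rw [K.w5] at h
    have h2 : ((Nat.card (MulAction.fixedBy (G ⧸ N) K.z5) : ℕ) : ℂ) = ((2 : ℕ) : ℂ) := by
      refine h.trans ?_
      rw [hm1, m21, m231, m99, m154]
      norm_num
    exact_mod_cast h2
  obtain ⟨⟨x0, hx0⟩, -⟩ : ∃ x : MulAction.fixedBy (G ⧸ N) K.z5, True := by
    have : Nonempty (MulAction.fixedBy (G ⧸ N) K.z5) :=
      (Nat.card_ne_zero.1 (by rw [hfix5]; norm_num)).1
    exact ⟨Classical.arbitrary _, trivial⟩
  obtain ⟨g, hg⟩ := MulAction.exists_smul_eq G a x0
  set z := g⁻¹ * K.z5 * g with hz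
  have hzfix : Nat.card (MulAction.fixedBy (G ⧸ N) z) = 2 := by
    rw [← hfix5]
    refine Nat.card_congr (Equiv.subtypeEquiv (MulAction.toPerm g) fun x => ?_)
    show z • x = x ↔ K.z5 • g • x = g • x
    rw [hz, mul_smul, mul_smul, inv_smul_eq_iff]
  have hza : z ∈ St := by
    show z • a = a
    rw [hz, mul_smul, mul_smul, inv_smul_eq_iff, hg]
    exact hx0
  have hz5 : z ^ 5 = 1 := by
    have : orderOf z = 5 := by
      rw [hz, show g⁻¹ * K.z5 * g = MulAut.conj g⁻¹ K.z5 by simp, (MulAut.conj g⁻¹).orderOf_eq,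
        K.hz5]
    rw [← this]
    exact pow_orderOf_eq_one z
  -- the two nontrivial suborbits
  have horba : MulAction.orbit St a = {a} := Set.Subset.antisymm
    (by rintro _ ⟨⟨h, hh⟩, rfl⟩; exact hh) (Set.singleton_subset_iff.2 (MulAction.mem_orbit_self a))
  set qa : MulAction.orbitRel.Quotient St (G ⧸ N) := Quotient.mk'' a with hqa
  have : Fintype (MulAction.orbitRel.Quotient St (G ⧸ N)) := Fintype.ofFinite _
  obtain ⟨qb, qc, hbc, hrest⟩ := Finset.card_eq_two.1
    (show (Finset.univ.erase qa).card = 2 by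
      rw [Finset.card_erase_of_mem (Finset.mem_univ _), Finset.card_univ, ← Nat.card_eq_fintype_card,
        hrank])
  obtain ⟨b, rfl⟩ := Quotient.exists_rep qb
  obtain ⟨c, rfl⟩ := Quotient.exists_rep qc
  have hba : ¬ b ∈ MulAction.orbit St a := fun h => Finset.ne_of_mem_erase
    (by rw [hrest]; exact Finset.mem_insert_self _ _) (Quotient.sound h)
  have hca : ¬ c ∈ MulAction.orbit St a := fun h => Finset.ne_of_mem_erase
    (by rw [hrest]; exact Finset.mem_insert_of_mem (Finset.mem_singleton_self _)) (Quotient.sound h)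
  have hcb : ¬ c ∈ MulAction.orbit St b := fun h => hbc (Quotient.sound h).symm
  have hcover : ∀ x, x = a ∨ x ∈ MulAction.orbit St b ∨ x ∈ MulAction.orbit St c := by
    intro x
    by_cases hxa : Quotient.mk'' x = qa
    · left
      have : x ∈ MulAction.orbit St a := Quotient.exact hxa
      rwa [horba, Set.mem_singleton_iff] at this
    · right
      have : Quotient.mk'' x ∈ Finset.univ.erase qa := Finset.mem_erase.2 ⟨hxa, Finset.mem_univ _⟩
      rw [hrest, Finset.mem_insert, Finset.mem_singleton] at this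
      exact this.imp Quotient.exact Quotient.exact
  have hdvd : ∀ x : G ⧸ N, (MulAction.orbit St x).ncard ∣ 5760 := fun x => by
    rw [← hStc, ← Nat.card_coe_set_eq, Nat.card_congr (MulAction.orbitEquivQuotientStabilizer St x)]
    exact Subgroup.index_eq_card (MulAction.stabilizer St x) ▸ Subgroup.index_dvd_card _
  -- fixed points of `z` on a suborbit
  have hcong : ∀ x : G ⧸ N, (MulAction.orbit St x).ncard % 5 =
      {y | y ∈ MulAction.orbit St x ∧ z • y = y}.ncard % 5 := by
    intro x
    let f : Function.End (MulAction.orbit St x) := fun y => (⟨z, hza⟩ : St) • y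
    have hf : f ^ 5 ^ 1 = 1 := by
      funext y
      refine Subtype.ext ?_
      show z • z • z • z • z • (y : G ⧸ N) = y
      rw [← mul_smul, ← mul_smul, ← mul_smul, ← mul_smul, show z * z * z * z * z = z ^ 5 by
        simp [pow_succ], hz5, one_smul]
    have h := Equiv.Perm.card_fixedPoints_modEq hf
    rw [← Nat.card_coe_set_eq, ← Nat.card_coe_set_eq, Nat.card_eq_fintype_card]
    refine h.trans ?_
    rw [← Nat.card_eq_fintype_card]
    refine congrArg (· % 5) (Nat.card_congr ?_)
    exact
      { toFun := fun y => ⟨(y.1 : G ⧸ N), y.1.2, congrArg Subtype.val y.2⟩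
        invFun := fun y => ⟨⟨y.1, y.2.1⟩, Subtype.ext y.2.2⟩
        left_inv := fun y => rfl
        right_inv := fun y => rfl }
  set Fb := {y | y ∈ MulAction.orbit St b ∧ z • y = y} with hFb
  set Fc := {y | y ∈ MulAction.orbit St c ∧ z • y = y} with hFc
  have hdisj : Disjoint (MulAction.orbit St b) (MulAction.orbit St c) := by
    rw [Set.disjoint_left]
    intro y hyb hyc
    exact hcb (by rw [← MulAction.orbit_eq_iff.2 hyb, MulAction.orbit_eq_iff.2 hyc]
                  exact MulAction.mem_orbit_self c)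
  have hnab : a ∉ MulAction.orbit St b ∪ MulAction.orbit St c := by
    rintro (h | h)
    · exact hba (by rw [MulAction.orbit_eq_iff.2 h]; exact MulAction.mem_orbit_self b)
    · exact hca (by rw [MulAction.orbit_eq_iff.2 h]; exact MulAction.mem_orbit_self c)
  have hsum : (MulAction.orbit St b).ncard + (MulAction.orbit St c).ncard = 76 := by
    have hu : insert a (MulAction.orbit St b ∪ MulAction.orbit St c) = Set.univ :=
      Set.eq_univ_of_forall fun x => Set.mem_insert_iff.2 (hcover x)
    have h := congrArg Set.ncard hu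
    rw [Set.ncard_insert_of_notMem hnab, Set.ncard_union_eq hdisj, Set.ncard_univ, hΩ] at h
    omega
  have hfsum : Fb.ncard + Fc.ncard = 1 := by
    have hu : MulAction.fixedBy (G ⧸ N) z = insert a (Fb ∪ Fc) := by
      ext x
      simp only [MulAction.mem_fixedBy, Set.mem_insert_iff, Set.mem_union, hFb, hFc, Set.mem_setOf_eq]
      constructor
      · intro hx
        exact (hcover x).imp id fun h => h.imp (fun h' => ⟨h', hx⟩) fun h' => ⟨h', hx⟩
      · rintro (rfl | h | h)
        · exact hza
        · exact h.2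
        · exact h.2
    have h := hzfix
    rw [Nat.card_coe_set_eq, hu, Set.ncard_insert_of_notMem (fun h => hnab (h.imp (·.1) (·.1))),
      Set.ncard_union_eq (hdisj.mono (fun _ h => h.1) (fun _ h => h.1))] at h
    omega
  have hk := subdegree_check (MulAction.orbit St b).ncard (by omega) (hdvd b)
    (by rw [show 76 - (MulAction.orbit St b).ncard = (MulAction.orbit St c).ncard by omega]
        exact hdvd c)
    (by
      have h1 := hcong b
      have h2 := hcong c
      rw [← hFb] at h1
      rw [← hFc] at h2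
      omega)
  rcases hk with h | h | h | h
  · exact ⟨b, c, Or.inl ⟨h, by omega⟩⟩
  · exact ⟨c, b, Or.inl ⟨by omega, h⟩⟩
  · exact ⟨b, c, Or.inr ⟨h, by omega⟩⟩
  · exact ⟨c, b, Or.inr ⟨by omega, h⟩⟩

end Cfsg.Agent.M22Order
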