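import Cfsg.Agent.M22Order.Config

/-!
# The subgroup of order sixteen and the involutions of the configuration
-/

set_option autoImplicit false

namespace Cfsg.Agent.M22Order

open Subgroup

universe u

variable {G : Type u} [Group G] [Fintype G]

theorem mem_sup_of_commute {A B : Subgroup G} (h : ∀ a ∈ A, ∀ b ∈ B, Commute a b) (x : G) :
    x ∈ A ⊔ B ↔ ∃ a ∈ A, ∃ b ∈ B, x = a * b := by
  refine ⟨fun hx => ?_, fun ⟨a, ha, b, hb, e⟩ => e ▸ mul_mem_sup ha hb⟩
  let S : Subgroup G :=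
    { carrier := {x | ∃ a ∈ A, ∃ b ∈ B, x = a * b}
      one_mem' := ⟨1, one_mem A, 1, one_mem B, (one_mul 1).symm⟩
      mul_mem' := by
        rintro _ _ ⟨a, ha, b, hb, rfl⟩ ⟨a', ha', b', hb', rfl⟩
        exact ⟨a * a', mul_mem ha ha', b * b', mul_mem hb hb',
          (h a' ha' b hb).symm.mul_mul_mul_comm a b'⟩
      inv_mem' := by
        rintro _ ⟨a, ha, b, hb, rfl⟩
        refine ⟨a⁻¹, inv_mem ha, b⁻¹, inv_mem hb, ?_⟩
        rw [mul_inv_rev, (h a ha b hb).inv_inv.symm.eq] }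
  exact (sup_le (fun a ha => ⟨a, ha, 1, one_mem B, (mul_one a).symm⟩)
    (fun b hb => ⟨1, one_mem A, b, hb, (one_mul b).symm⟩) : A ⊔ B ≤ S) hx

/-- The conjugates of `x` by elements of `H`. -/
def conjSet (H : Subgroup G) (x : G) : Set G := {u | ∃ h ∈ H, h * x * h⁻¹ = u}

theorem card_conjSet_mul (H : Subgroup G) (x : G) :
    (conjSet H x).ncard * Nat.card (H ⊓ centralizer ({x} : Set G) : Subgroup G) = Nat.card H := by
  classical
  let D : Subgroup H := (H ⊓ centralizer ({x} : Set G)).subgroupOf H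
  have hD : Nat.card D = Nat.card (H ⊓ centralizer ({x} : Set G) : Subgroup G) :=
    Nat.card_congr (subgroupOfEquivOfLe inf_le_left).toEquiv
  have key : ∀ a b : H, a⁻¹ * b ∈ D ↔ (a : G) * x * (a : G)⁻¹ = b * x * (b : G)⁻¹ := by
    intro a b
    simp only [D, mem_subgroupOf, mem_inf, mem_centralizer_singleton_iff, coe_mul, coe_inv]
    constructor
    · rintro ⟨-, e⟩
      calc (a : G) * x * (a : G)⁻¹ = a * (x * ((a : G)⁻¹ * b)) * (b : G)⁻¹ := by group
        _ = a * (((a : G)⁻¹ * b) * x) * (b : G)⁻¹ := by rw [e]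
        _ = b * x * (b : G)⁻¹ := by group
    · intro e
      refine ⟨mul_mem (inv_mem a.2) b.2, ?_⟩
      calc (a : G)⁻¹ * b * x = (a : G)⁻¹ * (b * x * (b : G)⁻¹) * b := by group
        _ = (a : G)⁻¹ * (a * x * (a : G)⁻¹) * b := by rw [e]
        _ = x * ((a : G)⁻¹ * b) := by group
  let f : H ⧸ D → conjSet H x := fun q => ⟨(q.out : G) * x * (q.out : G)⁻¹, _, q.out.2, rfl⟩
  have hf : Function.Bijective f := by
    constructor
    · intro p q e
      rw [← QuotientGroup.out_eq' p, ← QuotientGroup.out_eq' q, QuotientGroup.eq, key]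
      exact congrArg Subtype.val e
    · rintro ⟨_, h, hh, rfl⟩
      refine ⟨((⟨h, hh⟩ : H) : H ⧸ D), Subtype.ext ?_⟩
      exact (key _ ⟨h, hh⟩).1 (QuotientGroup.eq.1 (QuotientGroup.out_eq' _))
  rw [← hD, ← D.card_mul_index, mul_comm, Subgroup.index_eq_card,
    Nat.card_congr (Equiv.ofBijective f hf), Nat.card_coe_set_eq]

theorem Config.y3 (c : Config G) : orderOf c.y = 3 := c.hP.orderOf_eq c.hy c.hy1

theorem Config.b3 (c : Config G) : orderOf c.b = 3 := c.hP.orderOf_eq c.hb c.hb1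

theorem Config.hyb (c : Config G) : c.y ∉ zpowers c.b := fun h =>
  c.hby (zpowers_eq_of_mem c.b3 h c.hy1 ▸ mem_zpowers c.b)

theorem Config.t_ne (c : Config G) : c.t ≠ 1 := fun e => by
  have := c.hto; rw [e, orderOf_one] at this; norm_num at this

/-- The product of the two four groups. -/
def Config.E (c : Config G) : Subgroup G := fourGroup c.y ⊔ fourGroup c.b

/-- The normaliser of the product of the two four groups. -/
def Config.N (c : Config G) : Subgroup G := normalizer (c.E : Set G)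

theorem Config.mem_E (c : Config G) (x : G) :
    x ∈ c.E ↔ ∃ u ∈ fourGroup c.y, ∃ v ∈ fourGroup c.b, x = u * v :=
  mem_sup_of_commute c.hcomm x

theorem Config.four_le_E (c : Config G) : fourGroup c.y ≤ c.E ∧ fourGroup c.b ≤ c.E :=
  ⟨le_sup_left, le_sup_right⟩

variable (hF : Facts G) (K : Chars G) (c : Config G)
include hF K

theorem Config.t_commute_y : Commute c.t c.y := ((hF.mem_four K c.y3 c.t).1 c.ht).2

theorem Config.disjoint {u : G} (hu : u ∈ fourGroup c.y) (hv : u ∈ fourGroup c.b) : u = 1 :=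
  hF.four_disjoint K c.hP c.hy c.hy1 c.hb c.hb1 c.hby hu hv

theorem Config.unique {u u' v v' : G} (hu : u ∈ fourGroup c.y) (hu' : u' ∈ fourGroup c.y)
    (hv : v ∈ fourGroup c.b) (hv' : v' ∈ fourGroup c.b) (e : u * v = u' * v') : u = u' ∧ v = v' := by
  have e1 : u'⁻¹ * u = v' * v⁻¹ := by
    calc u'⁻¹ * u = u'⁻¹ * (u * v) * v⁻¹ := by group
      _ = v' * v⁻¹ := by rw [e]; group
  have h := inv_mul_eq_one.1 (c.disjoint hF K (mul_mem (inv_mem hu') hu)
    (e1 ▸ mul_mem hv' (inv_mem hv)))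
  subst h
  exact ⟨rfl, mul_left_cancel e⟩

theorem Config.card_E : Nat.card c.E = 16 := by
  let f : fourGroup c.y × fourGroup c.b → c.E := fun p =>
    ⟨p.1 * p.2, (c.mem_E _).2 ⟨_, p.1.2, _, p.2.2, rfl⟩⟩
  have hf : Function.Bijective f := by
    refine ⟨fun p q e => ?_, fun x => ?_⟩
    · obtain ⟨h1, h2⟩ := c.unique hF K p.1.2 q.1.2 p.2.2 q.2.2 (congrArg Subtype.val e)
      exact Prod.ext (Subtype.ext h1) (Subtype.ext h2)
    · obtain ⟨u, hu, v, hv, e⟩ := (c.mem_E _).1 x.2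
      exact ⟨(⟨u, hu⟩, ⟨v, hv⟩), Subtype.ext e.symm⟩
  rw [← Nat.card_congr (Equiv.ofBijective f hf), Nat.card_prod, (hF.fourGroup_spec K c.y3).1,
    (hF.fourGroup_spec K c.b3).1]

theorem Config.E_sq {x : G} (hx : x ∈ c.E) : x * x = 1 := by
  obtain ⟨u, hu, v, hv, rfl⟩ := (c.mem_E x).1 hx
  rw [(c.hcomm u hu v hv).symm.mul_mul_mul_comm u v, ((hF.mem_four K c.y3 u).1 hu).1,
    ((hF.mem_four K c.b3 v).1 hv).1, one_mul]

theorem Config.E_commute {x z : G} (hx : x ∈ c.E) (hz : z ∈ c.E) : Commute x z :=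
  commute_of_sq (c.E_sq hF K hx) (c.E_sq hF K hz) (c.E_sq hF K (mul_mem hx hz))

theorem Config.P_le_N : c.P ≤ c.N := by
  intro g hg
  refine mem_normalizer_of_conj fun x hx => ?_
  obtain ⟨u, hu, v, hv, rfl⟩ := (c.mem_E x).1 hx
  refine (c.mem_E _).2 ⟨g * u * g⁻¹, ?_, g * v * g⁻¹, ?_, by group⟩
  · exact hF.four_conj K c.y3 (Or.inl (by rw [(c.hP.comm g hg _ c.hy).eq, mul_inv_cancel_right])) hu
  · exact hF.four_conj K c.b3 (Or.inl (by rw [(c.hP.comm g hg _ c.hb).eq, mul_inv_cancel_right])) hv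

theorem Config.E_le_C : c.E ≤ centralizer ({c.t} : Set G) := fun x hx =>
  mem_centralizer_singleton_iff.2 (c.E_commute hF K hx (c.four_le_E.1 c.ht)).eq

theorem Config.E_le_Q : c.E ≤ c.Q := by
  classical
  refine sup_le c.hKQ ?_
  by_contra hle
  have hone : ∀ u ∈ fourGroup c.b, u ∈ c.Q → u = 1 := by
    intro u hu huQ
    by_contra hu1
    refine hle fun x hx => ?_
    have hy' : c.y * c.b * c.y⁻¹ = c.b := by
      rw [(c.hP.comm _ c.hy _ c.hb).eq, mul_inv_cancel_right]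
    have hyC : c.y ∈ centralizer ({c.t} : Set G) :=
      mem_centralizer_singleton_iff.2 (c.t_commute_y hF K).symm.eq
    have hv : c.y * u * c.y⁻¹ ∈ fourGroup c.b := hF.four_conj K c.b3 (Or.inl hy') hu
    have hvQ : c.y * u * c.y⁻¹ ∈ c.Q := conj_mem_of_mem_normalizer (c.hQn hyC) huQ
    have hv1 : c.y * u * c.y⁻¹ ≠ 1 := fun e => hu1 (by
      rw [mul_inv_eq_one, mul_eq_left] at e; exact e)
    have hne : u ≠ c.y * u * c.y⁻¹ := fun e => hu1 (c.disjoint hF K
      ((hF.mem_four K c.y3 u).2 ⟨((hF.mem_four K c.b3 u).1 hu).1,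
        (show Commute c.y u from mul_inv_eq_iff_eq_mul.1 e.symm).symm⟩) hu)
    rcases hF.four_triple K c.b3 hu hv hu1 hv1 hne hx with f | f | f | f <;> rw [f]
    · exact one_mem _
    · exact huQ
    · exact hvQ
    · exact mul_mem huQ hvQ
  have hKC : fourGroup c.b ≤ centralizer ({c.t} : Set G) := c.four_le_E.2.trans (c.E_le_C hF K)
  set C := centralizer ({c.t} : Set G)
  have : (c.Q.subgroupOf C).Normal := normal_subgroupOf_of_le_normalizer c.hQn
  let f : (fourGroup c.b).subgroupOf C →* C ⧸ c.Q.subgroupOf C :=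
    (QuotientGroup.mk' (c.Q.subgroupOf C)).comp ((fourGroup c.b).subgroupOf C).subtype
  have hf : Function.Injective f := by
    refine (MonoidHom.ker_eq_bot_iff f).1 ((Subgroup.eq_bot_iff_forall _).2 fun x hx => ?_)
    have h1 : ((x : C) : G) ∈ c.Q := mem_subgroupOf.1 ((QuotientGroup.eq_one_iff _).1 hx)
    exact Subtype.ext (Subtype.ext (hone _ (mem_subgroupOf.1 x.2) h1))
  have h4 := Subgroup.card_dvd_of_injective f hf
  rw [Nat.card_congr (subgroupOfEquivOfLe hKC).toEquiv, (hF.fourGroup_spec K c.b3).1,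
    ← Subgroup.index_eq_card] at h4
  have h6 := (c.Q.subgroupOf C).card_mul_index
  rw [Nat.card_congr (subgroupOfEquivOfLe c.hQle).toEquiv, c.hQcard, (hF.involution K c.hto).1] at h6
  omega

theorem Config.centralizer_E : centralizer (c.E : Set G) = c.E := by
  classical
  have hEC : c.E ≤ centralizer (c.E : Set G) := fun x hx =>
    mem_centralizer_iff.2 fun z hz => (c.E_commute hF K hz hx).eq
  refine le_antisymm ?_ hEC
  by_contra hnle
  have hE16 := c.card_E hF K
  have hCt : centralizer (c.E : Set G) ≤ centralizer ({c.t} : Set G) :=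
    centralizer_le (Set.singleton_subset_iff.2 (c.four_le_E.1 c.ht))
  have h3 : ¬ 3 ∣ Nat.card (centralizer (c.E : Set G)) := by
    intro hd
    have : Fact (Nat.Prime 3) := ⟨Nat.prime_three⟩
    obtain ⟨x, hx⟩ := exists_prime_orderOf_dvd_card' 3 hd
    have hx' : orderOf (x : G) = 3 := by rw [Subgroup.orderOf_coe]; exact hx
    have := card_dvd_of_le (show c.E ≤ fourGroup (x : G) from fun z hz =>
      (hF.mem_four K hx' z).2 ⟨c.E_sq hF K hz, commute_of_mem_centralizer x.2 hz⟩)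
    rw [hE16, (hF.fourGroup_spec K hx').1] at this
    norm_num at this
  have hd128 : Nat.card (centralizer (c.E : Set G)) ∣ 2 ^ 7 := by
    have h := card_dvd_of_le hCt
    rw [(hF.involution K c.hto).1, show 384 = 2 ^ 7 * 3 from rfl] at h
    exact (Nat.Prime.coprime_iff_not_dvd Nat.prime_three).2 h3 |>.symm.dvd_of_dvd_mul_right h
  have : Fact (Nat.Prime 2) := ⟨Nat.prime_two⟩
  obtain ⟨k, -, hk⟩ := (Nat.dvd_prime_pow Nat.prime_two).1 hd128
  have hp : IsPGroup 2 (centralizer (c.E : Set G)) := IsPGroup.of_card hk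
  have hPn : c.P ≤ normalizer (centralizer (c.E : Set G) : Set G) := fun g hg =>
    mem_normalizer_of_conj fun x hx => mem_centralizer_iff.2 fun z hz => by
      have hz' : g⁻¹ * z * g ∈ c.E := by
        have := conj_mem_of_mem_normalizer (c.P_le_N hF K (inv_mem hg)) hz
        rwa [inv_inv] at this
      have e : g⁻¹ * z * g * x = x * (g⁻¹ * z * g) := mem_centralizer_iff.1 hx _ hz'
      calc z * (g * x * g⁻¹) = g * (g⁻¹ * z * g * x) * g⁻¹ := by group
        _ = g * (x * (g⁻¹ * z * g)) * g⁻¹ := by rw [e]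
        _ = g * x * g⁻¹ * z := by group
  obtain ⟨a, ha, ha1, haC, haE⟩ := hF.two_invariant K c.hP hp hPn hnle
  have ha3 := c.hP.orderOf_eq ha ha1
  have hcm : ∀ e ∈ c.E, ∀ w ∈ fourGroup a, Commute e w := fun e he w hw =>
    commute_of_mem_centralizer (haC hw) he
  set S := c.E ⊔ fourGroup a with hS
  have hexp : ∀ w ∈ S, w * w = 1 := by
    intro w hw
    obtain ⟨e, he, v, hv, rfl⟩ := (mem_sup_of_commute hcm w).1 hw
    rw [(hcm e he v hv).symm.mul_mul_mul_comm e v, c.E_sq hF K he,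
      ((hF.mem_four K ha3 v).1 hv).1, one_mul]
  have hSC : S ≤ centralizer (c.E : Set G) := sup_le hEC haC
  have hSy : ∀ w ∈ S, c.y * w * c.y⁻¹ ∈ S := by
    intro w hw
    obtain ⟨e, he, v, hv, rfl⟩ := (mem_sup_of_commute hcm w).1 hw
    rw [show c.y * (e * v) * c.y⁻¹ = (c.y * e * c.y⁻¹) * (c.y * v * c.y⁻¹) by group]
    exact mul_mem_sup (conj_mem_of_mem_normalizer (c.P_le_N hF K c.hy) he)
      (hF.four_conj K ha3 (Or.inl (by
        rw [(c.hP.comm _ c.hy _ ha).eq, mul_inv_cancel_right])) hv)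
  have h31 : Nat.card S % 3 = 1 := by
    rw [hF.card_mod_three K c.y3 hSy, show S ⊓ centralizer ({c.y} : Set G) = fourGroup c.y from
      le_antisymm (fun w hw => (hF.mem_four K c.y3 w).2
        ⟨hexp w (mem_inf.1 hw).1, mem_centralizer_singleton_iff.1 (mem_inf.1 hw).2⟩)
        (le_inf (c.four_le_E.1.trans le_sup_left) (hF.four_le_centralizer K c.y3)),
      (hF.fourGroup_spec K c.y3).1]
  have hgt : 16 < Nat.card S := by
    rw [← hE16]
    refine lt_of_le_of_ne (Nat.le_of_dvd Nat.card_pos (card_dvd_of_le le_sup_left)) fun e => haE ?_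
    rw [Subgroup.eq_of_le_of_card_ge (le_sup_left : c.E ≤ S) e.ge]
    exact le_sup_right
  rcases two_pow_of_dvd ((card_dvd_of_le hSC).trans hd128) (by omega) h31 le_rfl with e | e | e
  · omega
  · omega
  · exact hF.no_elementary_64 K e hexp

theorem Config.Q_le_N : c.Q ≤ c.N := by
  classical
  have hyC : c.y ∈ centralizer ({c.t} : Set G) :=
    mem_centralizer_singleton_iff.2 (c.t_commute_y hF K).symm.eq
  set R := c.Q ⊓ c.N with hR
  have hER : c.E ≤ R := le_inf (c.E_le_Q hF K) Subgroup.le_normalizer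
  have hRy : ∀ x ∈ R, c.y * x * c.y⁻¹ ∈ R := fun x hx => by
    have hyN := c.P_le_N hF K c.hy
    exact mem_inf.2 ⟨conj_mem_of_mem_normalizer (c.hQn hyC) (mem_inf.1 hx).1,
      mul_mem (mul_mem hyN (mem_inf.1 hx).2) (inv_mem hyN)⟩
  have h31 : Nat.card R % 3 = 1 := by
    rw [hF.card_mod_three K c.y3 hRy, show R ⊓ centralizer ({c.y} : Set G) = fourGroup c.y from
      le_antisymm (c.hQfix ▸ inf_le_inf_right _ inf_le_left)
        (le_inf (c.four_le_E.1.trans hER) (hF.four_le_centralizer K c.y3)),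
      (hF.fourGroup_spec K c.y3).1]
  have hgt : 16 < Nat.card R := by
    have : Fact (Nat.Prime 2) := ⟨Nat.prime_two⟩
    have hp : IsPGroup 2 c.Q := IsPGroup.of_card (n := 6) (by rw [c.hQcard]; norm_num)
    have : Group.IsNilpotent c.Q := hp.isNilpotent
    have hlt : c.E.subgroupOf c.Q < ⊤ := by
      refine lt_top_iff_ne_top.2 fun e => ?_
      rw [subgroupOf_eq_top] at e
      have := card_dvd_of_le e
      rw [c.hQcard, c.card_E hF K] at this
      norm_num at this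
    obtain ⟨q, hq, hqE⟩ := SetLike.exists_of_lt
      (Group.normalizerCondition_of_isNilpotent (G := c.Q) _ hlt)
    have hqR : (q : G) ∈ R := mem_inf.2 ⟨q.2, mem_normalizer_of_conj fun x hx =>
      (conj_mem_of_mem_normalizer hq
        (show (⟨x, c.E_le_Q hF K hx⟩ : c.Q) ∈ c.E.subgroupOf c.Q from hx) :
          q * ⟨x, c.E_le_Q hF K hx⟩ * q⁻¹ ∈ c.E.subgroupOf c.Q)⟩
    rw [← c.card_E hF K]
    refine lt_of_le_of_ne (Nat.le_of_dvd Nat.card_pos (card_dvd_of_le hER)) fun e => hqE ?_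
    show (q : G) ∈ c.E
    rw [Subgroup.eq_of_le_of_card_ge hER e.ge]
    exact hqR
  have hd : Nat.card R ∣ 2 ^ 6 := by
    rw [show (2 : ℕ) ^ 6 = 64 from rfl, ← c.hQcard]
    exact card_dvd_of_le inf_le_left
  have h64 : Nat.card R = 64 := by
    rcases two_pow_of_dvd hd (by omega) h31 (by norm_num) with e | e | e <;> omega
  rw [← Subgroup.eq_of_le_of_card_ge (inf_le_left : R ≤ c.Q) (by rw [h64, c.hQcard])]
  exact inf_le_right

/-- The stabiliser of `t` in the normaliser has order 192 or 384. -/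
theorem Config.card_N_inf : Nat.card (c.N ⊓ centralizer ({c.t} : Set G) : Subgroup G) = 192 ∨
    Nat.card (c.N ⊓ centralizer ({c.t} : Set G) : Subgroup G) = 384 := by
  set M := c.N ⊓ centralizer ({c.t} : Set G) with hM
  have h1 : 64 ∣ Nat.card M := c.hQcard ▸ card_dvd_of_le (le_inf (c.Q_le_N hF K) c.hQle)
  have h2 : 3 ∣ Nat.card M := c.y3 ▸ Subgroup.orderOf_dvd_natCard M
    (mem_inf.2 ⟨c.P_le_N hF K c.hy,
      mem_centralizer_singleton_iff.2 (c.t_commute_y hF K).symm.eq⟩)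
  have h3 : Nat.card M ∣ 384 := (hF.involution K c.hto).1 ▸ card_dvd_of_le inf_le_right
  have h4 : Nat.card M ≤ 384 := Nat.le_of_dvd (by norm_num) h3
  have h5 : 192 ∣ Nat.card M := (by norm_num : Nat.Coprime 64 3).mul_dvd_of_dvd_of_dvd h1 h2
  have h6 : 0 < Nat.card M := Nat.card_pos
  omega

/-- The configuration with the roles of the two four groups exchanged. -/
theorem Config.exists_swap {s : G} (hs : s ∈ fourGroup c.b) (hs1 : s ≠ 1) :
    ∃ c' : Config G, c'.P = c.P ∧ c'.y = c.b ∧ c'.b = c.y ∧ c'.t = s ∧ c'.E = c.E := by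
  have hso : orderOf s = 2 := orderOf_two_of_sq ((hF.mem_four K c.b3 s).1 hs).1 hs1
  obtain ⟨Q, hQle, hQc, hQn, hQy, hKQ, hQfix⟩ := hF.exists_core K c.b3 hso hs
  exact ⟨⟨c.P, c.b, c.y, s, Q, c.hP, c.hb, c.hb1, c.hy, c.hy1, c.hyb, hs, hso,
    fun u hu v hv => (c.hcomm v hv u hu).symm, hQle, hQc, hQn, hQy, hKQ, hQfix⟩,
    rfl, rfl, rfl, rfl, sup_comm _ _⟩

end Cfsg.Agent.M22Order
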